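import Mathlib
import Cfsg.Agent.Lib.Helper10.BR0

/-!
# S0999 (Brauer–Reynolds), piece BR-G6a (helper28 for helper10)

`not_pgl`: a simple non-cyclic group is not isomorphic to `PGL(2, p)`, `p` an odd prime.
-/

set_option autoImplicit false

namespace Cfsg.Agent.Lib.Helper10.BR

open Matrix

/-- a simple non-cyclic group has only trivial homomorphisms into commutative groups -/
theorem g6a_hom_trivial {G : Type*} [Group G] [IsSimpleGroup G] (hG : ¬ IsCyclic G)
    {A : Type*} [CommGroup A] (φ : G →* A) (g : G) : φ g = 1 := by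
  rcases (MonoidHom.normal_ker φ).eq_bot_or_eq_top with h | h
  · exfalso
    have hinj : Function.Injective φ := (MonoidHom.ker_eq_bot_iff φ).mp h
    have hcomm : ∀ a b : G, a * b = b * a := fun a b =>
      hinj (by rw [map_mul, map_mul, mul_comm])
    obtain ⟨x, hx⟩ := exists_ne (1 : G)
    have hn : (Subgroup.zpowers x).Normal :=
      ⟨fun y hy z => by rw [hcomm z y, mul_inv_cancel_right]; exact hy⟩
    rcases hn.eq_bot_or_eq_top with h1 | h1
    · exact hx (Subgroup.zpowers_eq_bot.mp h1)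
    · apply hG
      refine ⟨⟨x, fun y => ?_⟩⟩
      have hy : y ∈ Subgroup.zpowers x := by
        rw [h1]
        exact Subgroup.mem_top y
      exact Subgroup.mem_zpowers_iff.mp hy
  · have hg : g ∈ φ.ker := by
      rw [h]
      exact Subgroup.mem_top g
    exact MonoidHom.mem_ker.mp hg

/-- for an odd prime `p` there is a non-square unit of `ZMod p` -/
theorem g6a_exists_nonsquare (p : ℕ) [Fact p.Prime] (hp : 2 < p) :
    ∃ a : (ZMod p)ˣ, a ∉ (powMonoidHom 2 : (ZMod p)ˣ →* (ZMod p)ˣ).range := by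
  by_contra hcon
  push Not at hcon
  have hsurj : Function.Surjective (powMonoidHom 2 : (ZMod p)ˣ →* (ZMod p)ˣ) := fun a => hcon a
  have hinj : Function.Injective (powMonoidHom 2 : (ZMod p)ˣ →* (ZMod p)ˣ) :=
    Finite.injective_iff_surjective.mpr hsurj
  have h1 : (powMonoidHom 2 : (ZMod p)ˣ →* (ZMod p)ˣ) (-1) =
      (powMonoidHom 2 : (ZMod p)ˣ →* (ZMod p)ˣ) 1 := by
    simp [powMonoidHom_apply]
  have h2 : (-1 : (ZMod p)ˣ) = 1 := hinj h1
  have h3 : ((-1 : (ZMod p)ˣ) : ZMod p) = ((1 : (ZMod p)ˣ) : ZMod p) := by rw [h2]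
  rw [Units.val_neg, Units.val_one] at h3
  have h4 : (2 : ZMod p) = 0 := by
    have : (1 : ZMod p) + 1 = 0 := by
      nth_rewrite 1 [← h3]
      ring
    rw [← this]
    norm_num
  have h5 : ((2 : ℕ) : ZMod p) = 0 := by exact_mod_cast h4
  rw [ZMod.natCast_eq_zero_iff] at h5
  exact absurd (Nat.le_of_dvd (by norm_num) h5) (by omega)

/-- BR-G6a -/
theorem not_pgl {G : Type*} [Group G] [Finite G] [IsSimpleGroup G] (hG : ¬ IsCyclic G)
    (p : ℕ) [Fact p.Prime] (hp : 2 < p)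
    (f : G ≃* Matrix.ProjGenLinGroup (Fin 2) (ZMod p)) : False := by
  obtain ⟨Sq, hSq⟩ : ∃ Sq : Subgroup (ZMod p)ˣ,
      Sq = (powMonoidHom 2 : (ZMod p)ˣ →* (ZMod p)ˣ).range := ⟨_, rfl⟩
  obtain ⟨ψ, hψ⟩ : ∃ ψ : GL (Fin 2) (ZMod p) →* (ZMod p)ˣ ⧸ Sq,
      ψ = (QuotientGroup.mk' Sq).comp Matrix.GeneralLinearGroup.det := ⟨_, rfl⟩
  have hker : Subgroup.center (GL (Fin 2) (ZMod p)) ≤ ψ.ker := by
    intro z hz
    rw [Matrix.GeneralLinearGroup.center_eq_range_scalar] at hz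
    obtain ⟨c, rfl⟩ := hz
    rw [MonoidHom.mem_ker, hψ, MonoidHom.comp_apply, QuotientGroup.mk'_apply,
      QuotientGroup.eq_one_iff, hSq]
    refine ⟨c, ?_⟩
    apply Units.ext
    simp [powMonoidHom_apply]
  -- the induced hom on PGL
  obtain ⟨a, ha⟩ := g6a_exists_nonsquare p hp
  have hφ := g6a_hom_trivial hG (A := (ZMod p)ˣ ⧸ Sq)
    ((QuotientGroup.lift (Subgroup.center (GL (Fin 2) (ZMod p))) ψ hker).comp
      (show G →* GL (Fin 2) (ZMod p) ⧸ Subgroup.center (GL (Fin 2) (ZMod p)) from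
        f.toMonoidHom))
    (f.symm (QuotientGroup.mk' _ (Matrix.GeneralLinearGroup.mkOfDetNeZero
      (Matrix.diagonal ![(a : ZMod p), 1]) (by simp))))
  rw [MonoidHom.comp_apply] at hφ
  have e1 : (show G →* GL (Fin 2) (ZMod p) ⧸ Subgroup.center (GL (Fin 2) (ZMod p)) from
        f.toMonoidHom) (f.symm (QuotientGroup.mk' _ (Matrix.GeneralLinearGroup.mkOfDetNeZero
      (Matrix.diagonal ![(a : ZMod p), 1]) (by simp)))) =
      QuotientGroup.mk' _ (Matrix.GeneralLinearGroup.mkOfDetNeZero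
      (Matrix.diagonal ![(a : ZMod p), 1]) (by simp)) := f.apply_symm_apply _
  rw [e1, QuotientGroup.mk'_apply, QuotientGroup.lift_mk, hψ, MonoidHom.comp_apply,
    QuotientGroup.mk'_apply, QuotientGroup.eq_one_iff, hSq] at hφ
  apply ha
  have e2 : Matrix.GeneralLinearGroup.det (Matrix.GeneralLinearGroup.mkOfDetNeZero
      (Matrix.diagonal ![(a : ZMod p), 1]) (by simp)) = a := by
    apply Units.ext
    simp [Matrix.det_diagonal]
  rwa [e2] at hφ

end Cfsg.Agent.Lib.Helper10.BR
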