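import Mathlib
import Cfsg.Agent.Lib.Helper25.InvDefs
import Cfsg.Agent.Lib.Helper69.BNR
import Cfsg.Agent.Lib.Helper75.CoxR

/-!
# Involutions of a group with a `(B, N)`-pair, piece IC (helper28, for helper25's S2175 / S2174)

An involution lying in a Bruhat cell of maximal length among the cells met by its conjugates:
the Weyl class `w` of the cell is an involution, and every fundamental reflection `s` is a right
descent of `w` or commutes with `w`.
-/

set_option autoImplicit false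

namespace Cfsg.Agent.Lib.Helper25

open Cfsg Cfsg.Agent.Lib.Helper8

section Abstract

variable {G : Type*} [Group G]

/-- IC -/
theorem inv_cell_dichotomy (P : BNPair G) (t : G) (ht : t * t = 1) (n : P.N)
    (g : G) (hg : g * t * g⁻¹ ∈ dc P (n : G)) (hmax : MaxCell P t n) :
    cl P n * cl P n = 1 ∧
    ∀ s ∈ SW P, len (SW P) (cl P n * s) < len (SW P) (cl P n) ∨ s * cl P n = cl P n * s := by
  have ht' : (g * t * g⁻¹) * (g * t * g⁻¹) = 1 := by
    calc (g * t * g⁻¹) * (g * t * g⁻¹) = g * (t * t) * g⁻¹ := by group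
      _ = 1 := by rw [ht]; group
  have htinv : (g * t * g⁻¹)⁻¹ = g * t * g⁻¹ := inv_eq_of_mul_eq_one_left ht'
  have hw : cl P n * cl P n = 1 := by
    have h1 : (g * t * g⁻¹)⁻¹ ∈ dc P ((n : G)⁻¹) := dc_inv_mem hg
    rw [htinv] at h1
    have h2 : dc P (n : G) = dc P (((n⁻¹ : P.N) : G)) := by
      rw [Subgroup.coe_inv]
      exact dc_eq_of_mem_of_mem hg h1
    have h3 : cl P n = cl P n⁻¹ := cl_eq_of_dc_eq P h2
    rw [cl_inv] at h3
    calc cl P n * cl P n = cl P n * (cl P n)⁻¹ := by rw [← h3]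
      _ = 1 := mul_inv_cancel _
  refine ⟨hw, ?_⟩
  have hwinv : (cl P n)⁻¹ = cl P n := inv_eq_of_mul_eq_one_left hw
  rintro s ⟨σ, hσ, rfl⟩
  have hsinv : (cl P (sN P hσ))⁻¹ = cl P (sN P hσ) :=
    inv_eq_of_mul_eq_one_left (cl_sN_sq P hσ)
  have hA : len (SW P) (cl P n * cl P (sN P hσ)) = len (SW P) (cl P (sN P hσ) * cl P n) := by
    have e : cl P n * cl P (sN P hσ) = (cl P (sN P hσ) * cl P n)⁻¹ := by
      rw [mul_inv_rev, hwinv, hsinv]
    rw [e, coxr_len_inv (SW_invGen P)]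
  by_cases hlt : len (SW P) (cl P n * cl P (sN P hσ)) < len (SW P) (cl P n)
  · exact Or.inl hlt
  right
  have hle : len (SW P) (cl P n) ≤ len (SW P) (cl P (sN P hσ) * cl P n) := by
    rw [← hA]
    exact not_lt.mp hlt
  obtain ⟨b1, hb1, b2, hb2, hb⟩ := mem_dc.1 hg
  have hσt : σ * (g * t * g⁻¹) ∈ dc P (σ * (n : G)) := by
    have h1 := dc_mul_right_mem hb2 (dc_mul_of_le P hσ n hle hb1)
    have e : σ * (g * t * g⁻¹) = σ * b1 * (n : G) * b2 := by
      rw [hb]
      group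
    rw [e]
    exact h1
  have hclaim : len (SW P) (cl P (sN P hσ) * cl P n * cl P (sN P hσ)) ≤
      len (SW P) (cl P (sN P hσ) * cl P n) := by
    by_contra hcon
    rw [not_le] at hcon
    have hlt' : len (SW P) (cl P (sN P hσ * n)) <
        len (SW P) (cl P (sN P hσ * n) * cl P (sN P hσ)) := hcon
    obtain ⟨c1, hc1, c2, hc2, hc⟩ := mem_dc.1 hσt
    have h1 := dc_mul_right_of_lt P hσ (sN P hσ * n) hlt' hc2
    have h2 := dc_mul_right_mem (S_sq_inv_mem P hσ) (dc_mul_left_mem hc1 h1)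
    have e : c1 * (((sN P hσ * n : P.N) : G) * c2 * σ) * (σ * σ)⁻¹ =
        (σ * g) * t * (σ * g)⁻¹ := by
      have e0 : ((sN P hσ * n : P.N) : G) = σ * (n : G) := rfl
      rw [e0]
      calc c1 * (σ * (n : G) * c2 * σ) * (σ * σ)⁻¹ = (c1 * (σ * (n : G)) * c2) * σ⁻¹ := by
            group
        _ = σ * (g * t * g⁻¹) * σ⁻¹ := by rw [← hc]
        _ = (σ * g) * t * (σ * g)⁻¹ := by group
    rw [e] at h2
    have h3 : len (SW P) (cl P (sN P hσ * n * sN P hσ)) ≤ len (SW P) (cl P n) :=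
      hmax (σ * g) (sN P hσ * n * sN P hσ) h2
    have h4 : len (SW P) (cl P (sN P hσ) * cl P n * cl P (sN P hσ)) ≤ len (SW P) (cl P n) := h3
    omega
  exact (SW_exchGen P).hC _ (mem_SW P hσ) _ (mem_SW P hσ) (cl P n) hle
    (by rw [hA]; exact hclaim)

end Abstract

end Cfsg.Agent.Lib.Helper25
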