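import Cfsg.Agent.Lib.Helper15.BG13CDefs
import Cfsg.Agent.Lib.Helper78.BG12P16D
import Cfsg.Agent.S1414
import Cfsg.Agent.S1416
import Cfsg.Agent.S1417
import Cfsg.Agent.S1424

/-!
# B&G Corollary 13.3(b) (row S1428, helper15), piece C-NT2
-/

set_option autoImplicit false

open Cfsg Cfsg.Agent.Lib.Helper32 Cfsg.Agent.Lib.Helper32.BG10 Cfsg.Agent.Lib.Helper3.BG12

namespace Cfsg.Agent.Lib.Helper15.BG13C

universe u

variable {G : Type u} [Group G] [Finite G]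

theorem nt2 : NT2Stmt G := by
  intro hG M H hM hH hMH q _ hqσ hτ P X hP1 hPσ hPM hXM hXH hXq hPX
  have h14 : Cfsg.Agent.Lib.Helper3.BG12.H14 G := fun M hM => Cfsg.Agent.S1414.result hG M hM
  have h16 : Cfsg.Agent.Lib.Helper3.BG12.H16 G :=
    fun M hM p _ A hA => Cfsg.Agent.S1416.result hG M hM p A hA
  have h17 : Cfsg.Agent.Lib.Helper3.BG12.H17 G :=
    fun M hM p _ hp A hA => Cfsg.Agent.S1417.result hG M hM p hp A hA
  have h18 := Cfsg.Agent.Lib.Helper3.BG12.h18_of hG h16 h17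
  have hq : q.Prime := Fact.out
  have hXpg : IsPGroup q X := IsPGroup.of_card (n := 1) (by rw [hXq, pow_one])
  have hX1 : X ≠ ⊥ := by
    rintro rfl
    rw [Subgroup.card_bot] at hXq
    exact hq.one_lt.ne hXq
  have hqH : q ∉ sigma H := hτ.2.1
  -- a Sylow q-subgroup of H containing X and a complement containing it
  obtain ⟨T, hT, hXT⟩ := exists_sylSet_ge hXpg hXH
  have hcop : (Nat.card T).Coprime (Nat.card (sigmaCore H)) :=
    Cfsg.Agent.Lib.Helper3.BG13T.coprime_of_sigma hG hqH (isPGroup_of_mem_sylSet hT) le_rfl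
  obtain ⟨E₁, hE₁, hTE₁⟩ := Cfsg.Agent.Lib.Helper3.BG13T.exists_compl_ge hG hH hT.1 hcop
  obtain ⟨A, hAE, hAel, hAcard⟩ := Cfsg.Agent.Lib.Helper3.BG13T.exists_tau2_elemAb hG hH hE₁ hτ
  have h18' := h18 H hH E₁ hE₁ q hτ A ⟨hAE, hAel, hAcard⟩
  have hXA : X ≤ A := h18'.1.2 X (hXT.trans hTE₁) hXq
  have hne : sigmaCore H ⊓ Subgroup.centralizer (X : Set G) ≠ ⊥ := by
    intro h
    apply hP1
    rw [eq_bot_iff, ← h]
    exact le_inf hPσ hPX
  obtain ⟨hCH, huniq⟩ := h18'.2.2 X hXA hXq hne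
  -- the normalizer of X is in H
  have hXtop : X ≠ ⊤ := by
    rintro rfl
    exact hH.1 (top_le_iff.mp hXH)
  obtain ⟨L', hL', hNL'⟩ := exists_coatom_ge (minSimple_normalizer_ne_top hG hX1 hXtop)
  have hL'H : L' = H := huniq L' hL' ((Subgroup.centralizer_le_normalizer _).trans hNL')
  have hNH : Subgroup.normalizer (X : Set G) ≤ H := hL'H ▸ hNL'
  -- a Sylow q-subgroup of M ⊓ H containing X
  obtain ⟨R, hR, hXR⟩ := exists_sylSet_ge hXpg (le_inf hXM hXH)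
  obtain ⟨S, hS⟩ := exists_sylow_of_mem_sylSet hR
  have h24 := Cfsg.Agent.S1424.result hG M hM q hqσ X hXpg hX1 hXM H hH (Ne.symm hMH) hNH S
    (by rw [hS]; exact hXR)
  have hnd : ¬ q ∣ R.relIndex H := by
    have := h24.2.2
    rw [hS] at this
    exact this
  have hnd' : ¬ q ∣ (M ⊓ H).relIndex H := fun h =>
    hnd (h.trans (Subgroup.relIndex_dvd_of_le_left H hR.1))
  have hRH : R ∈ sylSet q H :=
    Cfsg.Agent.Lib.Helper78.BG12.sylSet_of_not_dvd inf_le_right hnd' hR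
  obtain ⟨A', hA'R, hA'el, hA'card⟩ :=
    Cfsg.Agent.Lib.Helper3.BG12S.exists_elemAb2_le_sylSet hτ.2.2.2 hRH
  have hA'M : A' ≤ M := (hA'R.trans hR.1).trans inf_le_left
  have hA'H : A' ≤ H := (hA'R.trans hR.1).trans inf_le_right
  have h17' := (h17 H hH q hτ A' ⟨hA'H, hA'el, hA'card⟩).2.2.2.2.1 M hM hMH hA'M
  apply hP1
  rw [eq_bot_iff, ← h17']
  exact le_inf hPσ hPM

end Cfsg.Agent.Lib.Helper15.BG13C
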