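import Mathlib
import Cfsg.Agent.Lib.Helper10.BWDefs

/-!
# S0997 case B2 (project BW, helper10): piece BW-INVC

`|P| = p`, `C(P) = P`, `|N(P)| = e p` with `e` even: every `x ∈ P` is `N(P)`-conjugate to `x⁻¹`
(an involution of `N(P)` inverts `P`).
-/

set_option autoImplicit false
set_option linter.style.haveILetI false

namespace Cfsg.Agent.Lib.Helper10.BW

open Cfsg

universe u

variable {G : Type u} [Group G] [Fintype G]

/-- BW-INVC -/
theorem inv_conj (p e : ℕ) (hp : p.Prime) (P : Subgroup G) (hP : Nat.card P = p)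
    (hC : Subgroup.centralizer (P : Set G) = P)
    (hN : Nat.card (Subgroup.normalizer (P : Set G)) = e * p) (he : Even e) :
    ∀ x ∈ P, ∃ n ∈ Subgroup.normalizer (P : Set G), n * x * n⁻¹ = x⁻¹ := by
  intro x hx
  haveI : Fact p.Prime := ⟨hp⟩
  by_cases hp2 : p = 2
  · refine ⟨1, Subgroup.one_mem _, ?_⟩
    have h1 : (⟨x, hx⟩ : P) ^ Nat.card P = 1 := pow_card_eq_one'
    rw [hP, hp2] at h1
    have h2 : x ^ 2 = 1 := by simpa using congrArg Subtype.val h1
    rw [one_mul, inv_one, mul_one]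
    exact eq_inv_of_mul_eq_one_left (by rw [← pow_two]; exact h2)
  · -- an involution of the normalizer
    haveI : Fact (Nat.Prime 2) := ⟨Nat.prime_two⟩
    have h2N : 2 ∣ Nat.card (Subgroup.normalizer (P : Set G)) := by
      rw [hN]
      exact Dvd.dvd.mul_right he.two_dvd p
    obtain ⟨τ, hτ⟩ := exists_prime_orderOf_dvd_card' 2 h2N
    obtain ⟨t, ht⟩ : ∃ t : G, t = (τ : G) := ⟨_, rfl⟩
    have htN : t ∈ Subgroup.normalizer (P : Set G) := by
      rw [ht]
      exact τ.2
    have hto : orderOf t = 2 := by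
      rw [ht, Subgroup.orderOf_coe]
      exact hτ
    have ht2 : t * t = 1 := by
      rw [← pow_two, ← hto]
      exact pow_orderOf_eq_one t
    have htinv : t⁻¹ = t := inv_eq_of_mul_eq_one_left ht2
    have htP : t ∉ P := by
      intro h
      have h1 : orderOf (⟨t, h⟩ : P) ∣ Nat.card P := orderOf_dvd_natCard _
      rw [Subgroup.orderOf_mk, hto, hP] at h1
      exact hp2 ((Nat.prime_dvd_prime_iff_eq Nat.prime_two hp).mp h1).symm
    have hcomm : ∀ a ∈ P, ∀ b ∈ P, a * b = b * a := by
      intro a ha b hb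
      have h1 : b ∈ Subgroup.centralizer (P : Set G) := by
        rw [hC]
        exact hb
      exact Subgroup.mem_centralizer_iff.mp h1 a ha
    have hx' : t * x * t⁻¹ ∈ P := (Subgroup.mem_set_normalizer_iff.mp htN x).mp hx
    refine ⟨t, htN, ?_⟩
    by_contra hne
    have hy : x * (t * x * t⁻¹) ∈ P := P.mul_mem hx hx'
    have hy1 : x * (t * x * t⁻¹) ≠ 1 := fun h => hne (eq_inv_of_mul_eq_one_right h)
    have hty : t * (x * (t * x * t⁻¹)) = x * (t * x * t⁻¹) * t := by
      have h1 : t * (x * (t * x * t⁻¹)) = (t * x * t⁻¹) * x * t := by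
        rw [htinv]
        simp only [mul_assoc]
      rw [h1, hcomm _ hx' x hx]
    apply htP
    rw [← hC, Subgroup.mem_centralizer_iff]
    intro b hb
    have hb0 : b ∈ P := hb
    have hmem : (⟨b, hb0⟩ : P) ∈ Subgroup.zpowers (⟨x * (t * x * t⁻¹), hy⟩ : P) :=
      mem_zpowers_of_prime_card hP (fun h => hy1 (congrArg Subtype.val h))
    obtain ⟨k, hk⟩ := Subgroup.mem_zpowers_iff.mp hmem
    have hb' : b = (x * (t * x * t⁻¹)) ^ k := by
      have h3 := congrArg Subtype.val hk
      simpa using h3.symm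
    rw [hb']
    have hc : Commute t (x * (t * x * t⁻¹)) := hty
    exact (hc.zpow_right k).symm.eq

end Cfsg.Agent.Lib.Helper10.BW
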