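import Cfsg.Agent.Lib.Helper26.DcDefs

set_option autoImplicit false

/-! Piece DC-MUL: `|B s n B| |B| ≤ |B s B| |B n B|`, and the same along a word. -/

namespace Cfsg.Agent.Lib.Helper26.DcAbs

variable {Γ : Type*} [Group Γ]

/-- chosen left factor of an element of the double coset -/
noncomputable def dcmul_left (B : Subgroup Γ) (x : Γ) (g : dc B x) : Γ :=
  Classical.choose (mem_dc.1 g.2)

/-- chosen right factor of an element of the double coset -/
noncomputable def dcmul_right (B : Subgroup Γ) (x : Γ) (g : dc B x) : Γ :=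
  Classical.choose (Classical.choose_spec (mem_dc.1 g.2)).2

theorem dcmul_left_mem (B : Subgroup Γ) (x : Γ) (g : dc B x) : dcmul_left B x g ∈ B :=
  (Classical.choose_spec (mem_dc.1 g.2)).1

theorem dcmul_right_mem (B : Subgroup Γ) (x : Γ) (g : dc B x) : dcmul_right B x g ∈ B :=
  (Classical.choose_spec (Classical.choose_spec (mem_dc.1 g.2)).2).1

theorem dcmul_eq (B : Subgroup Γ) (x : Γ) (g : dc B x) :
    (g : Γ) = dcmul_left B x g * x * dcmul_right B x g :=
  (Classical.choose_spec (Classical.choose_spec (mem_dc.1 g.2)).2).2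

/-- the injection `dc (s n) × B → dc s × dc n` -/
noncomputable def dcmul_map (B : Subgroup Γ) (s n : Γ) (p : dc B (s * n) × B) :
    dc B s × dc B n :=
  (⟨dcmul_left B (s * n) p.1 * s * (p.2 : Γ),
      mem_dc.2 ⟨_, dcmul_left_mem B (s * n) p.1, _, p.2.2, rfl⟩⟩,
   ⟨(p.2 : Γ)⁻¹ * n * dcmul_right B (s * n) p.1,
      mem_dc.2 ⟨_, B.inv_mem p.2.2, _, dcmul_right_mem B (s * n) p.1, rfl⟩⟩)

theorem dcmul_map_injective (B : Subgroup Γ) (s n : Γ) :
    Function.Injective (dcmul_map B s n) := by
  rintro ⟨g, b⟩ ⟨g', b'⟩ h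
  have h1 : dcmul_left B (s * n) g * s * (b : Γ) = dcmul_left B (s * n) g' * s * (b' : Γ) :=
    congrArg (fun q : dc B s × dc B n => (q.1 : Γ)) h
  have h2 : (b : Γ)⁻¹ * n * dcmul_right B (s * n) g
      = (b' : Γ)⁻¹ * n * dcmul_right B (s * n) g' :=
    congrArg (fun q : dc B s × dc B n => (q.2 : Γ)) h
  have hg : (g : Γ) = (g' : Γ) := by
    have e1 : (g : Γ) = (dcmul_left B (s * n) g * s * (b : Γ))
        * ((b : Γ)⁻¹ * n * dcmul_right B (s * n) g) := by
      rw [dcmul_eq B (s * n) g]; group
    have e2 : (g' : Γ) = (dcmul_left B (s * n) g' * s * (b' : Γ))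
        * ((b' : Γ)⁻¹ * n * dcmul_right B (s * n) g') := by
      rw [dcmul_eq B (s * n) g']; group
    rw [e1, e2, h1, h2]
  have hg' : g = g' := Subtype.ext hg
  subst hg'
  have hb : (b : Γ) = (b' : Γ) := mul_left_cancel h1
  have hb' : b = b' := Subtype.ext hb
  subst hb'
  rfl

/-- piece DC-MUL: `|B s n B| |B| ≤ |B s B| |B n B|` -/
theorem dc_card_mul_le [Finite Γ] (B : Subgroup Γ) (s n : Γ) :
    Nat.card (dc B (s * n)) * Nat.card B ≤ Nat.card (dc B s) * Nat.card (dc B n) := by
  have h := Nat.card_le_card_of_injective (dcmul_map B s n) (dcmul_map_injective B s n)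
  rwa [Nat.card_prod, Nat.card_prod] at h

/-- piece DC-MUL (second half): the same along a word -/
theorem dc_card_word_le [Finite Γ] (B : Subgroup Γ) (L : List Γ) (n : Γ) :
    Nat.card (dc B (L.prod * n)) * Nat.card B ^ L.length ≤
      (L.map fun s => Nat.card (dc B s)).prod * Nat.card (dc B n) := by
  induction L with
  | nil => simp
  | cons s L ih =>
    rw [List.prod_cons, List.map_cons, List.prod_cons, List.length_cons, mul_assoc s, pow_succ]
    have h1 := dc_card_mul_le B s (L.prod * n)
    calc Nat.card (dc B (s * (L.prod * n))) * (Nat.card B ^ L.length * Nat.card B)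
        = (Nat.card (dc B (s * (L.prod * n))) * Nat.card B) * Nat.card B ^ L.length := by ring
      _ ≤ (Nat.card (dc B s) * Nat.card (dc B (L.prod * n))) * Nat.card B ^ L.length :=
          Nat.mul_le_mul_right _ h1
      _ = Nat.card (dc B s) * (Nat.card (dc B (L.prod * n)) * Nat.card B ^ L.length) := by ring
      _ ≤ Nat.card (dc B s) * ((L.map fun s => Nat.card (dc B s)).prod * Nat.card (dc B n)) :=
          Nat.mul_le_mul_left _ ih
      _ = Nat.card (dc B s) * (L.map fun s => Nat.card (dc B s)).prod * Nat.card (dc B n) := by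
          ring

end Cfsg.Agent.Lib.Helper26.DcAbs
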