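import Mathlib
import Cfsg.Agent.Lib.Helper22.HPDefs
import Cfsg.Agent.Lib.Helper22.HPDefs2
import Cfsg.Agent.Lib.Helper4.CharDecomp
import Cfsg.Agent.Lib.Helper4.CharDual
import Cfsg.Agent.Lib.Helper4.BrSpan
import Cfsg.Agent.Lib.Helper83.IrrBasic
import Cfsg.Agent.Lib.Helper83.Twist
import Cfsg.Agent.Lib.Helper83.Central
import Cfsg.Agent.Lib.Helper82.CharCore
import Cfsg.Agent.Lib.Helper83.HPKFZ
import Cfsg.Agent.Lib.Helper31.HPETA
import Cfsg.Agent.Lib.Helper57.HPEXACT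
import Cfsg.Agent.Lib.Helper22.BFMain

/-!
# S4504 (helper22's HP project): piece HP-STAR-LAN2

Every constituent of `Pi2 = χ χ̄'` is trivial on the centre and is of value `-1` with degree
`p - 1`, or exceptional (values `η`) of degree `e`.
-/

set_option autoImplicit false
set_option linter.style.haveILetI false
set_option linter.unusedVariables false

namespace Cfsg.Agent.Lib.Helper28.HPT

open Cfsg Cfsg.Agent.Lib.Helper22.BFD Cfsg.Agent.Lib.Helper22.HPD
open scoped ComplexConjugate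

universe u

/-- constituents of `Pi2` are trivial on the centre -/
theorem lan2_trivZ {G : Type u} [Group G] [Fintype G] (p : ℕ) [Fact p.Prime]
    (hnn : ∀ H : Subgroup G, H.Normal → Nat.card H ≠ p)
    (χ : IrrCharacter G) (z : G) (ζ : ℂ)
    (hHP : HP p ζ z χ.1) (k : ℕ) (hk : GalExp p G k) (φ : IrrCharacter G)
    (hm : classInner (Pi2 χ.1 k) φ.1 ≠ 0) : TrivZ φ.1 := by
  classical
  intro u hu
  have hureg : ¬ p ∣ orderOf u := by
    have h := (Cfsg.Agent.Lib.Helper83.HPT.hp_kfz p hnn χ.1 z ζ hHP u).mpr hu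
    unfold Kf at h
    exact (Finset.mem_filter.mp h).2.2
  have huk : u ^ k = u := hk.reg u hureg
  have hχ1 : χ.1 1 ≠ 0 := Cfsg.Agent.Lib.Helper83.irr_one_ne_zero χ.2
  have hφ1 : φ.1 1 ≠ 0 := Cfsg.Agent.Lib.Helper83.irr_one_ne_zero φ.2
  have hnorm := Cfsg.Agent.Lib.Helper83.irr_central_norm χ u hu
  obtain ⟨hpos, hdeg⟩ := Cfsg.Agent.Lib.Helper83.irr_degree χ.2
  set c : ℂ := χ.1 u / χ.1 1 with hc
  have hcn : ‖c‖ = 1 := by
    rw [hc, norm_div, hnorm, hdeg, Complex.norm_natCast]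
    exact div_self (by exact_mod_cast hpos.ne')
  have hcc : c * conj c = 1 := by
    rw [Complex.mul_conj, Complex.normSq_eq_norm_sq, hcn]
    simp
  have hP : ∀ g : G, Pi2 χ.1 k (u * g) = Pi2 χ.1 k g := by
    intro g
    unfold Pi2
    have hcomm : Commute u g := (Subgroup.mem_center_iff.mp hu g).symm
    have h1 : (u * g) ^ k = u * g ^ k := by rw [hcomm.mul_pow, huk]
    rw [h1]
    have h2 := Cfsg.Agent.Lib.Helper83.irr_central_mul χ u hu g
    have h3 := Cfsg.Agent.Lib.Helper83.irr_central_mul χ u hu (g ^ k)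
    have h4 : χ.1 (u * g) = c * χ.1 g := by
      rw [hc, div_mul_eq_mul_div]
      exact eq_div_of_mul_eq hχ1 h2
    have h5 : χ.1 (u * g ^ k) = c * χ.1 (g ^ k) := by
      rw [hc, div_mul_eq_mul_div]
      exact eq_div_of_mul_eq hχ1 h3
    rw [h4, h5, map_mul]
    calc c * χ.1 g * (conj c * conj (χ.1 (g ^ k)))
        = (c * conj c) * (χ.1 g * conj (χ.1 (g ^ k))) := by ring
      _ = χ.1 g * conj (χ.1 (g ^ k)) := by rw [hcc, one_mul]
  set d : ℂ := φ.1 u / φ.1 1 with hd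
  have hφu : ∀ g : G, φ.1 (u * g) = d * φ.1 g := by
    intro g
    have h2 := Cfsg.Agent.Lib.Helper83.irr_central_mul φ u hu g
    rw [hd, div_mul_eq_mul_div]
    exact eq_div_of_mul_eq hφ1 h2
  set S : ℂ := ∑ g : G, Pi2 χ.1 k g * conj (φ.1 g) with hS
  have hS0 : S ≠ 0 := by
    intro h0
    apply hm
    unfold classInner
    rw [← hS, h0, mul_zero]
  have hS2 : S = conj d * S := by
    have h1 : S = ∑ g : G, Pi2 χ.1 k (u * g) * conj (φ.1 (u * g)) := by
      rw [hS]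
      exact (Fintype.sum_equiv (Equiv.mulLeft u) _ _ (fun g => rfl)).symm
    have h2 : ∑ g : G, Pi2 χ.1 k (u * g) * conj (φ.1 (u * g)) = conj d * S := by
      rw [hS, Finset.mul_sum]
      refine Finset.sum_congr rfl fun g _ => ?_
      rw [hP, hφu, map_mul]
      ring
    exact h1.trans h2
  have hd1 : conj d = 1 := by
    have h1 : (conj d - 1) * S = 0 := by
      rw [sub_mul, one_mul, ← hS2, sub_self]
    rcases mul_eq_zero.mp h1 with h | h
    · exact sub_eq_zero.mp h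
    · exact absurd h hS0
  have hd2 : d = 1 := by
    have := congrArg conj hd1
    rwa [Complex.conj_conj, map_one] at this
  rw [hd] at hd2
  exact (div_eq_one_iff_eq hφ1).mp hd2

/-- `sP (Pi2) = 0` -/
theorem lan2_sP_pi2 {G : Type u} [Group G] [Fintype G] (p : ℕ) [Fact p.Prime] (hp2 : p ≠ 2)
    (χ : G → ℂ) (z : G) (ζ : ℂ) (hHP : HP p ζ z χ) (k : ℕ) (hs0 : (k : ZMod p) ≠ 0)
    (hs : (k : ZMod p) ∉ Sq p) : sP p z (Pi2 χ k) = 0 := by
  obtain ⟨-, -, -, -, -, hη⟩ := Cfsg.Agent.Lib.Helper31.HPT.eta_facts p hp2 ζ hHP.hζ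
  have h1 := (hη (k : ZMod p) hs0 hs).1
  rw [← h1]
  unfold sP Pi2
  refine Finset.sum_congr rfl fun t _ => ?_
  have h2 : (z ^ t.val) ^ k = z ^ ((k : ZMod p) * t).val := by
    rw [← pow_mul, ← pow_mod_orderOf z (t.val * k), hHP.hz]
    congr 1
    rw [ZMod.val_mul, ZMod.val_natCast, Nat.mod_mul_mod, mul_comm]
  rw [h2, hHP.hval, hHP.hval]

/-- LAN2 from the trichotomy and EXACT -/
theorem hp_lan2_of {G : Type u} [Group G] [Fintype G] (p : ℕ) [Fact p.Prime]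
    (hdiv : p ∣ Nat.card G)
    (hnn : ∀ H : Subgroup G, H.Normal → Nat.card H ≠ p)
    (χ : IrrCharacter G)
    (e : ℕ) (he : charDegree χ.1 = e) (hdeg : 2 * e + 1 = p) (z : G) (ζ : ℂ)
    (hHP : HP p ζ z χ.1) (k : ℕ) (hk : GalExp p G k) (φ : IrrCharacter G)
    (hm : classInner (Pi2 χ.1 k) φ.1 ≠ 0)
    (hX : ∀ ψ : IrrCharacter G, ∃ γ α β : ℕ, ∀ t : ZMod p, ψ.1 (z ^ t.val) =
      (γ : ℂ) + (α : ℂ) * eta p ζ t + (β : ℂ) * eta p ζ ((k : ZMod p) * t))
    (hT : Tri p z φ.1) :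
    TrivZ φ.1 ∧ ((IsEm p z φ.1 ∧ charDegree φ.1 = p - 1) ∨
      (IsXm p ζ z k φ.1 ∧ charDegree φ.1 = e)) := by
  classical
  have hp : p.Prime := Fact.out
  have hZ := lan2_trivZ p hnn χ z ζ hHP k hk φ hm
  refine ⟨hZ, ?_⟩
  haveI : Finite (IrrCharacter G) := Cfsg.Agent.Lib.Helper82.finite_irrCharacter G
  letI : Fintype (IrrCharacter G) := Fintype.ofFinite _
  obtain ⟨hd1, hd0⟩ := Cfsg.Agent.Lib.Helper82.irr_charDegree χ
  have he1 : 1 ≤ e := by omega
  have hp2 : p ≠ 2 := by omega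
  have hs0 : (k : ZMod p) ≠ 0 := by
    intro h0
    have h2 : p ∣ k := (ZMod.natCast_eq_zero_iff k p).mp h0
    have h3 : p ∣ Nat.gcd k (Nat.card G) := Nat.dvd_gcd h2 hdiv
    rw [hk.cop] at h3
    exact hp.one_lt.ne' (Nat.dvd_one.mp h3)
  obtain ⟨hcard, heta0, hsum0, -, -, hη⟩ :=
    Cfsg.Agent.Lib.Helper31.HPT.eta_facts p hp2 ζ hHP.hζ
  have hepe : (p - 1) / 2 = e := by omega
  have hsum0' : ∑ t : ZMod p, eta p ζ ((k : ZMod p) * t) = 0 := by
    rw [← hsum0]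
    exact Fintype.sum_equiv (Equiv.mulLeft₀ (k : ZMod p) hs0) _ _ (fun t => rfl)
  choose γ α β hgab using hX
  have hsPψ : ∀ ψ : IrrCharacter G, sP p z ψ.1 = (p : ℂ) * (γ ψ : ℂ) := by
    intro ψ
    unfold sP
    simp_rw [hgab ψ]
    rw [Finset.sum_add_distrib, Finset.sum_add_distrib, ← Finset.mul_sum, ← Finset.mul_sum,
      hsum0, hsum0', mul_zero, mul_zero, add_zero, add_zero, Finset.sum_const, Finset.card_univ,
      ZMod.card, nsmul_eq_mul]
  -- the decomposition of `Pi2`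
  have hchar : IsCharacter G (Pi2 χ.1 k) := by
    have h1 : IsCharacter G χ.1 := by
      obtain ⟨n, ρ, -, h⟩ := χ.2
      exact ⟨n, ρ, h⟩
    have h2 : IsCharacter G (fun g => conj (χ.1 (g ^ k))) := by
      apply Cfsg.Agent.Lib.Helper4.isCharacter_conj
      obtain ⟨n, ρ, -, h⟩ := hk.irr χ
      exact ⟨n, ρ, h⟩
    exact Cfsg.Agent.Lib.Helper4.isCharacter_mul _ _ h1 h2
  obtain ⟨m, hmdec⟩ := Cfsg.Agent.Lib.Helper4.exists_decomp_of_isCharacter _ hchar
  have hmφ : classInner (Pi2 χ.1 k) φ.1 = (m φ : ℂ) := by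
    rw [hmdec]
    exact Cfsg.Agent.Lib.Helper4.classInner_sum_irr (fun ψ => (m ψ : ℂ)) φ
  have hmφ0 : m φ ≠ 0 := by
    intro h0
    apply hm
    rw [hmφ, h0]
    simp
  have hval : ∀ g : G, Pi2 χ.1 k g = ∑ ψ : IrrCharacter G, (m ψ : ℂ) * ψ.1 g := by
    intro g
    rw [hmdec]
    simp [Finset.sum_apply]
  have hsP2 : sP p z (Pi2 χ.1 k) = ∑ ψ : IrrCharacter G, (m ψ : ℂ) * sP p z ψ.1 := by
    unfold sP
    simp_rw [hval, Finset.mul_sum]
    exact Finset.sum_comm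
  have hzero : ∑ ψ : IrrCharacter G, m ψ * (p * γ ψ) = 0 := by
    have h1 : ((∑ ψ : IrrCharacter G, m ψ * (p * γ ψ) : ℕ) : ℂ) = 0 := by
      push_cast
      rw [← lan2_sP_pi2 p hp2 χ.1 z ζ hHP k hs0 hk.nsq, hsP2]
      refine Finset.sum_congr rfl fun ψ _ => ?_
      rw [hsPψ]
    exact_mod_cast h1
  have hγ : γ φ = 0 := by
    have h1 := (Finset.sum_eq_zero_iff.mp hzero) φ (Finset.mem_univ _)
    rcases Nat.mul_eq_zero.mp h1 with h | h
    · exact absurd h hmφ0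
    · rcases Nat.mul_eq_zero.mp h with h | h
      · exact absurd h hp.ne_zero
      · exact h
  have hsPφ : sP p z φ.1 = 0 := by
    rw [hsPψ, hγ]
    simp
  obtain ⟨hφd1, hφd0⟩ := Cfsg.Agent.Lib.Helper82.irr_charDegree φ
  have hφ1 : φ.1 1 ≠ 0 := Cfsg.Agent.Lib.Helper83.irr_one_ne_zero φ.2
  have hsplit : sP p z φ.1 = φ.1 1 +
      ∑ t ∈ Finset.univ.filter (fun t : ZMod p => t ≠ 0), φ.1 (z ^ t.val) := by
    unfold sP
    rw [← Finset.add_sum_erase Finset.univ _ (Finset.mem_univ (0 : ZMod p))]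
    congr 1
    · rw [ZMod.val_zero, pow_zero]
    · refine Finset.sum_congr ?_ (fun _ _ => rfl)
      ext t
      simp
  have hcnt : (Finset.univ.filter (fun t : ZMod p => t ≠ 0)).card = p - 1 := by
    rw [Finset.filter_ne' Finset.univ (0 : ZMod p), Finset.card_erase_of_mem (Finset.mem_univ _),
      Finset.card_univ, ZMod.card]
  have hKf := Cfsg.Agent.Lib.Helper83.HPT.hp_kfz p hnn χ.1 z ζ hHP
  have h1K : (1 : G) ∈ Kf p z := (hKf 1).mpr (Subgroup.one_mem _)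
  have hEf : Ef p z = Sq p := by
    ext a
    unfold Ef
    rw [Finset.mem_filter]
    exact ⟨fun h => (hHP.hE a).mp h.2, fun h => ⟨Finset.mem_univ _, (hHP.hE a).mpr h⟩⟩
  have hEfc : (Ef p z).card = e := by rw [hEf, hcard, hepe]
  have hxm : charDegree φ.1 = e → IsXm p ζ z k φ.1 := by
    intro hdE
    have h0 := hgab φ 0
    rw [ZMod.val_zero, pow_zero, mul_zero, heta0, hγ, hepe, ← hφd1, hdE] at h0
    have h1 : e = (α φ + β φ) * e := by
      have : ((e : ℕ) : ℂ) = (((α φ + β φ) * e : ℕ) : ℂ) := by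
        rw [h0]
        push_cast
        ring
      exact_mod_cast this
    have h2 : α φ + β φ = 1 := by
      have h3 : (α φ + β φ) * e = 1 * e := by rw [one_mul]; exact h1.symm
      exact Nat.eq_of_mul_eq_mul_right (by omega) h3
    have h3 : (α φ = 1 ∧ β φ = 0) ∨ (α φ = 0 ∧ β φ = 1) := by omega
    rcases h3 with ⟨ha, hb⟩ | ⟨ha, hb⟩
    · left
      intro t ht
      rw [hgab φ t, hγ, ha, hb]
      simp
    · right
      intro t ht
      rw [hgab φ t, hγ, ha, hb]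
      simp
  rcases hT with hF | ⟨ε, hε, hE⟩ | ⟨-, hs | hs⟩
  · -- flat
    exfalso
    rw [hsplit] at hsPφ
    have h0 : ∀ t : ZMod p, t ≠ 0 → φ.1 (z ^ t.val) = 0 := by
      intro t ht
      have h1 := hF t ht
      have h2 : ∀ y ∈ Kf p z, φ.1 (z ^ t.val * y) = φ.1 (z ^ t.val) := by
        intro y hy
        have hyc := (hKf y).mp hy
        have h3 := Cfsg.Agent.Lib.Helper83.irr_central_mul φ y hyc (z ^ t.val)
        rw [hZ y hyc] at h3
        have h4 : φ.1 (y * z ^ t.val) = φ.1 (z ^ t.val) := by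
          apply mul_right_cancel₀ hφ1
          rw [h3, mul_comm]
        rw [← h4, Subgroup.mem_center_iff.mp hyc (z ^ t.val)]
      rw [Finset.sum_congr rfl h2, Finset.sum_const, nsmul_eq_mul] at h1
      rcases mul_eq_zero.mp h1 with h | h
      · exfalso
        have hne : (Kf p z).card ≠ 0 := Finset.card_ne_zero.mpr ⟨1, h1K⟩
        exact hne (by exact_mod_cast h)
      · exact h
    rw [Finset.sum_eq_zero (fun t ht => h0 t (Finset.mem_filter.mp ht).2), add_zero] at hsPφ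
    exact hφ1 hsPφ
  · rw [hsplit] at hsPφ
    have h1 : ∀ t : ZMod p, t ≠ 0 → φ.1 (z ^ t.val) = ε := fun t ht => by
      simpa using hE t ht 1 h1K
    rw [Finset.sum_congr rfl (fun t ht => h1 t (Finset.mem_filter.mp ht).2), Finset.sum_const,
      hcnt, ← hφd1, nsmul_eq_mul] at hsPφ
    rcases hε with rfl | rfl
    · -- value `1`
      exfalso
      rw [mul_one] at hsPφ
      have h2 : charDegree φ.1 + (p - 1) = 0 := by exact_mod_cast hsPφ
      omega
    · -- value `-1`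
      left
      refine ⟨h1, ?_⟩
      rw [mul_neg, mul_one, ← sub_eq_add_neg, sub_eq_zero] at hsPφ
      exact_mod_cast hsPφ
  · -- `sP = φ 1 + |E|`
    exfalso
    rw [hsPφ, ← hφd1] at hs
    have h2 : charDegree φ.1 + (Ef p z).card = 0 := by exact_mod_cast hs.symm
    omega
  · -- `sP = φ 1 - |E|`
    right
    rw [hsPφ, ← hφd1] at hs
    have hdE : charDegree φ.1 = e := by
      rw [← hEfc]
      have h2 : ((charDegree φ.1 : ℕ) : ℂ) = (((Ef p z).card : ℕ) : ℂ) := (sub_eq_zero.mp hs.symm)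
      exact_mod_cast h2
    exact ⟨hxm hdE, hdE⟩

/-- PIECE LAN2: the constituents of `Pi2` -/
theorem hp_lan2 {G : Type u} [Group G] [Fintype G] (p : ℕ) [Fact p.Prime] (hp5 : 5 ≤ p)
    (hdiv : p ∣ Nat.card G) (hsq : ¬ p ^ 2 ∣ Nat.card G)
    (hnn : ∀ H : Subgroup G, H.Normal → Nat.card H ≠ p)
    (χ : IrrCharacter G) (hfaith : ∀ g : G, χ.1 g = χ.1 1 → g = 1)
    (e : ℕ) (he : charDegree χ.1 = e) (hdeg : 2 * e + 1 = p) (z : G) (ζ : ℂ)
    (hHP : HP p ζ z χ.1) (k : ℕ) (hk : GalExp p G k) (φ : IrrCharacter G)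
    (hm : classInner (Pi2 χ.1 k) φ.1 ≠ 0) :
    TrivZ φ.1 ∧ ((IsEm p z φ.1 ∧ charDegree φ.1 = p - 1) ∨
      (IsXm p ζ z k φ.1 ∧ charDegree φ.1 = e)) :=
  hp_lan2_of p hdiv hnn χ e he hdeg z ζ hHP k hk φ hm
    (fun ψ => Cfsg.Agent.Lib.Helper57.HPT.hp_exact p hdiv χ.1 z ζ hHP k hk ψ)
    (Cfsg.Agent.Lib.Helper22.BFT.tri_all p hdiv hsq φ z hHP.hz)

end Cfsg.Agent.Lib.Helper28.HPT
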