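import Mathlib
import Cfsg.Agent.Lib.Helper58.JUDefs

/-! Project JU (helper58, S2950), piece ORB: basic facts on the `N_G(J(T))`-conjugates of `K`. -/

set_option autoImplicit false

namespace Cfsg.Agent.Lib.Helper28.JU

open Cfsg.Agent.Lib.Helper58.JU Cfsg.Agent.Lib.Helper72.JL Cfsg.Agent.Lib.Helper72.SC
  Cfsg.Agent.Lib.Helper72.JM Cfsg.Agent.Lib.Helper72.JP Cfsg.Agent.Lib.Helper78.JN
  Cfsg.Agent.Lib.Helper78.Jc
open scoped commutatorElement

universe u

/-- `⁅H₁, H₂⁆` is normalized by `H₂` -/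
theorem orb_comm_norm {G : Type*} [Group G] (H₁ H₂ : Subgroup G) :
    H₂ ≤ Subgroup.normalizer ((⁅H₁, H₂⁆ : Subgroup G) : Set G) := by
  have key : ∀ j ∈ H₂, ∀ g ∈ ⁅H₁, H₂⁆, j * g * j⁻¹ ∈ ⁅H₁, H₂⁆ := by
    intro j hj
    have h1 : ⁅H₁, H₂⁆ ≤ (⁅H₁, H₂⁆ : Subgroup G).comap (MulAut.conj j).toMonoidHom := by
      rw [Subgroup.commutator_le]
      intro k hk j' hj'
      rw [Subgroup.mem_comap]
      show j * ⁅k, j'⁆ * j⁻¹ ∈ ⁅H₁, H₂⁆
      have h2 : j * ⁅k, j'⁆ * j⁻¹ = ⁅k, j⁆⁻¹ * ⁅k, j * j'⁆ := by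
        simp only [commutatorElement_def]
        group
      rw [h2]
      exact Subgroup.mul_mem _ (Subgroup.inv_mem _ (Subgroup.commutator_mem_commutator hk hj))
        (Subgroup.commutator_mem_commutator hk (H₂.mul_mem hj hj'))
    intro g hg
    exact h1 hg
  intro j hj
  rw [Subgroup.mem_normalizer_iff]
  intro g
  constructor
  · exact key j hj g
  · intro h
    have h3 := key j⁻¹ (H₂.inv_mem hj) _ h
    have h4 : j⁻¹ * (j * g * j⁻¹) * j⁻¹⁻¹ = g := by group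
    rw [h4] at h3
    exact h3

theorem orb (hConj : ConjStmt.{u}) (hWConj : WConjStmt.{u}) : OrbStmt.{u} := by
  intro G _ _ M T K ctx K₁ hK₁
  obtain ⟨x, hx, rfl⟩ := hK₁
  have hJC : Cfsg.IsJComponent T (cg x K) := hConj G T K x ctx.hK hx
  have hN : Subgroup.normalizer ((cg x K : Subgroup G) : Set G)
      = Subgroup.normalizer (Cfsg.wOf (cg x K) : Set G) := by
    rw [hWConj G K x]
    show Subgroup.normalizer ((K.map (MulAut.conj x).toMonoidHom : Subgroup G) : Set G)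
      = Subgroup.normalizer (((Cfsg.wOf K).map (MulAut.conj x).toMonoidHom : Subgroup G) : Set G)
    rw [← Subgroup.map_equiv_normalizer_eq K (MulAut.conj x),
      ← Subgroup.map_equiv_normalizer_eq (Cfsg.wOf K) (MulAut.conj x), ctx.hNK]
  have hJN : Cfsg.thompsonSubgroupOf 2 T ≤ Subgroup.normalizer ((cg x K : Subgroup G) : Set G) := by
    have h1 := orb_comm_norm (cg x K) (Cfsg.thompsonSubgroupOf 2 T)
    rw [hJC.2.1] at h1
    exact h1
  refine ⟨hJC, ?_, hN, ?_, ?_, ?_⟩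
  · intro hle
    apply ctx.hKM
    intro k hk
    have hxM : x ∈ M := ctx.hJM hx
    have h1 : x * k * x⁻¹ ∈ M := hle ⟨k, hk, rfl⟩
    have h2 : k = x⁻¹ * (x * k * x⁻¹) * x := by group
    rw [h2]
    exact M.mul_mem (M.mul_mem (M.inv_mem hxM) h1) hxM
  · rw [← hN]
    exact hJN
  · rw [← hN]
    exact Subgroup.le_normalizer
  · refine ⟨Cfsg.wOf (cg x K), IsPGroup.of_card (n := 2) (by rw [hJC.2.2.2.2.1]; norm_num), ?_, rfl⟩
    intro hbot
    have h4 := hJC.2.2.2.2.1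
    rw [hbot, Subgroup.card_bot] at h4
    norm_num at h4

end Cfsg.Agent.Lib.Helper28.JU
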