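import Mathlib

set_option autoImplicit false
set_option linter.unusedSectionVars false
set_option linter.style.haveILetI false
set_option linter.unusedSimpArgs false

/-! Rank-two 2-groups with an automorphism moving every involution (helper28): basic set-up. -/

namespace Cfsg.Agent.Lib.Helper28.R2

open scoped commutatorElement

/-- Fixed points of a self-map of `3`-power order on an invariant finite set, modulo 3. -/
theorem card_fix_mod3 {α : Type*} [DecidableEq α] (g : α → α) (a : ℕ)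
    (hg : ∀ x, g^[3 ^ a] x = x) (X : Finset α) (hX : ∀ x ∈ X, g x ∈ X) :
    X.card % 3 = (X.filter (fun x => g x = x)).card % 3 := by
  haveI : Fact (Nat.Prime 3) := ⟨Nat.prime_three⟩
  let f : Function.End ↥X := fun x => ⟨g x.1, hX x.1 x.2⟩
  have hf : ∀ n : ℕ, ∀ x : ↥X, ((f ^ n) x).1 = g^[n] x.1 := by
    intro n
    induction n with
    | zero => intro x; rfl
    | succ n ih =>
      intro x
      rw [pow_succ]
      show ((f ^ n) (f x)).1 = _
      rw [ih, Function.iterate_succ_apply]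
  have hpow : f ^ 3 ^ a = 1 := by
    funext x
    apply Subtype.ext
    rw [hf]
    exact hg _
  have h := Equiv.Perm.card_fixedPoints_modEq (f := f) (p := 3) (n := a) hpow
  have h1 : Fintype.card ↥X = X.card := Fintype.card_coe X
  have h2 : Fintype.card ↥(Function.fixedPoints f) = (X.filter (fun x => g x = x)).card := by
    rw [← Nat.card_eq_fintype_card]
    have e : ↥(Function.fixedPoints f) ≃ ↥(X.filter (fun x => g x = x)) :=
      { toFun := fun y => ⟨y.1.1, Finset.mem_filter.mpr ⟨y.1.2, congrArg Subtype.val y.2⟩⟩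
        invFun := fun z => ⟨⟨z.1, (Finset.mem_filter.mp z.2).1⟩,
          Subtype.ext (Finset.mem_filter.mp z.2).2⟩
        left_inv := fun y => rfl
        right_inv := fun z => rfl }
    rw [Nat.card_congr e, Nat.card_eq_fintype_card, Fintype.card_coe]
  have h' : Fintype.card ↥X % 3 = Fintype.card ↥(Function.fixedPoints f) % 3 := h
  rw [h1, h2] at h'
  exact h'

section Calc

variable {T : Type*} [Group T]

theorem comm_mul_left' {s t m : T} (hc : ⁅t, m⁆ ∈ Subgroup.center T) :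
    ⁅s * t, m⁆ = ⁅s, m⁆ * ⁅t, m⁆ := by
  have h := Subgroup.mem_center_iff.mp hc
  calc ⁅s * t, m⁆ = s * ⁅t, m⁆ * s⁻¹ * ⁅s, m⁆ := by
        simp only [commutatorElement_def]; group
    _ = ⁅t, m⁆ * s * s⁻¹ * ⁅s, m⁆ := by rw [h s]
    _ = ⁅t, m⁆ * ⁅s, m⁆ := by group
    _ = ⁅s, m⁆ * ⁅t, m⁆ := (h _).symm

theorem comm_mul_right' {m s t : T} (hc : ⁅m, t⁆ ∈ Subgroup.center T) :
    ⁅m, s * t⁆ = ⁅m, s⁆ * ⁅m, t⁆ := by
  have h := Subgroup.mem_center_iff.mp hc
  calc ⁅m, s * t⁆ = ⁅m, s⁆ * (s * ⁅m, t⁆ * s⁻¹) := by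
        simp only [commutatorElement_def]; group
    _ = ⁅m, s⁆ * (⁅m, t⁆ * s * s⁻¹) := by rw [h s]
    _ = ⁅m, s⁆ * ⁅m, t⁆ := by group

theorem sq_mul' {a b : T} (hc : ⁅b, a⁆ ∈ Subgroup.center T) :
    (a * b) * (a * b) = ⁅b, a⁆ * (a * a) * (b * b) := by
  have h := Subgroup.mem_center_iff.mp hc
  have e1 : b * a = ⁅b, a⁆ * a * b := by rw [commutatorElement_def]; group
  calc a * b * (a * b) = a * (b * a) * b := by group
    _ = a * (⁅b, a⁆ * a * b) * b := by rw [e1]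
    _ = (a * ⁅b, a⁆) * a * b * b := by group
    _ = (⁅b, a⁆ * a) * a * b * b := by rw [h a]
    _ = ⁅b, a⁆ * (a * a) * (b * b) := by group

theorem comm_inv_left' {s m : T} (hc : ⁅s, m⁆ ∈ Subgroup.center T) :
    ⁅s⁻¹, m⁆ = ⁅s, m⁆⁻¹ := by
  have h := Subgroup.mem_center_iff.mp (Subgroup.inv_mem _ hc)
  calc ⁅s⁻¹, m⁆ = s⁻¹ * ⁅s, m⁆⁻¹ * s := by
        simp only [commutatorElement_def]; group
    _ = ⁅s, m⁆⁻¹ * s⁻¹ * s := by rw [h s⁻¹]
    _ = ⁅s, m⁆⁻¹ := by group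

theorem comm_inv_right' {m s : T} (hc : ⁅m, s⁆ ∈ Subgroup.center T) :
    ⁅m, s⁻¹⁆ = ⁅m, s⁆⁻¹ := by
  have h := Subgroup.mem_center_iff.mp (Subgroup.inv_mem _ hc)
  calc ⁅m, s⁻¹⁆ = s⁻¹ * ⁅m, s⁆⁻¹ * s := by
        simp only [commutatorElement_def]; group
    _ = ⁅m, s⁆⁻¹ * s⁻¹ * s := by rw [h s⁻¹]
    _ = ⁅m, s⁆⁻¹ := by group

theorem sq_inv_mul {a b : T} (hab : a * b = b * a) (hsq : a * a = b * b) :
    (b⁻¹ * a) * (b⁻¹ * a) = 1 := by
  have h1 : a * b⁻¹ = b⁻¹ * a := (Commute.inv_right (show Commute a b from hab)).eq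
  calc b⁻¹ * a * (b⁻¹ * a) = b⁻¹ * (a * b⁻¹) * a := by group
    _ = b⁻¹ * (b⁻¹ * a) * a := by rw [h1]
    _ = b⁻¹ * b⁻¹ * (a * a) := by group
    _ = b⁻¹ * b⁻¹ * (b * b) := by rw [hsq]
    _ = 1 := by group

/-- In a `2`-group, an element outside a subgroup has a `2`-power power outside it whose square is inside. -/
theorem exists_pow_notMem (hT : IsPGroup 2 T) (M : Subgroup T) {g : T} (hg : g ∉ M) :
    ∃ j : ℕ, g ^ 2 ^ j ∉ M ∧ (g ^ 2 ^ j) * (g ^ 2 ^ j) ∈ M := by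
  classical
  obtain ⟨k, hk⟩ := hT g
  have hex : ∃ j : ℕ, g ^ 2 ^ j ∈ M := ⟨k, by rw [hk]; exact M.one_mem⟩
  have h0 : Nat.find hex ≠ 0 := by
    intro h0
    have := Nat.find_spec hex
    rw [h0, pow_zero, pow_one] at this
    exact hg this
  obtain ⟨j, hj⟩ := Nat.exists_eq_succ_of_ne_zero h0
  refine ⟨j, ?_, ?_⟩
  · exact Nat.find_min hex (by rw [hj]; exact Nat.lt_succ_self j)
  · have := Nat.find_spec hex
    rw [hj, pow_succ, pow_mul, pow_two] at this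
    exact this

end Calc

/-- The set-up: a finite `2`-group `T` whose elements of square one form a central subgroup `E` of
order four, with an injective endomorphism `ψ` of `3`-power order fixing no involution. -/
structure _root_.Cfsg.Agent.Lib.Helper28.R2 (T : Type*) [Group T] (E : Subgroup T) (ψ : T →* T) : Prop where
  fin : Finite T
  pg : IsPGroup 2 T
  inj : Function.Injective ψ
  ord : ∃ a : ℕ, ∀ t, (fun x => ψ x)^[3 ^ a] t = t
  mem : ∀ t : T, t * t = 1 ↔ t ∈ E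
  card : Nat.card E ≤ 4
  ne : ∃ e ∈ E, e ≠ 1
  cen : E ≤ Subgroup.center T
  mov : ∀ e ∈ E, ψ e = e → e = 1

/-- Multiplication table of `E` relative to `ψ`. -/
structure ETab {T : Type*} [Group T] (E : Subgroup T) (ψ : T →* T) (e e₁ e₂ : T) : Prop where
  he : e ∈ E
  he₁ : e₁ ∈ E
  he₂ : e₂ ∈ E
  ne : e ≠ 1
  ne₁ : e₁ ≠ 1
  ne₂ : e₂ ≠ 1
  n01 : e ≠ e₁
  n02 : e ≠ e₂
  n12 : e₁ ≠ e₂
  p0 : ψ e = e₁
  p1 : ψ e₁ = e₂
  p2 : ψ e₂ = e
  m01 : e * e₁ = e₂
  m10 : e₁ * e = e₂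
  m02 : e * e₂ = e₁
  m20 : e₂ * e = e₁
  m12 : e₁ * e₂ = e
  m21 : e₂ * e₁ = e
  s0 : e * e = 1
  s1 : e₁ * e₁ = 1
  s2 : e₂ * e₂ = 1
  all : ∀ x ∈ E, x = 1 ∨ x = e ∨ x = e₁ ∨ x = e₂

section Basic

variable {T : Type*} [Group T] {E : Subgroup T} {ψ : T →* T}

theorem sq (h : R2 T E ψ) {e : T} (he : e ∈ E) : e * e = 1 := (h.mem e).mpr he

theorem Ecomm (h : R2 T E ψ) {e : T} (he : e ∈ E) (t : T) : e * t = t * e :=
  (Subgroup.mem_center_iff.mp (h.cen he) t).symm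

theorem inv_E (h : R2 T E ψ) {e : T} (he : e ∈ E) : e⁻¹ = e :=
  inv_eq_of_mul_eq_one_left (sq h he)

theorem psi_mem (h : R2 T E ψ) {e : T} (he : e ∈ E) : ψ e ∈ E :=
  (h.mem _).mp (by rw [← map_mul, sq h he, map_one])

theorem psi_mem_iff (h : R2 T E ψ) {t : T} : ψ t ∈ E ↔ t ∈ E := by
  constructor
  · intro ht
    have h1 := (h.mem _).mpr ht
    rw [← map_mul] at h1
    exact (h.mem t).mp (h.inj (h1.trans (map_one ψ).symm))
  · exact psi_mem h

theorem fixfree (h : R2 T E ψ) {t : T} (ht : ψ t = t) : t = 1 := by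
  by_contra h1
  obtain ⟨j, hj1, hj2⟩ := exists_pow_notMem h.pg (⊥ : Subgroup T) (g := t) (by simpa using h1)
  have hu : t ^ 2 ^ j ∈ E := (h.mem _).mp (by simpa using hj2)
  have hfix : ψ (t ^ 2 ^ j) = t ^ 2 ^ j := by rw [map_pow, ht]
  exact hj1 (by simpa using h.mov _ hu hfix)

theorem comm_symm (h : R2 T E ψ) {a b : T} (hab : ⁅a, b⁆ ∈ E) : ⁅b, a⁆ = ⁅a, b⁆ := by
  rw [← commutatorElement_inv, inv_E h hab]

theorem comm_mem_symm (h : R2 T E ψ) {a b : T} (hab : ⁅a, b⁆ ∈ E) : ⁅b, a⁆ ∈ E := by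
  rw [comm_symm h hab]; exact hab

theorem cml (h : R2 T E ψ) {s t m : T} (hc : ⁅t, m⁆ ∈ E) : ⁅s * t, m⁆ = ⁅s, m⁆ * ⁅t, m⁆ :=
  comm_mul_left' (h.cen hc)

theorem cmr (h : R2 T E ψ) {m s t : T} (hc : ⁅m, t⁆ ∈ E) : ⁅m, s * t⁆ = ⁅m, s⁆ * ⁅m, t⁆ :=
  comm_mul_right' (h.cen hc)

theorem cil (h : R2 T E ψ) {s m : T} (hc : ⁅s, m⁆ ∈ E) : ⁅s⁻¹, m⁆ = ⁅s, m⁆ := by
  rw [comm_inv_left' (h.cen hc), inv_E h hc]

theorem cir (h : R2 T E ψ) {m s : T} (hc : ⁅m, s⁆ ∈ E) : ⁅m, s⁻¹⁆ = ⁅m, s⁆ := by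
  rw [comm_inv_right' (h.cen hc), inv_E h hc]

theorem cEl (h : R2 T E ψ) {e : T} (he : e ∈ E) (m : T) : ⁅e, m⁆ = 1 :=
  commutatorElement_eq_one_iff_mul_comm.mpr (Ecomm h he m)

theorem cEr (h : R2 T E ψ) {e : T} (he : e ∈ E) (m : T) : ⁅m, e⁆ = 1 :=
  commutatorElement_eq_one_iff_mul_comm.mpr (Ecomm h he m).symm

theorem cmEl (h : R2 T E ψ) {e : T} (he : e ∈ E) (s m : T) : ⁅s * e, m⁆ = ⁅s, m⁆ := by
  rw [cml h (by rw [cEl h he]; exact E.one_mem), cEl h he, mul_one]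

theorem cmEr (h : R2 T E ψ) {e : T} (he : e ∈ E) (m s : T) : ⁅m, s * e⁆ = ⁅m, s⁆ := by
  rw [cmr h (by rw [cEr h he]; exact E.one_mem), cEr h he, mul_one]

theorem sqm (h : R2 T E ψ) {a b : T} (hc : ⁅b, a⁆ ∈ E) :
    (a * b) * (a * b) = ⁅b, a⁆ * (a * a) * (b * b) :=
  sq_mul' (h.cen hc)

theorem sq_mul_E (h : R2 T E ψ) {e : T} (he : e ∈ E) (a : T) : (a * e) * (a * e) = a * a := by
  calc a * e * (a * e) = a * (e * a) * e := by group
    _ = a * (a * e) * e := by rw [Ecomm h he a]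
    _ = a * a * (e * e) := by group
    _ = a * a := by rw [sq h he, mul_one]

/-- `ψ`-invariant subgroups have order `≡ 1 (mod 3)`. -/
theorem mod3 (h : R2 T E ψ) (H : Subgroup T) (hH : ∀ x ∈ H, ψ x ∈ H) : Nat.card H % 3 = 1 := by
  classical
  haveI := h.fin
  haveI : Fintype T := Fintype.ofFinite T
  obtain ⟨a, ha⟩ := h.ord
  have key := card_fix_mod3 (fun t => ψ t) a ha (Finset.univ.filter (· ∈ H)) (by
    intro x hx
    simp only [Finset.mem_filter, Finset.mem_univ, true_and] at hx ⊢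
    exact hH x hx)
  have h1 : (Finset.univ.filter (· ∈ H)).card = Nat.card H := by
    rw [Nat.card_eq_fintype_card, Fintype.card_subtype]
  have h2 : ((Finset.univ.filter (· ∈ H)).filter (fun x => ψ x = x)) = {1} := by
    ext x
    simp only [Finset.mem_filter, Finset.mem_univ, true_and, Finset.mem_singleton]
    constructor
    · rintro ⟨-, hx⟩
      exact fixfree h hx
    · rintro rfl
      exact ⟨H.one_mem, map_one ψ⟩
  rw [h1, h2] at key
  simpa using key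

/-- A `ψ`-fixed coset of a `ψ`-invariant subgroup is the subgroup itself. -/
theorem coset_fix (h : R2 T E ψ) (C : Subgroup T) (hC : ∀ x ∈ C, ψ x ∈ C) {t : T}
    (ht : t⁻¹ * ψ t ∈ C) : t ∈ C := by
  classical
  haveI := h.fin
  haveI : Fintype T := Fintype.ofFinite T
  obtain ⟨a, ha⟩ := h.ord
  let X : Finset T := (Finset.univ.filter (· ∈ C)).image (fun c => t * c)
  have hX : ∀ x ∈ X, ψ x ∈ X := by
    intro x hx
    obtain ⟨c, hc, rfl⟩ := Finset.mem_image.mp hx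
    have hc' : c ∈ C := by simpa using hc
    refine Finset.mem_image.mpr ⟨t⁻¹ * ψ t * ψ c, ?_, ?_⟩
    · simp only [Finset.mem_filter, Finset.mem_univ, true_and]
      exact C.mul_mem ht (hC c hc')
    · rw [map_mul]; group
  have key := card_fix_mod3 (fun t => ψ t) a ha X hX
  have h1 : X.card = Nat.card C := by
    rw [Finset.card_image_of_injective _ (mul_right_injective t), Nat.card_eq_fintype_card,
      Fintype.card_subtype]
  have h3 := mod3 h C hC
  rw [h1, h3] at key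
  have hne : (X.filter (fun x => ψ x = x)).Nonempty := by
    rw [Finset.nonempty_iff_ne_empty]
    intro h0
    rw [h0] at key
    simp at key
  obtain ⟨x, hx⟩ := hne
  obtain ⟨hxX, hfix⟩ := Finset.mem_filter.mp hx
  obtain ⟨c, hc, rfl⟩ := Finset.mem_image.mp hxX
  have hc' : c ∈ C := by simpa using hc
  have h1' : t * c = 1 := fixfree h hfix
  have : t = c⁻¹ := eq_inv_of_mul_eq_one_left h1'
  rw [this]
  exact C.inv_mem hc'

theorem psi_surj_on (h : R2 T E ψ) (H : Subgroup T) (hH : ∀ x ∈ H, ψ x ∈ H) :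
    ∀ y ∈ H, ∃ x ∈ H, ψ x = y := by
  haveI := h.fin
  let f : ↥H → ↥H := fun x => ⟨ψ x.1, hH x.1 x.2⟩
  have hf : Function.Injective f := by
    intro x y hxy
    exact Subtype.ext (h.inj (congrArg Subtype.val hxy))
  have hs := Finite.injective_iff_surjective.mp hf
  intro y hy
  obtain ⟨x, hx⟩ := hs ⟨y, hy⟩
  exact ⟨x.1, x.2, congrArg Subtype.val hx⟩

theorem psi_mem_of (h : R2 T E ψ) (H : Subgroup T) (hH : ∀ x ∈ H, ψ x ∈ H) {t : T}
    (ht : ψ t ∈ H) : t ∈ H := by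
  obtain ⟨x, hx, hxt⟩ := psi_surj_on h H hH _ ht
  rw [← h.inj hxt]
  exact hx

theorem psi_surj (h : R2 T E ψ) : Function.Surjective ψ := by
  haveI := h.fin
  exact Finite.injective_iff_surjective.mp h.inj

theorem E_four' [Finite T] (hsq : ∀ e ∈ E, e * e = 1) (hcard : Nat.card E ≤ 4) {f₁ f₂ : T}
    (h1 : f₁ ∈ E) (h1' : f₁ ≠ 1) (h2 : f₂ ∈ E) (h2' : f₂ ≠ 1) (h12 : f₁ ≠ f₂) :
    ∀ x ∈ E, x = 1 ∨ x = f₁ ∨ x = f₂ ∨ x = f₁ * f₂ := by
  classical
  haveI : Fintype ↥E := Fintype.ofFinite _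
  intro x hx
  let S : Finset ↥E := {1, ⟨f₁, h1⟩, ⟨f₂, h2⟩, ⟨f₁ * f₂, E.mul_mem h1 h2⟩}
  have hS : S.card = 4 := by
    rw [Finset.card_insert_of_notMem, Finset.card_insert_of_notMem,
      Finset.card_insert_of_notMem, Finset.card_singleton]
    · simp only [Finset.mem_singleton, Subtype.mk.injEq]
      intro hh
      exact h1' (by
        have : f₁ * f₂ = 1 * f₂ := by rw [one_mul]; exact hh.symm
        exact mul_right_cancel this)
    · simp only [Finset.mem_insert, Finset.mem_singleton, Subtype.mk.injEq, not_or]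
      refine ⟨h12, ?_⟩
      intro hh
      exact h2' (by
        have : f₁ * f₂ = f₁ * 1 := by rw [mul_one]; exact hh.symm
        exact mul_left_cancel this)
    · simp only [Finset.mem_insert, Finset.mem_singleton, not_or]
      refine ⟨?_, ?_, ?_⟩
      · intro hh
        exact h1' (congrArg Subtype.val hh).symm
      · intro hh
        exact h2' (congrArg Subtype.val hh).symm
      · intro hh
        have h3 : f₁ * f₂ = 1 := (congrArg Subtype.val hh).symm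
        have h4 : f₁ * f₁ = 1 := hsq _ h1
        exact h12 (mul_left_cancel (h4.trans h3.symm))
  have hu : S = Finset.univ :=
    Finset.eq_univ_of_card S (le_antisymm (Finset.card_le_univ S) (by
      rw [hS, ← Nat.card_eq_fintype_card]; exact hcard))
  have hxS : (⟨x, hx⟩ : ↥E) ∈ S := by rw [hu]; exact Finset.mem_univ _
  simp only [S, Finset.mem_insert, Finset.mem_singleton, Subtype.mk.injEq] at hxS
  rcases hxS with hh | hh | hh | hh
  · left; exact congrArg Subtype.val hh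
  · right; left; exact hh
  · right; right; left; exact hh
  · right; right; right; exact hh

theorem E_four (h : R2 T E ψ) {f₁ f₂ : T} (h1 : f₁ ∈ E) (h1' : f₁ ≠ 1) (h2 : f₂ ∈ E)
    (h2' : f₂ ≠ 1) (h12 : f₁ ≠ f₂) :
    ∀ x ∈ E, x = 1 ∨ x = f₁ ∨ x = f₂ ∨ x = f₁ * f₂ := by
  haveI := h.fin
  exact E_four' (fun _ he => sq h he) h.card h1 h1' h2 h2' h12

theorem etab' [Finite T] (hinj : Function.Injective ψ) (hsq : ∀ e ∈ E, e * e = 1)
    (hcard : Nat.card E ≤ 4) (hcm : ∀ e ∈ E, ∀ t : T, e * t = t * e) (hpm : ∀ e ∈ E, ψ e ∈ E)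
    (hmov : ∀ e ∈ E, ψ e = e → e = 1) {e : T} (he : e ∈ E) (hne : e ≠ 1) :
    ETab E ψ e (ψ e) (ψ (ψ e)) := by
  have he₁ : ψ e ∈ E := hpm e he
  have hne₁ : ψ e ≠ 1 := fun h0 => hne (hinj (h0.trans (map_one ψ).symm))
  have hn01 : e ≠ ψ e := fun h0 => hne (hmov e he h0.symm)
  have hall := E_four' hsq hcard he hne he₁ hne₁ hn01
  have hm : e * ψ e ∈ E := E.mul_mem he he₁
  have hmne : e * ψ e ≠ 1 := by
    intro h0
    have h4 : e * e = 1 := hsq e he
    exact hn01 (mul_left_cancel (h4.trans h0.symm))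
  have hcomm : ψ e * e = e * ψ e := hcm _ he₁ e
  have he₂ : ψ (ψ e) ∈ E := hpm _ he₁
  have key : ψ (ψ e) = e * ψ e := by
    rcases hall _ he₂ with h0 | h0 | h0 | h0
    · exact absurd (hinj (h0.trans (map_one ψ).symm)) hne₁
    · exfalso
      apply hmne
      apply hmov _ hm
      rw [map_mul, h0, hcomm]
    · exact absurd (hmov _ he₁ h0) hne₁
    · exact h0
  have s0 : e * e = 1 := hsq e he
  have s1 : ψ e * ψ e = 1 := hsq _ he₁
  refine
    { he := he, he₁ := he₁, he₂ := he₂, ne := hne, ne₁ := hne₁, ne₂ := ?_, n01 := hn01,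
      n02 := ?_, n12 := ?_, p0 := rfl, p1 := rfl, p2 := ?_, m01 := key.symm, m10 := ?_,
      m02 := ?_, m20 := ?_, m12 := ?_, m21 := ?_, s0 := s0, s1 := s1, s2 := ?_, all := ?_ }
  · rw [key]; exact hmne
  · rw [key]
    intro h0
    apply hne₁
    have : e * 1 = e * ψ e := by rw [mul_one]; exact h0
    exact (mul_left_cancel this).symm
  · rw [key]
    intro h0
    apply hne
    have : 1 * ψ e = e * ψ e := by rw [one_mul]; exact h0
    exact (mul_right_cancel this).symm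
  · rw [key, map_mul, key]
    calc ψ e * (e * ψ e) = (ψ e * e) * ψ e := by group
      _ = e * ψ e * ψ e := by rw [hcomm]
      _ = e * (ψ e * ψ e) := by group
      _ = e := by rw [s1, mul_one]
  · rw [key, hcomm]
  · rw [key]
    calc e * (e * ψ e) = (e * e) * ψ e := by group
      _ = ψ e := by rw [s0, one_mul]
  · rw [key]
    calc e * ψ e * e = e * (ψ e * e) := by group
      _ = e * (e * ψ e) := by rw [hcomm]
      _ = (e * e) * ψ e := by group
      _ = ψ e := by rw [s0, one_mul]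
  · rw [key]
    calc ψ e * (e * ψ e) = (ψ e * e) * ψ e := by group
      _ = e * ψ e * ψ e := by rw [hcomm]
      _ = e * (ψ e * ψ e) := by group
      _ = e := by rw [s1, mul_one]
  · rw [key]
    calc e * ψ e * ψ e = e * (ψ e * ψ e) := by group
      _ = e := by rw [s1, mul_one]
  · exact hsq _ he₂
  · intro x hx
    rw [key]
    exact hall x hx

theorem etab (h : R2 T E ψ) {e : T} (he : e ∈ E) (hne : e ≠ 1) : ETab E ψ e (ψ e) (ψ (ψ e)) := by
  haveI := h.fin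
  exact etab' h.inj (fun _ he => sq h he) h.card (fun _ he t => Ecomm h he t)
    (fun _ he => psi_mem h he) h.mov he hne

/-- Elements commuting with two commuting elements having distinct nontrivial squares. -/
theorem sq_cases (h : R2 T E ψ) {a₁ a₂ a : T} (h1 : a₁ * a₁ ∈ E) (h1' : a₁ * a₁ ≠ 1)
    (h2 : a₂ * a₂ ∈ E) (h2' : a₂ * a₂ ≠ 1) (h12 : a₁ * a₁ ≠ a₂ * a₂)
    (c1 : a * a₁ = a₁ * a) (c2 : a * a₂ = a₂ * a) (c12 : a₁ * a₂ = a₂ * a₁) (ha : a * a ∈ E) :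
    ∃ ε ∈ E, a = ε ∨ a = a₁ * ε ∨ a = a₂ * ε ∨ a = a₁ * a₂ * ε := by
  rcases E_four h h1 h1' h2 h2' h12 _ ha with h0 | h0 | h0 | h0
  · exact ⟨a, (h.mem a).mp h0, Or.inl rfl⟩
  · refine ⟨a₁⁻¹ * a, (h.mem _).mp (sq_inv_mul c1 h0), Or.inr (Or.inl ?_)⟩
    group
  · refine ⟨a₂⁻¹ * a, (h.mem _).mp (sq_inv_mul c2 h0), Or.inr (Or.inr (Or.inl ?_))⟩
    group
  · have hsq : a * a = (a₁ * a₂) * (a₁ * a₂) := by
      rw [h0]
      calc a₁ * a₁ * (a₂ * a₂) = a₁ * (a₁ * a₂) * a₂ := by group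
        _ = a₁ * (a₂ * a₁) * a₂ := by rw [c12]
        _ = a₁ * a₂ * (a₁ * a₂) := by group
    have hc : a * (a₁ * a₂) = (a₁ * a₂) * a := by
      calc a * (a₁ * a₂) = (a * a₁) * a₂ := by group
        _ = a₁ * (a * a₂) := by rw [c1]; group
        _ = a₁ * a₂ * a := by rw [c2]; group
    refine ⟨(a₁ * a₂)⁻¹ * a, (h.mem _).mp (sq_inv_mul hc hsq), Or.inr (Or.inr (Or.inr ?_))⟩
    group

end Basic

end Cfsg.Agent.Lib.Helper28.R2
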