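import Mathlib
import Cfsg.Agent.Lib.Helper28.R2Base

set_option autoImplicit false
set_option linter.unusedSectionVars false
set_option linter.style.haveILetI false
set_option linter.unusedSimpArgs false

/-! Rank-two 2-groups with an automorphism moving every involution (helper28):
subgroups, quotients and the commutative case. -/

namespace Cfsg.Agent.Lib.Helper28.R2

open scoped commutatorElement

universe u

section Trans

variable {T : Type*} [Group T] {E : Subgroup T} {ψ : T →* T}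

theorem exists_ne_one (h : R2 T E ψ) : ∃ e ∈ E, e ≠ 1 := h.ne

/-- Restriction to a `ψ`-invariant subgroup containing `E`. -/
theorem sub (h : R2 T E ψ) (H : Subgroup T) (hH : ∀ x ∈ H, ψ x ∈ H) (hEH : E ≤ H) :
    R2 ↥H (E.subgroupOf H) ((ψ.comp H.subtype).codRestrict H (fun x => hH x.1 x.2)) := by
  haveI := h.fin
  refine
    { fin := inferInstance, pg := h.pg.to_subgroup H, inj := ?_, ord := ?_, mem := ?_,
      card := ?_, ne := ?_, cen := ?_, mov := ?_ }
  · intro x y hxy
    exact Subtype.ext (h.inj (congrArg Subtype.val hxy))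
  · obtain ⟨a, ha⟩ := h.ord
    refine ⟨a, fun t => Subtype.ext ?_⟩
    have key : ∀ n : ℕ, ∀ t : ↥H,
        (((fun x => ((ψ.comp H.subtype).codRestrict H (fun x => hH x.1 x.2)) x)^[n] t : ↥H) : T) =
          (fun x => ψ x)^[n] (t : T) := by
      intro n
      induction n with
      | zero => intro t; rfl
      | succ n ih =>
        intro t
        rw [Function.iterate_succ_apply, Function.iterate_succ_apply, ih]
        rfl
    rw [key]
    exact ha _
  · intro t
    rw [Subgroup.mem_subgroupOf, ← h.mem, Subtype.ext_iff]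
    rfl
  · rw [Nat.card_congr (Subgroup.subgroupOfEquivOfLe hEH).toEquiv]
    exact h.card
  · obtain ⟨e, he, hne⟩ := h.ne
    exact ⟨⟨e, hEH he⟩, Subgroup.mem_subgroupOf.mpr he, fun h0 => hne (congrArg Subtype.val h0)⟩
  · intro x hx
    rw [Subgroup.mem_center_iff]
    intro g
    apply Subtype.ext
    exact (Ecomm h (Subgroup.mem_subgroupOf.mp hx) g.1).symm
  · intro e he hfix
    exact Subtype.ext (h.mov e.1 (Subgroup.mem_subgroupOf.mp he) (congrArg Subtype.val hfix))

theorem psi_le_comap (h : R2 T E ψ) : E ≤ Subgroup.comap ψ E := fun _ he => psi_mem h he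

/-- Passage to `T ⧸ E` when the elements with square in `E` form a central subgroup `M`. -/
theorem quot (h : R2 T E ψ) [hn : E.Normal] (M : Subgroup T) (hM : ∀ t, t * t ∈ E ↔ t ∈ M)
    (hMc : M ≤ Subgroup.center T)
    (hcard : Nat.card (M.map (QuotientGroup.mk' E)) ≤ 4) (hMne : ∃ m ∈ M, m ∉ E) :
    R2 (T ⧸ E) (M.map (QuotientGroup.mk' E))
      (QuotientGroup.map E E ψ (psi_le_comap h)) := by
  haveI := h.fin
  have hEM : E ≤ M := by
    intro e he
    exact (hM e).mp (by rw [sq h he]; exact E.one_mem)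
  refine
    { fin := inferInstance, pg := h.pg.to_quotient E, inj := ?_, ord := ?_, mem := ?_,
      card := hcard, ne := ?_, cen := ?_, mov := ?_ }
  · rw [injective_iff_map_eq_one]
    intro x hx
    induction x using QuotientGroup.induction_on with
    | H t =>
      rw [QuotientGroup.map_mk, QuotientGroup.eq_one_iff] at hx
      rw [QuotientGroup.eq_one_iff]
      exact (psi_mem_iff h).mp hx
  · obtain ⟨a, ha⟩ := h.ord
    refine ⟨a, fun x => ?_⟩
    have key : ∀ n : ℕ, ∀ t : T,
        (fun x => (QuotientGroup.map E E ψ (psi_le_comap h)) x)^[n] (t : T ⧸ E) =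
          (((fun x => ψ x)^[n] t : T) : T ⧸ E) := by
      intro n
      induction n with
      | zero => intro t; rfl
      | succ n ih =>
        intro t
        rw [Function.iterate_succ_apply, Function.iterate_succ_apply]
        show (fun x => (QuotientGroup.map E E ψ (psi_le_comap h)) x)^[n]
          ((QuotientGroup.map E E ψ (psi_le_comap h)) (t : T ⧸ E)) = _
        rw [QuotientGroup.map_mk, ih]
    induction x using QuotientGroup.induction_on with
    | H t => rw [key, ha]
  · intro x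
    induction x using QuotientGroup.induction_on with
    | H t =>
      rw [← QuotientGroup.mk_mul, QuotientGroup.eq_one_iff, hM]
      constructor
      · intro ht
        exact Subgroup.mem_map_of_mem _ ht
      · rintro ⟨m, hm, hmt⟩
        have h1 : m⁻¹ * t ∈ E := QuotientGroup.eq.mp hmt
        have : t = m * (m⁻¹ * t) := by group
        rw [this]
        exact M.mul_mem hm (hEM h1)
  · obtain ⟨m, hm, hmE⟩ := hMne
    exact ⟨(m : T ⧸ E), Subgroup.mem_map_of_mem _ hm,
      fun h0 => hmE ((QuotientGroup.eq_one_iff m).mp h0)⟩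
  · rintro x ⟨m, hm, rfl⟩
    rw [Subgroup.mem_center_iff]
    intro g
    induction g using QuotientGroup.induction_on with
    | H t =>
      show ((t : T ⧸ E) * (m : T ⧸ E)) = (m : T ⧸ E) * (t : T ⧸ E)
      rw [← QuotientGroup.mk_mul, ← QuotientGroup.mk_mul,
        Subgroup.mem_center_iff.mp (hMc hm) t]
  · rintro x ⟨m, hm, rfl⟩ hfix
    show (m : T ⧸ E) = 1
    have hfix' : ((ψ m : T) : T ⧸ E) = (m : T ⧸ E) := by
      rw [← QuotientGroup.map_mk E E ψ (psi_le_comap h)]
      exact hfix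
    have h1 : m⁻¹ * ψ m ∈ E := QuotientGroup.eq.mp hfix'.symm
    have h2 : ψ m = m * (m⁻¹ * ψ m) := by group
    have h3 : ψ (m * m) = m * m := by
      rw [map_mul, h2, sq_mul_E h h1]
    have h4 : m * m = 1 := h.mov _ ((hM m).mpr hm) h3
    rw [QuotientGroup.eq_one_iff]
    exact (h.mem m).mp h4

end Trans

/-- A finite group of exponent dividing `2 ^ n`, commutative, with at most four elements of
square one, has order at most `4 ^ n`. -/
theorem card_le_pow4 : ∀ (n : ℕ) (A : Type u) [Group A] [Finite A],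
    (∀ a b : A, a * b = b * a) → (∀ a : A, a ^ 2 ^ n = 1) →
    Nat.card {a : A // a * a = 1} ≤ 4 → Nat.card A ≤ 4 ^ n := by
  intro n
  induction n with
  | zero =>
    intro A _ _ _ hexp _
    haveI : Subsingleton A := ⟨fun a b => by
      have ha := hexp a
      have hb := hexp b
      rw [pow_zero, pow_one] at ha hb
      rw [ha, hb]⟩
    rw [Nat.card_of_subsingleton (1 : A)]
    norm_num
  | succ n ih =>
    intro A _ _ hab hexp h4
    let f : A →* A :=
      { toFun := fun a => a * a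
        map_one' := by simp
        map_mul' := by
          intro a b
          show a * b * (a * b) = a * a * (b * b)
          calc a * b * (a * b) = a * (b * a) * b := by group
            _ = a * (a * b) * b := by rw [hab b a]
            _ = a * a * (b * b) := by group }
    have hR : Nat.card ↥f.range ≤ 4 ^ n := by
      apply ih ↥f.range
      · intro a b
        exact Subtype.ext (hab a.1 b.1)
      · rintro ⟨r, a, rfl⟩
        apply Subtype.ext
        show (f a) ^ 2 ^ n = 1
        show (a * a) ^ 2 ^ n = 1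
        rw [← pow_two, ← pow_mul, ← pow_succ']
        exact hexp a
      · refine le_trans (Nat.card_le_card_of_injective
          (fun r : {r : ↥f.range // r * r = 1} =>
            (⟨r.1.1, congrArg Subtype.val r.2⟩ : {a : A // a * a = 1})) ?_) h4
        intro r s hrs
        apply Subtype.ext
        apply Subtype.ext
        have h' := congrArg Subtype.val hrs
        exact h'
    have hK : Nat.card ↥f.ker ≤ 4 := by
      refine le_trans (Nat.card_le_card_of_injective
        (fun r : ↥f.ker => (⟨r.1, (MonoidHom.mem_ker).mp r.2⟩ : {a : A // a * a = 1})) ?_) h4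
      intro r s hrs
      apply Subtype.ext
      have h' := congrArg Subtype.val hrs
      exact h'
    have h1 := Subgroup.card_mul_index f.ker
    rw [Subgroup.index_ker] at h1
    rw [← h1, pow_succ']
    exact Nat.mul_le_mul hK hR

section Abel

variable {T : Type u} [Group T] {E : Subgroup T} {ψ : T →* T}

theorem pow_sq_cases {u : T} (hu : u * u = 1) (m : ℕ) : u ^ m = 1 ∨ u ^ m = u := by
  rcases Nat.even_or_odd' m with ⟨k, rfl | rfl⟩
  · left
    rw [pow_mul, pow_two, hu, one_pow]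
  · right
    rw [pow_succ, pow_mul, pow_two, hu, one_pow, one_mul]

/-- Structure of the commutative case: `T = ⟨x⟩ × ⟨ψ x⟩`. -/
theorem abel_gen (h : R2 T E ψ) (hab : ∀ a b : T, a * b = b * a) :
    ∃ (x : T) (n : ℕ), 1 ≤ n ∧ orderOf x = 2 ^ n ∧
      (∀ t : T, ∃ i j : ℕ, t = x ^ i * (ψ x) ^ j) ∧
      Subgroup.zpowers x ⊓ Subgroup.zpowers (ψ x) = ⊥ := by
  classical
  haveI := h.fin
  haveI : Fintype T := Fintype.ofFinite T
  obtain ⟨x, -, hmax⟩ := Finset.exists_max_image (Finset.univ : Finset T) orderOf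
    ⟨1, Finset.mem_univ _⟩
  have hord : ∀ t : T, ∃ k : ℕ, orderOf t = 2 ^ k := by
    intro t
    obtain ⟨k, hk⟩ := h.pg t
    obtain ⟨m, -, hm⟩ := (Nat.dvd_prime_pow Nat.prime_two).mp (orderOf_dvd_of_pow_eq_one hk)
    exact ⟨m, hm⟩
  obtain ⟨n, hn⟩ := hord x
  have hexp : ∀ t : T, t ^ 2 ^ n = 1 := by
    intro t
    obtain ⟨m, hm⟩ := hord t
    have hle : 2 ^ m ≤ 2 ^ n := by
      rw [← hm, ← hn]
      exact hmax t (Finset.mem_univ _)
    have hmn : m ≤ n := (Nat.pow_le_pow_iff_right (by norm_num)).mp hle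
    apply orderOf_dvd_iff_pow_eq_one.mp
    rw [hm]
    exact pow_dvd_pow 2 hmn
  obtain ⟨e0, he0, he01⟩ := exists_ne_one h
  have hn1 : 1 ≤ n := by
    by_contra hcon
    have hn0 : n = 0 := by omega
    have := hexp e0
    rw [hn0, pow_zero, pow_one] at this
    exact he01 this
  obtain ⟨n', rfl⟩ : ∃ n', n = n' + 1 := ⟨n - 1, by omega⟩
  set y := ψ x with hy
  have hyord : orderOf y = 2 ^ (n' + 1) := by
    rw [hy, orderOf_injective ψ h.inj x, hn]
  -- the involutions of the two cyclic groups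
  have hinv : ∀ (z : T), orderOf z = 2 ^ (n' + 1) → ∀ g ∈ Subgroup.zpowers z, g * g = 1 →
      g = 1 ∨ g = z ^ 2 ^ n' := by
    intro z hz g hg hgg
    have hu : z ^ 2 ^ n' * z ^ 2 ^ n' = 1 := by
      rw [← pow_add, ← two_mul, ← pow_succ', ← hz, pow_orderOf_eq_one]
    obtain ⟨i, -, rfl⟩ := Finset.mem_image.mp (mem_zpowers_iff_mem_range_orderOf.mp hg)
    have h1 : z ^ (2 * i) = 1 := by
      rw [two_mul, pow_add]
      exact hgg
    have h2 : 2 ^ (n' + 1) ∣ 2 * i := by
      rw [← hz]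
      exact orderOf_dvd_iff_pow_eq_one.mpr h1
    have h3 : 2 ^ n' ∣ i := by
      rw [pow_succ'] at h2
      exact (Nat.mul_dvd_mul_iff_left (by norm_num)).mp h2
    obtain ⟨m, rfl⟩ := h3
    show z ^ (2 ^ n' * m) = 1 ∨ z ^ (2 ^ n' * m) = z ^ 2 ^ n'
    rw [pow_mul]
    exact pow_sq_cases hu m
  have hxu : x ^ 2 ^ n' ≠ 1 := by
    apply pow_ne_one_of_lt_orderOf (by positivity)
    rw [hn]
    exact Nat.pow_lt_pow_right (by norm_num) (Nat.lt_succ_self n')
  have hxuE : x ^ 2 ^ n' ∈ E := by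
    apply (h.mem _).mp
    rw [← pow_add, ← two_mul, ← pow_succ', ← hn, pow_orderOf_eq_one]
  have hbot : Subgroup.zpowers x ⊓ Subgroup.zpowers y = ⊥ := by
    rw [Subgroup.eq_bot_iff_forall]
    intro g hg
    by_contra hg1
    obtain ⟨l, hl1, hl2⟩ := exists_pow_notMem h.pg (⊥ : Subgroup T) (g := g) (by simpa using hg1)
    have hw1 : g ^ 2 ^ l ≠ 1 := by simpa using hl1
    have hw2 : g ^ 2 ^ l * g ^ 2 ^ l = 1 := by simpa using hl2
    have hwx : g ^ 2 ^ l ∈ Subgroup.zpowers x := Subgroup.pow_mem _ hg.1 _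
    have hwy : g ^ 2 ^ l ∈ Subgroup.zpowers y := Subgroup.pow_mem _ hg.2 _
    have e1 : g ^ 2 ^ l = x ^ 2 ^ n' := (hinv x hn _ hwx hw2).resolve_left hw1
    have e2 : g ^ 2 ^ l = y ^ 2 ^ n' := (hinv y hyord _ hwy hw2).resolve_left hw1
    have e3 : ψ (x ^ 2 ^ n') = x ^ 2 ^ n' := by
      rw [map_pow, ← hy, ← e2, e1]
    exact hxu (h.mov _ hxuE e3)
  refine ⟨x, n' + 1, hn1, hn, ?_, hbot⟩
  -- counting
  let φ : Fin (2 ^ (n' + 1)) × Fin (2 ^ (n' + 1)) → T := fun p => x ^ (p.1 : ℕ) * y ^ (p.2 : ℕ)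
  have hφ : Function.Injective φ := by
    rintro ⟨i, j⟩ ⟨i', j'⟩ hij
    have hij' : x ^ (i : ℕ) * y ^ (j : ℕ) = x ^ (i' : ℕ) * y ^ (j' : ℕ) := hij
    have hg : (x ^ (i' : ℕ))⁻¹ * x ^ (i : ℕ) = y ^ (j' : ℕ) * (y ^ (j : ℕ))⁻¹ := by
      rw [inv_mul_eq_iff_eq_mul, ← mul_assoc, eq_mul_inv_iff_mul_eq]
      exact hij'
    have hgm : (x ^ (i' : ℕ))⁻¹ * x ^ (i : ℕ) ∈ Subgroup.zpowers x ⊓ Subgroup.zpowers y := by
      refine ⟨Subgroup.mul_mem _ (Subgroup.inv_mem _ (Subgroup.pow_mem _ (Subgroup.mem_zpowers x) _))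
        (Subgroup.pow_mem _ (Subgroup.mem_zpowers x) _), ?_⟩
      rw [hg]
      exact Subgroup.mul_mem _ (Subgroup.pow_mem _ (Subgroup.mem_zpowers y) _)
        (Subgroup.inv_mem _ (Subgroup.pow_mem _ (Subgroup.mem_zpowers y) _))
    rw [hbot, Subgroup.mem_bot] at hgm
    have hx' : x ^ (i : ℕ) = x ^ (i' : ℕ) := by
      rw [inv_mul_eq_one] at hgm
      exact hgm.symm
    have hy' : y ^ (j : ℕ) = y ^ (j' : ℕ) := by
      rw [hx'] at hij'
      exact mul_left_cancel hij'
    have hi : (i : ℕ) = i' := pow_injOn_Iio_orderOf (by rw [Set.mem_Iio, hn]; exact i.2)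
      (by rw [Set.mem_Iio, hn]; exact i'.2) hx'
    have hj : (j : ℕ) = j' := pow_injOn_Iio_orderOf (by rw [Set.mem_Iio, hyord]; exact j.2)
      (by rw [Set.mem_Iio, hyord]; exact j'.2) hy'
    exact Prod.ext (Fin.ext hi) (Fin.ext hj)
  have hcard : Nat.card T ≤ Nat.card (Fin (2 ^ (n' + 1)) × Fin (2 ^ (n' + 1))) := by
    have h1 : Nat.card T ≤ 4 ^ (n' + 1) := by
      apply card_le_pow4 (n' + 1) T hab hexp
      refine le_trans ?_ h.card
      exact Nat.card_le_card_of_injective
        (fun r : {a : T // a * a = 1} => (⟨r.1, (h.mem _).mp r.2⟩ : ↥E))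
        (fun r s hrs => by
          apply Subtype.ext
          have h' := congrArg Subtype.val hrs
          exact h')
    have h2 : Nat.card (Fin (2 ^ (n' + 1)) × Fin (2 ^ (n' + 1))) = 4 ^ (n' + 1) := by
      rw [Nat.card_prod, Nat.card_eq_fintype_card, Fintype.card_fin, ← mul_pow]
      norm_num
    rw [h2]
    exact h1
  have hbij := hφ.bijective_of_nat_card_le hcard
  intro t
  obtain ⟨⟨i, j⟩, hij⟩ := hbij.2 t
  exact ⟨i, j, hij.symm⟩

/-- The commutative case: `T ≅ Z_{2^n} × Z_{2^n}`. -/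
theorem abel_iso (h : R2 T E ψ) (hab : ∀ a b : T, a * b = b * a) :
    ∃ n : ℕ, 1 ≤ n ∧ Nonempty (T ≃* Multiplicative (ZMod (2 ^ n) × ZMod (2 ^ n))) := by
  obtain ⟨x, n, hn1, hn, hgen, hbot⟩ := abel_gen h hab
  refine ⟨n, hn1, ?_⟩
  have hyord : orderOf (ψ x) = 2 ^ n := by rw [orderOf_injective ψ h.inj x, hn]
  let f : ↥(Subgroup.zpowers x) × ↥(Subgroup.zpowers (ψ x)) →* T :=
    (Subgroup.zpowers x).subtype.noncommCoprod (Subgroup.zpowers (ψ x)).subtype
      (fun a b => hab _ _)
  have hf : Function.Bijective f := by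
    constructor
    · rw [injective_iff_map_eq_one]
      rintro ⟨a, b⟩ hab1
      have h1 : (a : T) * (b : T) = 1 := hab1
      have h2 : (a : T) ∈ Subgroup.zpowers x ⊓ Subgroup.zpowers (ψ x) := by
        refine ⟨a.2, ?_⟩
        rw [eq_inv_of_mul_eq_one_left h1]
        exact Subgroup.inv_mem _ b.2
      rw [hbot, Subgroup.mem_bot] at h2
      have h3 : (b : T) = 1 := by rw [h2, one_mul] at h1; exact h1
      exact Prod.ext (Subtype.ext h2) (Subtype.ext h3)
    · intro t
      obtain ⟨i, j, rfl⟩ := hgen t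
      exact ⟨(⟨x ^ i, Subgroup.pow_mem _ (Subgroup.mem_zpowers x) i⟩,
        ⟨(ψ x) ^ j, Subgroup.pow_mem _ (Subgroup.mem_zpowers (ψ x)) j⟩), rfl⟩
  have e1 : ↥(Subgroup.zpowers x) × ↥(Subgroup.zpowers (ψ x)) ≃* T := MulEquiv.ofBijective f hf
  have c1 : Nat.card ↥(Subgroup.zpowers x) = 2 ^ n := by rw [Nat.card_zpowers, hn]
  have c2 : Nat.card ↥(Subgroup.zpowers (ψ x)) = 2 ^ n := by rw [Nat.card_zpowers, hyord]
  have e2 : Multiplicative (ZMod (2 ^ n)) ≃* ↥(Subgroup.zpowers x) :=
    (AddEquiv.toMultiplicative (ZMod.ringEquivCongr c1.symm).toAddEquiv).trans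
      (zmodCyclicMulEquiv (inferInstance : IsCyclic ↥(Subgroup.zpowers x)))
  have e3 : Multiplicative (ZMod (2 ^ n)) ≃* ↥(Subgroup.zpowers (ψ x)) :=
    (AddEquiv.toMultiplicative (ZMod.ringEquivCongr c2.symm).toAddEquiv).trans
      (zmodCyclicMulEquiv (inferInstance : IsCyclic ↥(Subgroup.zpowers (ψ x))))
  exact ⟨e1.symm.trans ((MulEquiv.prodCongr e2 e3).symm.trans
    (MulEquiv.prodMultiplicative (ZMod (2 ^ n)) (ZMod (2 ^ n))).symm)⟩

end Abel

end Cfsg.Agent.Lib.Helper28.R2
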