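import Mathlib
import Cfsg.Agent.Lib.Helper28.R2Abel
import Cfsg.Agent.Lib.Helper66.PAct

set_option autoImplicit false
set_option linter.unusedSectionVars false
set_option linter.style.haveILetI false
set_option linter.unusedSimpArgs false
set_option linter.unusedVariables false

/-! Rank-two 2-groups with an automorphism moving every involution (helper28):
the non-commutative case has `T ⧸ E` elementary abelian. -/

namespace Cfsg.Agent.Lib.Helper28.R2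

open scoped commutatorElement

universe u

section Ind

variable {T : Type u} [Group T] {E : Subgroup T} {ψ : T →* T}

theorem E_norm (h : R2 T E ψ) {p : T} (hp : p ∈ E) : p * ψ p * ψ (ψ p) = 1 := by
  by_cases hp1 : p = 1
  · subst hp1; simp
  · have tab := etab h hp hp1
    rw [tab.m01, tab.s2]

theorem E_cube (h : R2 T E ψ) {p : T} (hp : p ∈ E) : ψ (ψ (ψ p)) = p := by
  by_cases hp1 : p = 1
  · subst hp1; simp
  · exact (etab h hp hp1).p2

theorem normal_E (h : R2 T E ψ) : E.Normal :=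
  ⟨fun n hn g => by
    have : g * n * g⁻¹ = n := by rw [← Ecomm h hn g]; group
    rw [this]; exact hn⟩

theorem comm_pow_right (h : R2 T E ψ) {a b : T} (hc : ⁅a, b⁆ ∈ E) (j : ℕ) :
    ⁅a, b ^ j⁆ = ⁅a, b⁆ ^ j := by
  induction j with
  | zero => simp
  | succ j ih => rw [pow_succ, cmr h hc, ih, pow_succ]

theorem comm_pow_left (h : R2 T E ψ) {a b : T} (hc : ⁅a, b⁆ ∈ E) (i : ℕ) :
    ⁅a ^ i, b⁆ = ⁅a, b⁆ ^ i := by
  induction i with
  | zero => simp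
  | succ i ih => rw [pow_succ, cml h hc, ih, pow_succ]

/-- The elements that are central of order at most two modulo `E`. -/
def Msub (h : R2 T E ψ) : Subgroup T where
  carrier := {m | m * m ∈ E ∧ ∀ t, ⁅m, t⁆ ∈ E}
  one_mem' := ⟨by simp [E.one_mem], fun t => by simp [E.one_mem]⟩
  mul_mem' := by
    rintro a b ⟨ha, ha'⟩ ⟨hb, hb'⟩
    refine ⟨?_, fun t => ?_⟩
    · rw [sqm h (hb' a)]
      exact E.mul_mem (E.mul_mem (hb' a) ha) hb
    · rw [cml h (hb' t)]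
      exact E.mul_mem (ha' t) (hb' t)
  inv_mem' := by
    rintro a ⟨ha, ha'⟩
    refine ⟨?_, fun t => ?_⟩
    · have : a⁻¹ * a⁻¹ = (a * a)⁻¹ := by group
      rw [this]
      exact E.inv_mem ha
    · rw [cil h (ha' t)]
      exact ha' t

theorem mem_Msub (h : R2 T E ψ) {m : T} : m ∈ Msub h ↔ m * m ∈ E ∧ ∀ t, ⁅m, t⁆ ∈ E := Iff.rfl

theorem E_le_Msub (h : R2 T E ψ) : E ≤ Msub h := by
  intro e he
  refine ⟨by rw [sq h he]; exact E.one_mem, fun t => ?_⟩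
  rw [cEl h he]
  exact E.one_mem

theorem psi_Msub (h : R2 T E ψ) : ∀ m ∈ Msub h, ψ m ∈ Msub h := by
  rintro m ⟨hm, hm'⟩
  refine ⟨by rw [← map_mul]; exact psi_mem h hm, fun t => ?_⟩
  obtain ⟨t', rfl⟩ := psi_surj h t
  rw [← map_commutatorElement]
  exact psi_mem h (hm' t')

theorem Msub_comm_left (h : R2 T E ψ) {m : T} (hm : m ∈ Msub h) (t : T) : ⁅t, m⁆ ∈ E :=
  comm_mem_symm h (hm.2 t)

theorem Msub_conj (h : R2 T E ψ) {m : T} (hm : m ∈ Msub h) (g : T) : g * m * g⁻¹ ∈ Msub h := by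
  have hc : ⁅g, m⁆ ∈ E := Msub_comm_left h hm g
  have : g * m * g⁻¹ = ⁅g, m⁆ * m := by rw [commutatorElement_def]; group
  rw [this]
  exact (Msub h).mul_mem (E_le_Msub h hc) hm

theorem exists_Msub_notMem (h : R2 T E ψ) (hne : ∃ t : T, t ∉ E) : ∃ m ∈ Msub h, m ∉ E := by
  haveI := h.fin
  haveI : E.Normal := normal_E h
  obtain ⟨t₀, ht₀⟩ := hne
  haveI : Nontrivial (T ⧸ E) :=
    ⟨⟨(t₀ : T ⧸ E), 1, fun h0 => ht₀ ((QuotientGroup.eq_one_iff t₀).mp h0)⟩⟩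
  have hpQ : IsPGroup 2 (T ⧸ E) := h.pg.to_quotient E
  haveI : Fact (Nat.Prime 2) := ⟨Nat.prime_two⟩
  haveI hnt := hpQ.center_nontrivial
  obtain ⟨c, hc1⟩ := exists_ne (1 : Subgroup.center (T ⧸ E))
  have hc1' : (c : T ⧸ E) ≠ 1 := fun h0 => hc1 (Subtype.ext h0)
  obtain ⟨j, hj1, hj2⟩ := exists_pow_notMem hpQ (⊥ : Subgroup (T ⧸ E)) (g := (c : T ⧸ E))
    (by simpa using hc1')
  have hd1 : (c : T ⧸ E) ^ 2 ^ j ≠ 1 := by simpa using hj1
  have hd2 : (c : T ⧸ E) ^ 2 ^ j * (c : T ⧸ E) ^ 2 ^ j = 1 := by simpa using hj2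
  have hdc : (c : T ⧸ E) ^ 2 ^ j ∈ Subgroup.center (T ⧸ E) := Subgroup.pow_mem _ c.2 _
  obtain ⟨m, hm⟩ := QuotientGroup.mk_surjective ((c : T ⧸ E) ^ 2 ^ j)
  refine ⟨m, ⟨?_, fun t => ?_⟩, ?_⟩
  · rw [← QuotientGroup.eq_one_iff, QuotientGroup.mk_mul, hm]
    exact hd2
  · rw [← QuotientGroup.eq_one_iff]
    have : ((⁅m, t⁆ : T) : T ⧸ E) = ⁅(m : T ⧸ E), (t : T ⧸ E)⁆ :=
      map_commutatorElement (QuotientGroup.mk' E) m t
    rw [this, hm, commutatorElement_eq_one_iff_mul_comm]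
    exact (Subgroup.mem_center_iff.mp hdc (t : T ⧸ E)).symm
  · intro hmE
    apply hd1
    rw [← hm]
    exact (QuotientGroup.eq_one_iff m).mpr hmE

/-- Case 1: `M` is not commutative. -/
theorem case1 (h : R2 T E ψ) (hM : ¬ ∀ a ∈ Msub h, ∀ b ∈ Msub h, a * b = b * a) :
    (∀ t : T, t * t ∈ E) ∧ ∀ s t : T, ⁅s, t⁆ ∈ E := by
  haveI := h.fin
  -- Step 1a: the centre of `M` is `E`
  have hZ : ∀ z ∈ Msub h, (∀ m ∈ Msub h, z * m = m * z) → z ∈ E := by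
    intro z hz hzc
    by_contra hzE
    apply hM
    have he : z * z ∈ E := hz.1
    have hne : z * z ≠ 1 := fun h0 => hzE ((h.mem z).mp h0)
    have tab := etab h he hne
    have hz1 : ψ z ∈ Msub h := psi_Msub h z hz
    have hz1c : ∀ m ∈ Msub h, ψ z * m = m * ψ z := by
      intro m hm
      obtain ⟨m', hm', rfl⟩ := psi_surj_on h (Msub h) (psi_Msub h) m hm
      rw [← map_mul, ← map_mul, hzc m' hm']
    have hsq1 : ψ z * ψ z = ψ (z * z) := by rw [map_mul]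
    have hcen : ∀ a ∈ Msub h, ∀ m ∈ Msub h, a * m = m * a := by
      intro a ha m hm
      obtain ⟨ε, hε, hcase⟩ := sq_cases h (a₁ := z) (a₂ := ψ z) (a := a) he hne
        (by rw [hsq1]; exact tab.he₁) (by rw [hsq1]; exact tab.ne₁)
        (by rw [hsq1]; exact tab.n01) (hzc a ha).symm (hz1c a ha).symm (hz1c z hz).symm ha.1
      have hεc : ε * m = m * ε := Ecomm h hε m
      rcases hcase with rfl | rfl | rfl | rfl
      · exact hεc
      · rw [mul_assoc, hεc, ← mul_assoc, hzc m hm, mul_assoc]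
      · rw [mul_assoc, hεc, ← mul_assoc, hz1c m hm, mul_assoc]
      · calc z * ψ z * ε * m = z * ψ z * (ε * m) := by group
          _ = z * ψ z * (m * ε) := by rw [hεc]
          _ = z * (ψ z * m) * ε := by group
          _ = z * (m * ψ z) * ε := by rw [hz1c m hm]
          _ = (z * m) * ψ z * ε := by group
          _ = (m * z) * ψ z * ε := by rw [hzc m hm]
          _ = m * (z * ψ z * ε) := by group
    exact hcen
  -- Step 1b: the centraliser of `M` is `E`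
  have hC : ∀ c : T, (∀ m ∈ Msub h, m * c = c * m) → c ∈ E := by
    intro c hc
    by_contra hcE
    haveI : E.Normal := normal_E h
    haveI : Fact (Nat.Prime 2) := ⟨Nat.prime_two⟩
    have hpQ : IsPGroup 2 (T ⧸ E) := h.pg.to_quotient E
    have hCn : (Subgroup.centralizer (Msub h : Set T)).Normal := by
      refine ⟨fun c hc g => ?_⟩
      rw [Subgroup.mem_centralizer_iff]
      intro m hm
      have hm' : g⁻¹ * m * g⁻¹⁻¹ ∈ Msub h := Msub_conj h hm g⁻¹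
      have h1 := Subgroup.mem_centralizer_iff.mp hc _ hm'
      calc m * (g * c * g⁻¹) = g * ((g⁻¹ * m * g⁻¹⁻¹) * c) * g⁻¹ := by group
        _ = g * (c * (g⁻¹ * m * g⁻¹⁻¹)) * g⁻¹ := by rw [h1]
        _ = g * c * g⁻¹ * m := by group
    haveI hCQn : ((Subgroup.centralizer (Msub h : Set T)).map (QuotientGroup.mk' E)).Normal :=
      hCn.map _ (QuotientGroup.mk'_surjective E)
    have hne : (Subgroup.centralizer (Msub h : Set T)).map (QuotientGroup.mk' E) ≠ ⊥ := by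
      intro h0
      have h1 : (c : T ⧸ E) ∈ (Subgroup.centralizer (Msub h : Set T)).map (QuotientGroup.mk' E) :=
        Subgroup.mem_map_of_mem _ (Subgroup.mem_centralizer_iff.mpr hc)
      rw [h0, Subgroup.mem_bot] at h1
      exact hcE ((QuotientGroup.eq_one_iff c).mp h1)
    have hmeet := Cfsg.Agent.Lib.Helper66.normal_inf_center_ne_bot hpQ hne
    obtain ⟨d, hd1⟩ := (Subgroup.ne_bot_iff_exists_ne_one).mp hmeet
    obtain ⟨j, hj1, hj2⟩ := exists_pow_notMem hpQ (⊥ : Subgroup (T ⧸ E)) (g := (d : T ⧸ E))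
      (by
        rw [Subgroup.mem_bot]
        intro h0
        exact hd1 (Subtype.ext h0))
    have hw1 : (d : T ⧸ E) ^ 2 ^ j ≠ 1 := by simpa using hj1
    have hw2 : (d : T ⧸ E) ^ 2 ^ j * (d : T ⧸ E) ^ 2 ^ j = 1 := by simpa using hj2
    have hwm := Subgroup.pow_mem _ d.2 (2 ^ j)
    obtain ⟨hwC, hwZ⟩ := Subgroup.mem_inf.mp hwm
    obtain ⟨c', hc', hc'w⟩ := Subgroup.mem_map.mp hwC
    have hc'w' : (c' : T ⧸ E) = (d : T ⧸ E) ^ 2 ^ j := hc'w
    have hc'M : c' ∈ Msub h := by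
      refine ⟨?_, fun t => ?_⟩
      · rw [← QuotientGroup.eq_one_iff, QuotientGroup.mk_mul, hc'w']
        exact hw2
      · rw [← QuotientGroup.eq_one_iff]
        have : ((⁅c', t⁆ : T) : T ⧸ E) = ⁅(c' : T ⧸ E), (t : T ⧸ E)⁆ :=
          map_commutatorElement (QuotientGroup.mk' E) c' t
        rw [this, hc'w', commutatorElement_eq_one_iff_mul_comm]
        exact (Subgroup.mem_center_iff.mp hwZ (t : T ⧸ E)).symm
    have hc'E : c' ∈ E := hZ c' hc'M (fun m hm => (Subgroup.mem_centralizer_iff.mp hc' m hm).symm)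
    apply hw1
    rw [← hc'w']
    exact (QuotientGroup.eq_one_iff c').mpr hc'E
  -- Step 1c
  constructor
  · intro t
    apply hC
    intro m hm
    have hx : ⁅t, m⁆ ∈ E := Msub_comm_left h hm t
    have h1 : ⁅t * t, m⁆ = 1 := by rw [cml h hx, sq h hx]
    exact (commutatorElement_eq_one_iff_mul_comm.mp h1).symm
  · intro s t
    apply hC
    intro m hm
    have hs : ⁅s, m⁆ ∈ E := Msub_comm_left h hm s
    have ht : ⁅t, m⁆ ∈ E := Msub_comm_left h hm t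
    have hs' : ⁅s⁻¹, m⁆ ∈ E := Msub_comm_left h hm s⁻¹
    have ht' : ⁅t⁻¹, m⁆ ∈ E := Msub_comm_left h hm t⁻¹
    have h1 : ⁅⁅s, t⁆, m⁆ = 1 := by
      have e0 : ⁅s, t⁆ = s * t * s⁻¹ * t⁻¹ := commutatorElement_def s t
      rw [e0, cml h ht', cml h hs', cml h ht, cil h hs, cil h ht]
      have h2 := sq h (E.mul_mem hs ht)
      calc ⁅s, m⁆ * ⁅t, m⁆ * ⁅s, m⁆ * ⁅t, m⁆ = ⁅s, m⁆ * ⁅t, m⁆ * (⁅s, m⁆ * ⁅t, m⁆) := by group
        _ = 1 := h2
    exact (commutatorElement_eq_one_iff_mul_comm.mp h1).symm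

theorem tab_a {e e₁ e₂ p r : T} (tab : ETab E ψ e e₁ e₂) (hp : p ∈ E) (hr : r ∈ E) :
    r * ψ p * ψ (ψ p * ψ r) = ψ (p * (ψ p * ψ r) * (ψ (ψ p * ψ r) * ψ (ψ p))) := by
  rcases tab.all p hp with rfl | rfl | rfl | rfl <;>
    rcases tab.all r hr with rfl | rfl | rfl | rfl <;>
    simp [tab.p0, tab.p1, tab.p2, tab.m01, tab.m10, tab.m02, tab.m20, tab.m12, tab.m21,
      tab.s0, tab.s1, tab.s2]

theorem tab_b {e e₁ e₂ p r : T} (tab : ETab E ψ e e₁ e₂) (hp : p ∈ E) (hr : r ∈ E)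
    (hP : p * (ψ p * ψ r) * (ψ (ψ p * ψ r) * ψ (ψ p)) = 1) : r = ψ (ψ p) := by
  rcases tab.all p hp with rfl | rfl | rfl | rfl <;>
    rcases tab.all r hr with rfl | rfl | rfl | rfl <;>
    simp [tab.p0, tab.p1, tab.p2, tab.m01, tab.m10, tab.m02, tab.m20, tab.m12, tab.m21,
      tab.s0, tab.s1, tab.s2, tab.ne, tab.ne₁, tab.ne₂, tab.n01, tab.n02, tab.n12,
      tab.n01.symm, tab.n02.symm, tab.n12.symm, tab.ne.symm, tab.ne₁.symm, tab.ne₂.symm]
      at hP ⊢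

/-- A `ψ`-invariant "line": commutators with `ψ x` are determined by commutators with `x`. -/
theorem line (h : R2 T E ψ) {x : T} (hx : x * x ∈ E) (hx1 : x * x ≠ 1)
    (hxy : x * ψ x = ψ x * x) {ε₁ : T} (hε : ε₁ ∈ E) (hyy : ψ (ψ x) = x * ψ x * ε₁)
    (hcx : ∀ t : T, ⁅t, x⁆ ∈ E) :
    (∀ t : T, ⁅t, ψ x⁆ = ψ (ψ ⁅t, x⁆)) ∧ (∀ t : T, ⁅ψ t, x⁆ = ψ (ψ ⁅t, x⁆)) := by
  have tab := etab h hx hx1
  have hcy : ∀ t : T, ⁅t, ψ x⁆ ∈ E := by
    intro t
    obtain ⟨t', rfl⟩ := psi_surj h t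
    rw [← map_commutatorElement]
    exact psi_mem h (hcx t')
  -- L1
  have L1 : ∀ t : T, ⁅ψ t, ψ x⁆ = ψ ⁅t, x⁆ := fun t => (map_commutatorElement ψ t x).symm
  -- L2
  have L2 : ∀ t : T, ⁅ψ t, x⁆ = ψ ⁅t, x⁆ * ψ ⁅t, ψ x⁆ := by
    intro t
    have h1 : ⁅ψ t, ψ (ψ x)⁆ = ψ ⁅t, ψ x⁆ := (map_commutatorElement ψ t (ψ x)).symm
    rw [hyy, cmEr h hε, cmr h (hcy (ψ t)), L1] at h1
    have hp : ψ ⁅t, x⁆ ∈ E := psi_mem h (hcx t)
    calc ⁅ψ t, x⁆ = ⁅ψ t, x⁆ * ψ ⁅t, x⁆ * ψ ⁅t, x⁆ := by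
          rw [mul_assoc, sq h hp, mul_one]
      _ = ψ ⁅t, ψ x⁆ * ψ ⁅t, x⁆ := by rw [h1]
      _ = ψ ⁅t, x⁆ * ψ ⁅t, ψ x⁆ := (Ecomm h hp _).symm
  -- the centraliser of the line
  let C : Subgroup T := Subgroup.centralizer ({x, ψ x} : Set T)
  have hCmem : ∀ c : T, c ∈ C ↔ x * c = c * x ∧ ψ x * c = c * ψ x := by
    intro c
    rw [Subgroup.mem_centralizer_iff]
    constructor
    · intro hc
      exact ⟨hc x (by simp), hc (ψ x) (by simp)⟩
    · rintro ⟨h1, h2⟩ g hg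
      rcases hg with rfl | rfl
      · exact h1
      · exact h2
  have hCψ : ∀ c ∈ C, ψ c ∈ C := by
    intro c hc
    obtain ⟨h1, h2⟩ := (hCmem c).mp hc
    have e1 : ψ x * ψ c = ψ c * ψ x := by rw [← map_mul, ← map_mul, h1]
    have e2 : ψ (ψ x) * ψ c = ψ c * ψ (ψ x) := by rw [← map_mul, ← map_mul, h2]
    rw [hyy] at e2
    have hεc : ε₁ * ψ c = ψ c * ε₁ := Ecomm h hε _
    have e3 : x * ψ x * ψ c = ψ c * (x * ψ x) := by
      have : x * ψ x * ε₁ * ψ c = x * ψ x * ψ c * ε₁ := by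
        rw [mul_assoc, hεc, ← mul_assoc]
      rw [this, ← mul_assoc] at e2
      exact mul_right_cancel e2
    refine (hCmem _).mpr ⟨?_, e1⟩
    have : x * ψ x * ψ c = x * ψ c * ψ x := by rw [mul_assoc, e1, ← mul_assoc]
    rw [this, ← mul_assoc] at e3
    exact mul_right_cancel e3
  -- L3
  have L3 : ∀ t : T, ⁅t, ψ x⁆ = ψ ⁅t, x⁆ → t ∈ C := by
    intro t ht
    apply coset_fix h C hCψ
    have hp : ⁅t, x⁆ ∈ E := hcx t
    rw [hCmem]
    constructor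
    · have h1 : ⁅t⁻¹ * ψ t, x⁆ = 1 := by
        rw [cml h (hcx _), cil h hp, L2, ht, ← mul_assoc]
        exact E_norm h hp
      exact (commutatorElement_eq_one_iff_mul_comm.mp h1).symm
    · have h1 : ⁅t⁻¹ * ψ t, ψ x⁆ = 1 := by
        rw [cml h (hcy _), cil h (hcy t), L1, ht]
        exact sq h (psi_mem h hp)
      exact (commutatorElement_eq_one_iff_mul_comm.mp h1).symm
  -- L4
  have L4 : ∀ t : T, ⁅t, ψ x⁆ = ψ (ψ ⁅t, x⁆) := by
    intro t
    obtain ⟨p, hpdef⟩ : ∃ p, p = ⁅t, x⁆ := ⟨_, rfl⟩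
    obtain ⟨r, hrdef⟩ : ∃ r, r = ⁅t, ψ x⁆ := ⟨_, rfl⟩
    have hp : p ∈ E := hpdef ▸ hcx t
    have hr : r ∈ E := hrdef ▸ hcy t
    have a1 : ⁅ψ t, x⁆ = ψ p * ψ r := by rw [L2, ← hpdef, ← hrdef]
    have a2 : ⁅ψ t, ψ x⁆ = ψ p := by rw [L1, ← hpdef]
    have a3 : ⁅ψ (ψ t), x⁆ = ψ (ψ p * ψ r) * ψ (ψ p) := by rw [L2, a1, a2]
    have a4 : ⁅ψ (ψ t), ψ x⁆ = ψ (ψ p * ψ r) := by rw [L1, a1]
    have b1 : ⁅t * ψ t * ψ (ψ t), x⁆ = p * (ψ p * ψ r) * (ψ (ψ p * ψ r) * ψ (ψ p)) := by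
      rw [cml h (hcx _), cml h (hcx _), a1, a3, ← hpdef]
    have b2 : ⁅t * ψ t * ψ (ψ t), ψ x⁆ = r * ψ p * ψ (ψ p * ψ r) := by
      rw [cml h (hcy _), cml h (hcy _), a2, a4, ← hrdef]
    have hs : t * ψ t * ψ (ψ t) ∈ C := by
      apply L3
      rw [b1, b2]
      exact tab_a tab hp hr
    have hP : p * (ψ p * ψ r) * (ψ (ψ p * ψ r) * ψ (ψ p)) = 1 := by
      rw [← b1]
      exact commutatorElement_eq_one_iff_mul_comm.mpr ((hCmem _).mp hs).1.symm
    rw [← hrdef, ← hpdef]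
    exact tab_b tab hp hr hP
  refine ⟨L4, fun t => ?_⟩
  -- F2
  have hp' : ⁅ψ t, x⁆ ∈ E := hcx _
  have h1 : ψ (ψ ⁅ψ t, x⁆) = ψ ⁅t, x⁆ := by rw [← L4, L1]
  have h2 : ψ ⁅ψ t, x⁆ = ⁅t, x⁆ := h.inj h1
  apply h.inj
  rw [h2, E_cube h (hcx t)]

/-- The case where `M` is central is impossible for non-commutative `T`. -/
theorem central_case (h : R2 T E ψ)
    (ih : ∀ (T' : Type u) [Group T'] (E' : Subgroup T') (ψ' : T' →* T'), R2 T' E' ψ' →
      Nat.card T' < Nat.card T →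
      (∀ a b : T', a * b = b * a) ∨ ((∀ t : T', t * t ∈ E') ∧ ∀ s t : T', ⁅s, t⁆ ∈ E'))
    (M : Subgroup T) (hM : ∀ t, t * t ∈ E ↔ t ∈ M) (hMc : M ≤ Subgroup.center T)
    {m₀ : T} (hm₀ : m₀ ∈ M) (hm₀E : m₀ ∉ E)
    (hMs : ∀ m ∈ M, ∃ ε ∈ E, m = ε ∨ m = m₀ * ε ∨ m = ψ m₀ * ε ∨ m = m₀ * ψ m₀ * ε) :
    ∀ a b : T, a * b = b * a := by
  classical
  haveI := h.fin
  haveI : E.Normal := normal_E h
  have hEM : E ≤ M := by
    intro e he
    exact (hM e).mp (by rw [sq h he]; exact E.one_mem)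
  have hcard : Nat.card (M.map (QuotientGroup.mk' E)) ≤ 4 := by
    have hsub : ((M.map (QuotientGroup.mk' E) : Subgroup (T ⧸ E)) : Set (T ⧸ E)) ⊆
        (({1, (m₀ : T ⧸ E), ((ψ m₀ : T) : T ⧸ E), ((m₀ * ψ m₀ : T) : T ⧸ E)} :
          Finset (T ⧸ E)) : Set (T ⧸ E)) := by
      intro q hq
      obtain ⟨m, hm, rfl⟩ := Subgroup.mem_map.mp hq
      obtain ⟨ε, hε, hcase⟩ := hMs m hm
      have hε1 : ((ε : T) : T ⧸ E) = 1 := (QuotientGroup.eq_one_iff ε).mpr hε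
      simp only [Finset.coe_insert, Finset.coe_singleton, Set.mem_insert_iff,
        Set.mem_singleton_iff, QuotientGroup.mk'_apply]
      rcases hcase with rfl | rfl | rfl | rfl
      · exact Or.inl hε1
      · right; left
        rw [QuotientGroup.mk_mul, hε1, mul_one]
      · right; right; left
        rw [QuotientGroup.mk_mul, hε1, mul_one]
      · right; right; right
        rw [QuotientGroup.mk_mul, hε1, mul_one]
    calc Nat.card (M.map (QuotientGroup.mk' E))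
        = Set.ncard ((M.map (QuotientGroup.mk' E) : Subgroup (T ⧸ E)) : Set (T ⧸ E)) :=
          Nat.card_coe_set_eq _
      _ ≤ Set.ncard (({1, (m₀ : T ⧸ E), ((ψ m₀ : T) : T ⧸ E), ((m₀ * ψ m₀ : T) : T ⧸ E)} :
          Finset (T ⧸ E)) : Set (T ⧸ E)) := Set.ncard_le_ncard hsub (Finset.finite_toSet _)
      _ = _ := Set.ncard_coe_finset _
      _ ≤ 4 := Finset.card_le_four
  have hq := quot h M hM hMc hcard ⟨m₀, hm₀, hm₀E⟩
  have hlt : Nat.card (T ⧸ E) < Nat.card T := by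
    have h1 := Subgroup.card_eq_card_quotient_mul_card_subgroup E
    have h2 : 1 < Nat.card E := by
      rw [Subgroup.one_lt_card_iff_ne_bot]
      obtain ⟨e, he, hne⟩ := h.ne
      intro h0
      rw [h0, Subgroup.mem_bot] at he
      exact hne he
    have h3 : 0 < Nat.card (T ⧸ E) := Nat.card_pos
    rw [h1]
    nlinarith
  have hmemM : ∀ x : T, ((x : T) : T ⧸ E) ∈ M.map (QuotientGroup.mk' E) → x ∈ M := by
    intro x hx
    obtain ⟨m, hm, hmx⟩ := Subgroup.mem_map.mp hx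
    have h1 : m⁻¹ * x ∈ E := QuotientGroup.eq.mp hmx
    have : x = m * (m⁻¹ * x) := by group
    rw [this]
    exact M.mul_mem hm (hEM h1)
  have hmk : ∀ s t : T, ((⁅s, t⁆ : T) : T ⧸ E) = ⁅(s : T ⧸ E), (t : T ⧸ E)⁆ := fun s t =>
    map_commutatorElement (QuotientGroup.mk' E) s t
  -- all commutators lie in `E`
  have hcE : ∀ s t : T, ⁅s, t⁆ ∈ E := by
    rcases ih (T ⧸ E) _ _ hq hlt with h1 | ⟨h1, h2⟩
    · intro s t
      rw [← QuotientGroup.eq_one_iff, hmk, commutatorElement_eq_one_iff_mul_comm]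
      exact h1 _ _
    · intro s t
      have hc : ⁅s, t⁆ ∈ M := by
        apply hmemM
        rw [hmk]
        exact h2 _ _
      have hs : s * s ∈ M := by
        apply hmemM
        rw [QuotientGroup.mk_mul]
        exact h1 _
      have h3 : ⁅s * s, t⁆ = ⁅s, t⁆ * ⁅s, t⁆ := comm_mul_left' (hMc hc)
      have h4 : ⁅s * s, t⁆ = 1 := by
        rw [commutatorElement_eq_one_iff_mul_comm]
        exact (Subgroup.mem_center_iff.mp (hMc hs) t).symm
      rw [h4] at h3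
      exact (h.mem _).mp h3.symm
  have hQab : ∀ a b : T ⧸ E, a * b = b * a := by
    intro a b
    obtain ⟨s, rfl⟩ := QuotientGroup.mk_surjective a
    obtain ⟨t, rfl⟩ := QuotientGroup.mk_surjective b
    rw [← commutatorElement_eq_one_iff_mul_comm, ← hmk]
    exact (QuotientGroup.eq_one_iff _).mpr (hcE s t)
  obtain ⟨xb, n, -, -, hgen, -⟩ := abel_gen hq hQab
  obtain ⟨x, rfl⟩ := QuotientGroup.mk_surjective xb
  have hgen' : ∀ t : T, ∃ i j : ℕ, ∃ ε ∈ E, t = x ^ i * (ψ x) ^ j * ε := by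
    intro t
    obtain ⟨i, j, hij⟩ := hgen (t : T ⧸ E)
    rw [QuotientGroup.map_mk, ← QuotientGroup.mk_pow, ← QuotientGroup.mk_pow,
      ← QuotientGroup.mk_mul] at hij
    have h1 : (x ^ i * (ψ x) ^ j)⁻¹ * t ∈ E := QuotientGroup.eq.mp hij.symm
    refine ⟨i, j, _, h1, ?_⟩
    group
  obtain ⟨k, hkdef⟩ : ∃ k, k = ⁅x, ψ x⁆ := ⟨_, rfl⟩
  have hk : k ∈ E := hkdef ▸ hcE _ _
  have hkk : k * k = 1 := sq h hk
  have hcases : ∀ s t : T, ⁅s, t⁆ = 1 ∨ ⁅s, t⁆ = k := by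
    intro s t
    obtain ⟨i, j, ε, hε, rfl⟩ := hgen' s
    obtain ⟨i', j', ε', hε', rfl⟩ := hgen' t
    have e1 : ⁅x ^ i, x ^ i'⁆ = 1 := by
      rw [commutatorElement_eq_one_iff_mul_comm, ← pow_add, ← pow_add, add_comm]
    have e2 : ⁅ψ x ^ j, ψ x ^ j'⁆ = 1 := by
      rw [commutatorElement_eq_one_iff_mul_comm, ← pow_add, ← pow_add, add_comm]
    have e3 : ⁅x ^ i, ψ x ^ j'⁆ = (k ^ j') ^ i := by
      rw [comm_pow_left h (hcE _ _), comm_pow_right h (hcE _ _), hkdef]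
    have e4 : ⁅ψ x ^ j, x ^ i'⁆ = (k ^ i') ^ j := by
      rw [comm_pow_left h (hcE _ _), comm_pow_right h (hcE _ _), comm_symm h (hcE x (ψ x)), hkdef]
    rw [cmEl h hε, cmEr h hε', cml h (hcE _ _), cmr h (hcE _ _), cmr h (hcE _ _), e1, e2, e3, e4,
      one_mul, mul_one, ← pow_mul, ← pow_mul, ← pow_add]
    exact pow_sq_cases hkk _
  have hk1 : k = 1 := by
    have h1 : ψ k = ⁅ψ x, ψ (ψ x)⁆ := by rw [hkdef, map_commutatorElement]
    rcases hcases (ψ x) (ψ (ψ x)) with h2 | h2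
    · rw [h2] at h1
      apply h.inj
      rw [h1, map_one]
    · rw [h2] at h1
      exact h.mov k hk h1
  intro a b
  rw [← commutatorElement_eq_one_iff_mul_comm]
  rcases hcases a b with h1 | h1
  · exact h1
  · rw [h1, hk1]

/-- Case 2: `M` is commutative. -/
theorem case2 (h : R2 T E ψ)
    (ih : ∀ (T' : Type u) [Group T'] (E' : Subgroup T') (ψ' : T' →* T'), R2 T' E' ψ' →
      Nat.card T' < Nat.card T →
      (∀ a b : T', a * b = b * a) ∨ ((∀ t : T', t * t ∈ E') ∧ ∀ s t : T', ⁅s, t⁆ ∈ E'))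
    (hab : ¬ ∀ a b : T, a * b = b * a)
    (hMc : ∀ a ∈ Msub h, ∀ b ∈ Msub h, a * b = b * a) :
    (∀ t : T, t * t ∈ E) ∧ ∀ s t : T, ⁅s, t⁆ ∈ E := by
  haveI := h.fin
  -- (0)
  have hne : ∃ t : T, t ∉ E := by
    by_contra hall
    push_neg at hall
    exact hab (fun a b => Ecomm h (hall a) b)
  obtain ⟨m₀, hm₀, hm₀E⟩ := exists_Msub_notMem h hne
  have he : m₀ * m₀ ∈ E := hm₀.1
  have hne1 : m₀ * m₀ ≠ 1 := fun h0 => hm₀E ((h.mem m₀).mp h0)
  have tab := etab h he hne1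
  have hm₁ : ψ m₀ ∈ Msub h := psi_Msub h m₀ hm₀
  have hsq1 : ψ m₀ * ψ m₀ = ψ (m₀ * m₀) := by rw [map_mul]
  have h01 : m₀ * ψ m₀ = ψ m₀ * m₀ := hMc _ hm₀ _ hm₁
  -- (2)
  have hMs : ∀ m ∈ Msub h, ∃ ε ∈ E, m = ε ∨ m = m₀ * ε ∨ m = ψ m₀ * ε ∨ m = m₀ * ψ m₀ * ε := by
    intro m hm
    exact sq_cases h he hne1 (by rw [hsq1]; exact tab.he₁) (by rw [hsq1]; exact tab.ne₁)
      (by rw [hsq1]; exact tab.n01) (hMc _ hm _ hm₀) (hMc _ hm _ hm₁) h01 hm.1
  -- (3)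
  have hm₂ : ψ (ψ m₀) ∈ Msub h := psi_Msub h _ hm₁
  obtain ⟨ε₁, hε₁, hyy⟩ : ∃ ε₁ ∈ E, ψ (ψ m₀) = m₀ * ψ m₀ * ε₁ := by
    have hsq2 : ψ (ψ m₀) * ψ (ψ m₀) = ψ (ψ (m₀ * m₀)) := by rw [map_mul, map_mul]
    obtain ⟨ε, hε, hcase⟩ := hMs _ hm₂
    rcases hcase with h0 | h0 | h0 | h0
    · exfalso
      apply tab.ne₂
      rw [← hsq2, h0]
      exact sq h hε
    · exfalso
      apply tab.n02
      rw [← hsq2, h0, sq_mul_E h hε]
    · exfalso
      apply tab.n12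
      rw [← hsq2, h0, sq_mul_E h hε, hsq1]
    · exact ⟨ε, hε, h0⟩
  -- (4)
  have hcx : ∀ t : T, ⁅t, m₀⁆ ∈ E := fun t => Msub_comm_left h hm₀ t
  obtain ⟨F1, F2⟩ := line h he hne1 h01 hε₁ hyy hcx
  -- (5)
  obtain ⟨C, hCdef⟩ : ∃ C : Subgroup T, C = Subgroup.centralizer (Msub h : Set T) := ⟨_, rfl⟩
  have hCmem : ∀ c : T, c ∈ C ↔ ∀ m ∈ Msub h, m * c = c * m := fun c => by
    rw [hCdef]; exact Subgroup.mem_centralizer_iff
  have hC0 : ∀ t : T, ⁅t, m₀⁆ = 1 → t ∈ C := by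
    intro t ht
    have h0 : t * m₀ = m₀ * t := commutatorElement_eq_one_iff_mul_comm.mp ht
    have h1 : t * ψ m₀ = ψ m₀ * t := by
      apply commutatorElement_eq_one_iff_mul_comm.mp
      rw [F1, ht, map_one, map_one]
    rw [hCmem]
    intro m hm
    obtain ⟨ε, hε, hcase⟩ := hMs m hm
    have hεt : ε * t = t * ε := Ecomm h hε t
    rcases hcase with rfl | rfl | rfl | rfl
    · exact hεt
    · rw [mul_assoc, hεt, ← mul_assoc, ← h0, mul_assoc]
    · rw [mul_assoc, hεt, ← mul_assoc, ← h1, mul_assoc]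
    · calc m₀ * ψ m₀ * ε * t = m₀ * ψ m₀ * (ε * t) := by group
        _ = m₀ * ψ m₀ * (t * ε) := by rw [hεt]
        _ = m₀ * (ψ m₀ * t) * ε := by group
        _ = m₀ * (t * ψ m₀) * ε := by rw [h1]
        _ = (m₀ * t) * ψ m₀ * ε := by group
        _ = (t * m₀) * ψ m₀ * ε := by rw [h0]
        _ = t * (m₀ * ψ m₀ * ε) := by group
  have hCψ : ∀ c ∈ C, ψ c ∈ C := by
    intro c hc
    rw [hCmem] at hc ⊢
    intro m hm
    obtain ⟨m', hm', rfl⟩ := psi_surj_on h (Msub h) (psi_Msub h) m hm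
    rw [← map_mul, ← map_mul, hc m' hm']
  have hEC : E ≤ C := fun e he => (hCmem e).mpr (fun m hm => (Ecomm h he m).symm)
  -- (6)
  have hstar : ∀ c ∈ C, c * c ∈ E → c ∈ Msub h := by
    intro c hc hcc
    have hc' := (hCmem c).mp hc
    obtain ⟨ε, hε, hcase⟩ := sq_cases h he hne1 (by rw [hsq1]; exact tab.he₁)
      (by rw [hsq1]; exact tab.ne₁) (by rw [hsq1]; exact tab.n01) (hc' _ hm₀).symm
      (hc' _ hm₁).symm h01 hcc
    have hεM := E_le_Msub h hε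
    rcases hcase with rfl | rfl | rfl | rfl
    · exact hεM
    · exact (Msub h).mul_mem hm₀ hεM
    · exact (Msub h).mul_mem hm₁ hεM
    · exact (Msub h).mul_mem ((Msub h).mul_mem hm₀ hm₁) hεM
  -- (7)
  have hCab : ∀ a ∈ C, ∀ b ∈ C, a * b = b * a := by
    by_cases hCtop : C = ⊤
    · exfalso
      apply hab
      have hall : ∀ g : T, g ∈ C := fun g => hCtop ▸ Subgroup.mem_top g
      have hMcen : Msub h ≤ Subgroup.center T := by
        intro m hm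
        rw [Subgroup.mem_center_iff]
        intro g
        exact ((hCmem g).mp (hall g) m hm).symm
      have hM' : ∀ t : T, t * t ∈ E ↔ t ∈ Msub h := by
        intro t
        constructor
        · intro ht
          exact hstar t (hall t) ht
        · intro ht
          exact ht.1
      exact central_case h ih (Msub h) hM' hMcen hm₀ hm₀E hMs
    · have hlt : Nat.card C < Nat.card T :=
        lt_of_le_of_ne (Subgroup.card_le_card_group C)
          (fun h0 => hCtop (Subgroup.eq_top_of_card_eq C h0))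
      rcases ih C _ _ (sub h C hCψ hEC) hlt with h1 | ⟨h1, -⟩
      · intro a ha b hb
        have h2 := congrArg Subtype.val (h1 ⟨a, ha⟩ ⟨b, hb⟩)
        exact h2
      · intro a ha b hb
        have hxa : a ∈ Msub h := hstar a ha (Subgroup.mem_subgroupOf.mp (h1 ⟨a, ha⟩))
        have hxb : b ∈ Msub h := hstar b hb (Subgroup.mem_subgroupOf.mp (h1 ⟨b, hb⟩))
        exact hMc a hxa b hxb
  -- (8)
  have h8 : ∀ t : T, t ∉ C → ∀ m ∈ Msub h, ⁅t, m⁆ = 1 → m ∈ E := by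
    intro t ht m hm htm
    have hp1 : ⁅t, m₀⁆ ≠ 1 := fun h0 => ht (hC0 t h0)
    have hp : ⁅t, m₀⁆ ∈ E := hcx t
    have tp := etab h hp hp1
    have hcy : ⁅t, ψ m₀⁆ ∈ E := Msub_comm_left h hm₁ t
    obtain ⟨ε, hε, hcase⟩ := hMs m hm
    rcases hcase with rfl | rfl | rfl | rfl
    · exact hε
    · exfalso
      rw [cmEr h hε] at htm
      exact hp1 htm
    · exfalso
      rw [cmEr h hε, F1] at htm
      exact tp.ne₂ htm
    · exfalso
      rw [cmEr h hε, cmr h hcy, F1, tp.m02] at htm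
      exact tp.ne₁ htm
  -- (9)
  have h9 : ∀ t : T, t * ψ t * ψ (ψ t) ∈ C := by
    intro t
    apply hC0
    have hp : ⁅t, m₀⁆ ∈ E := hcx t
    have hp1 : ψ ⁅t, m₀⁆ ∈ E := psi_mem h hp
    have hp2 : ψ (ψ ⁅t, m₀⁆) ∈ E := psi_mem h hp1
    rw [cml h (hcx _), cml h (hcx _), F2 (ψ t), F2 t, E_cube h hp, mul_assoc,
      Ecomm h hp2, ← mul_assoc]
    exact E_norm h hp
  -- (10)
  have h10 : ∀ t : T, t ∉ C → t * t ∈ E := by
    intro t ht
    by_contra hu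
    have huC : t * t ∈ C := by
      rw [hCmem]
      intro m hm
      have hx : ⁅t, m⁆ ∈ E := Msub_comm_left h hm t
      have h1 : ⁅t * t, m⁆ = 1 := by rw [cml h hx, sq h hx]
      exact (commutatorElement_eq_one_iff_mul_comm.mp h1).symm
    obtain ⟨j, hj1, hj2⟩ := exists_pow_notMem h.pg E hu
    have hwC : (t * t) ^ 2 ^ j ∈ C := C.pow_mem huC _
    have hwM : (t * t) ^ 2 ^ j ∈ Msub h := hstar _ hwC hj2
    apply hj1
    apply h8 t ht _ hwM
    rw [commutatorElement_eq_one_iff_mul_comm, ← pow_two, ← pow_mul]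
    exact (pow_mul_comm' t _).symm
  -- (11)
  have h11 : C ≤ Msub h := by
    intro c hc
    by_contra hcM
    obtain ⟨j, hj1, hj2⟩ := exists_pow_notMem h.pg (Msub h) hcM
    obtain ⟨c', hc'def⟩ : ∃ c', c' = c ^ 2 ^ j := ⟨_, rfl⟩
    rw [← hc'def] at hj1 hj2
    have hc'C : c' ∈ C := hc'def ▸ C.pow_mem hc _
    have hnE : c' * c' ∉ E := fun h0 => hj1 (hstar c' hc'C h0)
    obtain ⟨N, hN⟩ : ∃ N, N = (c' * c') * (c' * c') := ⟨_, rfl⟩
    have hnn : N ≠ 1 := fun h0 => hnE ((h.mem _).mp (hN ▸ h0))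
    have hnnE : N ∈ E := hN ▸ hj2.1
    have key : ∀ t : T, t ∉ C → ⁅t, c' * c'⁆ = N := by
      intro t ht
      have h1 : t * t ∈ E := h10 t ht
      have hz : (t * t)⁻¹ ∈ E := E.inv_mem h1
      have htc : t * c' ∉ C := fun h0 => ht (by
        have := C.mul_mem h0 (C.inv_mem hc'C)
        simpa using this)
      have h2 : (t * c') * (t * c') ∈ E := h10 _ htc
      obtain ⟨ε, hεdef⟩ : ∃ ε, ε = t * c' * t⁻¹ * c' := ⟨_, rfl⟩
      have hεE : ε ∈ E := by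
        have e1 : ε = (t * c') * (t * t)⁻¹ * (t * c') := by rw [hεdef]; group
        rw [e1, ← Ecomm h hz (t * c'), mul_assoc]
        exact E.mul_mem hz h2
      have h4 : t * c' * t⁻¹ = ε * c'⁻¹ := by rw [hεdef]; group
      have h5 : t * (c' * c') * t⁻¹ = c'⁻¹ * c'⁻¹ := by
        calc t * (c' * c') * t⁻¹ = (t * c' * t⁻¹) * (t * c' * t⁻¹) := by group
          _ = ε * c'⁻¹ * (ε * c'⁻¹) := by rw [h4]
          _ = ε * (c'⁻¹ * ε) * c'⁻¹ := by group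
          _ = ε * (ε * c'⁻¹) * c'⁻¹ := by rw [← Ecomm h hεE c'⁻¹]
          _ = (ε * ε) * c'⁻¹ * c'⁻¹ := by group
          _ = c'⁻¹ * c'⁻¹ := by rw [sq h hεE, one_mul]
      rw [commutatorElement_def, h5]
      have e2 : c'⁻¹ * c'⁻¹ * (c' * c')⁻¹ = ((c' * c') * (c' * c'))⁻¹ := by group
      rw [e2, ← hN, inv_E h hnnE]
    obtain ⟨t, ht⟩ : ∃ t : T, t ∉ C := by
      by_contra hall
      push_neg at hall
      exact hab (fun a b => hCab a (hall a) b (hall b))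
    have ht1 : ψ t ∉ C := fun h0 => ht (psi_mem_of h C hCψ h0)
    have ht2 : ψ (ψ t) ∉ C := fun h0 => ht1 (psi_mem_of h C hCψ h0)
    have hnM : c' * c' ∈ Msub h := hj2
    have h6 : ⁅t * ψ t * ψ (ψ t), c' * c'⁆ = 1 := by
      rw [commutatorElement_eq_one_iff_mul_comm]
      exact ((hCmem _).mp (h9 t) _ hnM).symm
    have hcE : ∀ s : T, ⁅s, c' * c'⁆ ∈ E := fun s => Msub_comm_left h hnM s
    rw [cml h (hcE _), cml h (hcE _), key t ht, key _ ht1, key _ ht2, sq h hnnE, one_mul] at h6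
    exact hnn h6
  -- (12)
  have hsqE : ∀ t : T, t * t ∈ E := by
    intro t
    by_cases ht : t ∈ C
    · exact (h11 ht).1
    · exact h10 t ht
  refine ⟨hsqE, fun s t => ?_⟩
  have hz : (s * s)⁻¹ ∈ E := E.inv_mem (hsqE s)
  have e1 : ⁅s, t⁆ = s * t * (s * s)⁻¹ * (s * t) * (t * t)⁻¹ := by
    rw [commutatorElement_def]; group
  have e2 : s * t * (s * s)⁻¹ = (s * s)⁻¹ * (s * t) := (Ecomm h hz (s * t)).symm
  have e3 : (s * s)⁻¹ * (s * t) * (s * t) * (t * t)⁻¹ =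
      (s * s)⁻¹ * ((s * t) * (s * t)) * (t * t)⁻¹ := by group
  rw [e1, e2, e3]
  exact E.mul_mem (E.mul_mem hz (hsqE (s * t))) (E.inv_mem (hsqE t))

/-- The dichotomy: `T` is commutative or `T ⧸ E` is elementary abelian. -/
theorem main : ∀ (n : ℕ) (T : Type u) [Group T] (E : Subgroup T) (ψ : T →* T), R2 T E ψ →
    Nat.card T = n →
    (∀ a b : T, a * b = b * a) ∨ ((∀ t : T, t * t ∈ E) ∧ ∀ s t : T, ⁅s, t⁆ ∈ E) := by
  intro n
  induction n using Nat.strong_induction_on with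
  | _ n IH =>
    intro T _ E ψ h hn
    by_cases hab : ∀ a b : T, a * b = b * a
    · exact Or.inl hab
    · right
      by_cases hMc : ∀ a ∈ Msub h, ∀ b ∈ Msub h, a * b = b * a
      · refine case2 h ?_ hab hMc
        intro T' _ E' ψ' h' hlt
        exact IH (Nat.card T') (hn ▸ hlt) T' E' ψ' h' rfl
      · exact case1 h hMc

theorem dichotomy (h : R2 T E ψ) :
    (∀ a b : T, a * b = b * a) ∨ ((∀ t : T, t * t ∈ E) ∧ ∀ s t : T, ⁅s, t⁆ ∈ E) :=
  main (Nat.card T) T E ψ h rfl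

end Ind

end Cfsg.Agent.Lib.Helper28.R2
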