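import Mathlib
import Cfsg.Agent.Lib.Helper28.R2Ind

set_option autoImplicit false
set_option linter.unusedSectionVars false
set_option linter.style.haveILetI false
set_option linter.unusedSimpArgs false
set_option linter.unusedVariables false

/-! Rank-two 2-groups with an automorphism moving every involution (helper28):
the non-commutative case, standard generators. -/

namespace Cfsg.Agent.Lib.Helper28.R2

open scoped commutatorElement

universe u

/-- A map with small fibres and small image bounds the order of a group. -/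
theorem fiber_bound {α β : Type*} [Group α] [Finite α] (f : α → β) (S : Finset α) (B : Finset β)
    (hB : ∀ t, f t ∈ B) (hS : ∀ t t', f t = f t' → t⁻¹ * t' ∈ S) :
    Nat.card α ≤ S.card * B.card := by
  classical
  haveI : Fintype α := Fintype.ofFinite α
  have h1 := Finset.card_le_mul_card_image (f := f) (Finset.univ : Finset α) S.card (by
    intro a ha
    obtain ⟨t₀, -, rfl⟩ := Finset.mem_image.mp ha
    have hsub : (Finset.univ.filter (fun x => f x = f t₀)) ⊆ S.image (fun u => t₀ * u) := by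
      intro x hx
      have hx' : f x = f t₀ := (Finset.mem_filter.mp hx).2
      exact Finset.mem_image.mpr ⟨t₀⁻¹ * x, hS t₀ x hx'.symm, by group⟩
    exact (Finset.card_le_card hsub).trans Finset.card_image_le)
  have h2 : (Finset.univ.image f).card ≤ B.card := Finset.card_le_card (by
    intro b hb
    obtain ⟨t, -, rfl⟩ := Finset.mem_image.mp hb
    exact hB t)
  rw [Nat.card_eq_fintype_card, ← Finset.card_univ]
  exact h1.trans (Nat.mul_le_mul_left _ h2)

/-- Fixed points modulo three, for sets. -/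
theorem ncard_fix_mod3 {α : Type*} [Finite α] (g : α → α) (a : ℕ)
    (hg : ∀ x, g^[3 ^ a] x = x) (X : Set α) (hX : ∀ x ∈ X, g x ∈ X) :
    X.ncard % 3 = {x | x ∈ X ∧ g x = x}.ncard % 3 := by
  classical
  haveI : Fintype α := Fintype.ofFinite α
  have key := card_fix_mod3 g a hg X.toFinset (by
    intro x hx
    rw [Set.mem_toFinset] at hx ⊢
    exact hX x hx)
  have e1 : X = ↑(X.toFinset) := by simp
  have e2 : {x | x ∈ X ∧ g x = x} = ↑(X.toFinset.filter (fun x => g x = x)) := by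
    ext x; simp
  rw [e2, Set.ncard_coe_finset, ← key, ← Set.ncard_coe_finset, ← e1]

section Struct

variable {T : Type u} [Group T] {E : Subgroup T} {ψ : T →* T}

theorem tab_c {e₀ e₁ e₂ e e' s : T} (tab : ETab E ψ e₀ e₁ e₂) (he : e ∈ E) (he' : e' ∈ E)
    (hs : s ∈ E) (hne : e ≠ 1) (hne' : e' ≠ 1) (hee' : e ≠ e') :
    e * e' ≠ 1 ∧ (s = 1 ∨ (s = e' ∧ (e * e') * s * e = 1) ∨ (s = e * e' ∧ e * s * e' = 1) ∨
      (s = e ∧ ((e * e') * e) * s * (e * e') = 1)) := by
  rcases tab.all e he with rfl | rfl | rfl | rfl <;>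
    rcases tab.all e' he' with rfl | rfl | rfl | rfl <;>
    rcases tab.all s hs with rfl | rfl | rfl | rfl <;>
    simp [tab.m01, tab.m10, tab.m02, tab.m20, tab.m12, tab.m21, tab.s0, tab.s1, tab.s2, tab.ne,
      tab.ne₁, tab.ne₂, tab.n01, tab.n02, tab.n12, tab.n01.symm, tab.n02.symm, tab.n12.symm,
      tab.ne.symm, tab.ne₁.symm, tab.ne₂.symm] at *

theorem tab_d {e e₁ e₂ s : T} (tab : ETab E ψ e e₁ e₂) (hs : s ∈ E) (hs1 : s ≠ 1)
    (hs2 : e₂ * s * e₁ ≠ 1) : s = e₁ ∨ (s = e₂ ∧ e₂ * s * e₁ = e₁) := by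
  rcases tab.all s hs with rfl | rfl | rfl | rfl <;>
    simp [tab.m01, tab.m10, tab.m02, tab.m20, tab.m12, tab.m21, tab.s0, tab.s1, tab.s2, tab.ne,
      tab.ne₁, tab.ne₂, tab.n01, tab.n02, tab.n12, tab.n01.symm, tab.n02.symm, tab.n12.symm,
      tab.ne.symm, tab.ne₁.symm, tab.ne₂.symm] at *

/-- A crude bound on the order. -/
theorem card_lt_256 (h : R2 T E ψ) (hsq : ∀ t : T, t * t ∈ E) (hcE : ∀ s t : T, ⁅s, t⁆ ∈ E) :
    Nat.card T < 256 := by
  classical
  haveI := h.fin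
  obtain ⟨e₀, he₀, hne₀⟩ := h.ne
  have tab := etab h he₀ hne₀
  obtain ⟨Ef, hEf⟩ : ∃ Ef : Finset T, Ef = {1, e₀, ψ e₀, ψ (ψ e₀)} := ⟨_, rfl⟩
  have hEfc : Ef.card ≤ 4 := hEf ▸ Finset.card_le_four
  have hEfm : ∀ x ∈ E, x ∈ Ef := by
    intro x hx
    rw [hEf]
    simp only [Finset.mem_insert, Finset.mem_singleton]
    exact tab.all x hx
  by_cases hT : ∀ x : T, x ∈ E
  · have := fiber_bound (fun _ : T => ()) Ef {()} (fun t => Finset.mem_singleton_self _)
      (fun t t' _ => hEfm _ (hT _))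
    have h2 : Ef.card * ({()} : Finset Unit).card ≤ 4 := by simpa using hEfc
    omega
  push_neg at hT
  obtain ⟨x, hx⟩ := hT
  obtain ⟨e, hedef⟩ : ∃ e, e = x * x := ⟨_, rfl⟩
  have he : e ∈ E := hedef ▸ hsq x
  have hxx1 : x * x ≠ 1 := fun h0 => hx ((h.mem x).mp h0)
  have hne : e ≠ 1 := hedef ▸ hxx1
  by_cases hc : ∃ c : T, c * x = x * c ∧ c ∉ E ∧ x⁻¹ * c ∉ E
  · obtain ⟨c, hcx, hcE', hxc⟩ := hc
    obtain ⟨e', he'def⟩ : ∃ e', e' = c * c := ⟨_, rfl⟩
    have he' : e' ∈ E := he'def ▸ hsq c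
    have hcc1 : c * c ≠ 1 := fun h0 => hcE' ((h.mem c).mp h0)
    have hne' : e' ≠ 1 := he'def ▸ hcc1
    have hee' : e ≠ e' := by
      intro h0
      apply hxc
      rw [← h.mem]
      exact sq_inv_mul hcx (by rw [← he'def, ← hedef, h0])
    have hcx1 : ⁅c, x⁆ = 1 := commutatorElement_eq_one_iff_mul_comm.mpr hcx
    have hxc1 : ⁅x, c⁆ = 1 := commutatorElement_eq_one_iff_mul_comm.mpr hcx.symm
    have hb := fiber_bound (fun t : T => (⁅t, x⁆, ⁅t, c⁆))
      (Finset.image₂ (· * ·) ({1, x, c, x * c} : Finset T) Ef)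
      ((Ef ×ˢ Ef).erase (e * e', e)) ?_ ?_
    · have h1 : (Finset.image₂ (· * ·) ({1, x, c, x * c} : Finset T) Ef).card ≤ 16 :=
        (Finset.card_image₂_le _ _ _).trans (by
          have := Finset.card_le_four (a := (1 : T)) (b := x) (c := c) (d := x * c)
          nlinarith)
      have h2 : ((Ef ×ˢ Ef).erase (e * e', e)).card ≤ 15 := by
        rw [Finset.card_erase_of_mem
          (Finset.mem_product.mpr ⟨hEfm _ (E.mul_mem he he'), hEfm _ he⟩), Finset.card_product]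
        have : Ef.card * Ef.card ≤ 16 := by nlinarith
        omega
      calc Nat.card T ≤ _ := hb
        _ ≤ 16 * 15 := Nat.mul_le_mul h1 h2
        _ < 256 := by norm_num
    · intro t
      rw [Finset.mem_erase]
      refine ⟨?_, Finset.mem_product.mpr ⟨hEfm _ (hcE _ _), hEfm _ (hcE _ _)⟩⟩
      intro hbad
      have hp : ⁅t, x⁆ = e * e' := congrArg Prod.fst hbad
      have hr : ⁅t, c⁆ = e := congrArg Prod.snd hbad
      obtain ⟨hpne, hcases⟩ := tab_c tab he he' (hsq t) hne hne' hee'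
      rcases hcases with h0 | ⟨h0, h1⟩ | ⟨h0, h1⟩ | ⟨h0, h1⟩
      · have : t ∈ E := (h.mem t).mp h0
        rw [cEl h this] at hp
        exact hpne hp.symm
      · have h2 : (t * x) * (t * x) = 1 := by
          rw [sqm h (hcE x t), comm_symm h (hcE t x), hp, ← hedef]
          exact h1
        have h3 : t * x ∈ E := (h.mem _).mp h2
        have h4 := cEl h h3 c
        rw [cml h (hcE x c), hr, hxc1, mul_one] at h4
        exact hne h4
      · have h2 : (t * c) * (t * c) = 1 := by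
          rw [sqm h (hcE c t), comm_symm h (hcE t c), hr, ← he'def]
          exact h1
        have h3 : t * c ∈ E := (h.mem _).mp h2
        have h4 := cEl h h3 x
        rw [cml h (hcE c x), hp, hcx1, mul_one] at h4
        exact hpne h4
      · have h5 : (x * c) * (x * c) = e * e' := by
          rw [sqm h (hcE c x), hcx1, one_mul, ← hedef, ← he'def]
        have h6 : ⁅x * c, t⁆ = e * e' * e := by
          rw [cml h (hcE c t), comm_symm h (hcE t x), comm_symm h (hcE t c), hp, hr]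
        have h2 : (t * (x * c)) * (t * (x * c)) = 1 := by
          rw [sqm h (hcE (x * c) t), h6, h5]
          exact h1
        have h3 : t * (x * c) ∈ E := (h.mem _).mp h2
        have h4 := cEl h h3 x
        rw [cml h (hcE (x * c) x), cml h (hcE c x), hp, hcx1, mul_one, commutatorElement_self,
          mul_one] at h4
        exact hpne h4
    · intro t t' htt'
      have h1 : ⁅t, x⁆ = ⁅t', x⁆ := congrArg Prod.fst htt'
      have h2 : ⁅t, c⁆ = ⁅t', c⁆ := congrArg Prod.snd htt'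
      have hux : ⁅t⁻¹ * t', x⁆ = 1 := by
        rw [cml h (hcE t' x), cil h (hcE t x), h1, sq h (hcE t' x)]
      have huc : ⁅t⁻¹ * t', c⁆ = 1 := by
        rw [cml h (hcE t' c), cil h (hcE t c), h2, sq h (hcE t' c)]
      obtain ⟨ε, hε, hcase⟩ := sq_cases h (a₁ := x) (a₂ := c) (a := t⁻¹ * t') (hsq x) hxx1
        (hsq c) hcc1 (fun h0 => hee' (by rw [hedef, he'def]; exact h0))
        (commutatorElement_eq_one_iff_mul_comm.mp hux)
        (commutatorElement_eq_one_iff_mul_comm.mp huc) hcx.symm (hsq _)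
      rw [Finset.mem_image₂]
      rcases hcase with h0 | h0 | h0 | h0
      · exact ⟨1, by simp, ε, hEfm ε hε, by rw [h0, one_mul]⟩
      · exact ⟨x, by simp, ε, hEfm ε hε, h0.symm⟩
      · exact ⟨c, by simp, ε, hEfm ε hε, h0.symm⟩
      · exact ⟨x * c, by simp, ε, hEfm ε hε, h0.symm⟩
  · push_neg at hc
    have hb := fiber_bound (fun t : T => ⁅t, x⁆) (Finset.image₂ (· * ·) ({1, x} : Finset T) Ef)
      Ef (fun t => hEfm _ (hcE _ _)) ?_
    · have h1 : (Finset.image₂ (· * ·) ({1, x} : Finset T) Ef).card ≤ 8 :=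
        (Finset.card_image₂_le _ _ _).trans (by
          have := Finset.card_le_two (a := (1 : T)) (b := x)
          nlinarith)
      calc Nat.card T ≤ _ := hb
        _ ≤ 8 * 4 := Nat.mul_le_mul h1 hEfc
        _ < 256 := by norm_num
    · intro t t' h1
      have hux : ⁅t⁻¹ * t', x⁆ = 1 := by
        rw [cml h (hcE t' x), cil h (hcE t x), h1, sq h (hcE t' x)]
      have hux' := commutatorElement_eq_one_iff_mul_comm.mp hux
      rw [Finset.mem_image₂]
      by_cases hu : t⁻¹ * t' ∈ E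
      · exact ⟨1, by simp, _, hEfm _ hu, one_mul _⟩
      · have := hc (t⁻¹ * t') hux' hu
        exact ⟨x, by simp, _, hEfm _ this, by group⟩

theorem count_shift (h : R2 T E ψ) [Fintype T] [DecidableEq T] (H : Subgroup T)
    [DecidablePred (· ∈ H)] (hH : ∀ x ∈ H, ψ x ∈ H) {f f' : T} (hf : ψ f = f') :
    (Finset.univ.filter (fun t : T => t ∈ H ∧ t * t = f')).card =
      (Finset.univ.filter (fun t : T => t ∈ H ∧ t * t = f)).card := by
  have hi : (Finset.univ.filter (fun t : T => t ∈ H ∧ t * t = f)).image ψ =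
      Finset.univ.filter (fun t : T => t ∈ H ∧ t * t = f') := by
    ext t
    simp only [Finset.mem_filter, Finset.mem_univ, true_and, Finset.mem_image]
    constructor
    · rintro ⟨s, ⟨hs, hss⟩, rfl⟩
      exact ⟨hH s hs, by rw [← map_mul, hss, hf]⟩
    · rintro ⟨ht, htt⟩
      obtain ⟨s, hs, rfl⟩ := psi_surj_on h H hH t ht
      refine ⟨s, ⟨hs, ?_⟩, rfl⟩
      apply h.inj
      rw [map_mul, htt, hf]
  rw [← hi, Finset.card_image_of_injective _ h.inj]

theorem count_fin (h : R2 T E ψ) (hsq : ∀ t : T, t * t ∈ E) {e e₁ e₂ : T}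
    (tab : ETab E ψ e e₁ e₂) [Fintype T] [DecidableEq T] (H : Subgroup T)
    [DecidablePred (· ∈ H)] (hH : ∀ x ∈ H, ψ x ∈ H) (hEH : E ≤ H) :
    Nat.card H = 4 + 3 * (Finset.univ.filter (fun t : T => t ∈ H ∧ t * t = e)).card := by
  have h1 : Nat.card H = (Finset.univ.filter (fun t : T => t ∈ H)).card := by
    rw [Nat.card_eq_fintype_card, Fintype.card_subtype]
  have h2 := Finset.card_eq_sum_card_fiberwise (f := fun t : T => t * t)
    (s := Finset.univ.filter (fun t : T => t ∈ H)) (t := ({1, e, e₁, e₂} : Finset T)) (by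
      intro x _
      rw [Finset.mem_coe]
      simp only [Finset.mem_insert, Finset.mem_singleton]
      exact tab.all _ (hsq x))
  have hfil : ∀ f : T, (Finset.univ.filter (fun t : T => t ∈ H)).filter (fun t => t * t = f) =
      Finset.univ.filter (fun t : T => t ∈ H ∧ t * t = f) := by
    intro f
    ext t
    simp
  have h3 : (Finset.univ.filter (fun t : T => t ∈ H ∧ t * t = 1)) = {1, e, e₁, e₂} := by
    ext t
    simp only [Finset.mem_filter, Finset.mem_univ, true_and, Finset.mem_insert,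
      Finset.mem_singleton]
    constructor
    · rintro ⟨-, ht⟩
      exact tab.all t ((h.mem t).mp ht)
    · intro ht
      have htE : t ∈ E := by
        rcases ht with rfl | rfl | rfl | rfl
        · exact E.one_mem
        · exact tab.he
        · exact tab.he₁
        · exact tab.he₂
      exact ⟨hEH htE, sq h htE⟩
  have n3 : e₁ ∉ ({e₂} : Finset T) := by simp [tab.n12]
  have n2 : e ∉ ({e₁, e₂} : Finset T) := by simp [tab.n01, tab.n02]
  have n1 : (1 : T) ∉ ({e, e₁, e₂} : Finset T) := by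
    simp [tab.ne.symm, tab.ne₁.symm, tab.ne₂.symm]
  have h4 : ({1, e, e₁, e₂} : Finset T).card = 4 := by
    rw [Finset.card_insert_of_notMem n1, Finset.card_insert_of_notMem n2,
      Finset.card_insert_of_notMem n3, Finset.card_singleton]
  rw [Finset.sum_insert n1, Finset.sum_insert n2, Finset.sum_insert n3, Finset.sum_singleton,
    hfil, hfil, hfil, hfil, h3, h4, count_shift h H hH tab.p1, count_shift h H hH tab.p0] at h2
  rw [h1, h2]
  ring

theorem count (h : R2 T E ψ) (hsq : ∀ t : T, t * t ∈ E) {e e₁ e₂ : T}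
    (tab : ETab E ψ e e₁ e₂) (H : Subgroup T) (hH : ∀ x ∈ H, ψ x ∈ H) (hEH : E ≤ H) :
    Nat.card H = 4 + 3 * Set.ncard {t : T | t ∈ H ∧ t * t = e} := by
  classical
  haveI := h.fin
  haveI : Fintype T := Fintype.ofFinite T
  have e1 : {t : T | t ∈ H ∧ t * t = e} =
      ↑(Finset.univ.filter (fun t : T => t ∈ H ∧ t * t = e)) := by
    ext t
    simp
  rw [e1, Set.ncard_coe_finset]
  exact count_fin h hsq tab H hH hEH

/-- `ψ` has order three. -/
theorem psi_cube (h : R2 T E ψ) (hsq : ∀ t : T, t * t ∈ E) (hcE : ∀ s t : T, ⁅s, t⁆ ∈ E) :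
    ∀ t : T, ψ (ψ (ψ t)) = t := by
  classical
  haveI := h.fin
  obtain ⟨e, he, hne⟩ := h.ne
  have tab := etab h he hne
  let F : Subgroup T :=
    { carrier := {t | ψ (ψ (ψ t)) = t}
      mul_mem' := by
        intro a b ha hb
        simp only [Set.mem_ofPred_eq] at *
        rw [map_mul, map_mul, map_mul, ha, hb]
      one_mem' := by simp
      inv_mem' := by
        intro a ha
        simp only [Set.mem_ofPred_eq] at *
        rw [map_inv, map_inv, map_inv, ha] }
  have hFmem : ∀ t, t ∈ F ↔ ψ (ψ (ψ t)) = t := fun t => Iff.rfl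
  have hFψ : ∀ x ∈ F, ψ x ∈ F := by
    intro x hx
    rw [hFmem] at hx ⊢
    rw [hx]
  have hEF : E ≤ F := fun x hx => (hFmem x).mpr (E_cube h hx)
  have hT := count h hsq tab ⊤ (fun _ _ => Subgroup.mem_top _) le_top
  have hF := count h hsq tab F hFψ hEF
  obtain ⟨a, ha⟩ := h.ord
  have hg : ∀ x : T, (fun t => ψ (ψ (ψ t)))^[3 ^ a] x = x := by
    intro x
    have e1 : (fun t => ψ (ψ (ψ t))) = (fun x => ψ x)^[3] := rfl
    have e2 : (fun x : T => ψ x)^[3 ^ a] = id := funext ha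
    rw [e1, ← Function.iterate_mul, mul_comm, Function.iterate_mul, e2]
    simp
  have key := ncard_fix_mod3 (fun t => ψ (ψ (ψ t))) a hg
    {t : T | t ∈ (⊤ : Subgroup T) ∧ t * t = e} (by
      intro x hx
      simp only [Set.mem_ofPred_eq, Subgroup.mem_top, true_and] at hx ⊢
      rw [← map_mul, ← map_mul, ← map_mul, hx]
      exact E_cube h he)
  have hfix : {x | x ∈ {t : T | t ∈ (⊤ : Subgroup T) ∧ t * t = e} ∧
      (fun t => ψ (ψ (ψ t))) x = x} = {t : T | t ∈ F ∧ t * t = e} := by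
    ext t
    simp only [Set.mem_ofPred_eq, Subgroup.mem_top, true_and, hFmem]
    tauto
  rw [hfix] at key
  have hTtop : Nat.card (⊤ : Subgroup T) = Nat.card T := Subgroup.card_top
  obtain ⟨n, hn⟩ := IsPGroup.iff_card.mp h.pg
  have hlt := card_lt_256 h hsq hcE
  have hdvd : Nat.card F ∣ Nat.card T := Subgroup.card_subgroup_dvd_card F
  rw [hn] at hdvd hlt
  obtain ⟨m, hm, hFm⟩ := (Nat.dvd_prime_pow Nat.prime_two).mp hdvd
  have hn8 : n < 8 := by
    by_contra hcon
    push_neg at hcon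
    have : 2 ^ 8 ≤ 2 ^ n := Nat.pow_le_pow_right (by norm_num) hcon
    omega
  have hFT : Nat.card F = Nat.card T := by
    rw [hn, hFm]
    rw [hTtop, hn] at hT
    rw [hFm] at hF
    interval_cases n <;> interval_cases m <;> first | rfl | omega
  have hFtop : F = ⊤ := Subgroup.eq_top_of_card_eq F hFT
  intro t
  exact (hFmem t).mp (hFtop ▸ Subgroup.mem_top t)

/-- `ψ² x = x ψ(x)` modulo `E`, and `x` commutes with `ψ x`. -/
theorem psi_sq (h : R2 T E ψ) (hsq : ∀ t : T, t * t ∈ E) (hcE : ∀ s t : T, ⁅s, t⁆ ∈ E) (x : T) :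
    ∃ ε₁ ∈ E, ψ (ψ x) = x * ψ x * ε₁ ∧ x * ψ x = ψ x * x := by
  obtain ⟨N, hN⟩ : ∃ N, N = x * ψ x * ψ (ψ x) := ⟨_, rfl⟩
  have h1 : ψ N = x⁻¹ * N * x := by
    rw [hN, map_mul, map_mul, psi_cube h hsq hcE x]
    group
  have h2 : N⁻¹ * ψ N = ⁅N⁻¹, x⁻¹⁆ := by
    rw [h1, commutatorElement_def]
    group
  have hNE : N ∈ E := coset_fix h E (fun _ hx => psi_mem h hx) (by rw [h2]; exact hcE _ _)
  have hε : ((x * ψ x) * (x * ψ x))⁻¹ * N ∈ E := E.mul_mem (E.inv_mem (hsq _)) hNE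
  have hyy : ψ (ψ x) = x * ψ x * (((x * ψ x) * (x * ψ x))⁻¹ * N) := by
    rw [hN]
    group
  refine ⟨_, hε, hyy, ?_⟩
  have hk : ⁅x, ψ x⁆ ∈ E := hcE _ _
  have h3 : ψ ⁅x, ψ x⁆ = ⁅x, ψ x⁆ := by
    rw [map_commutatorElement, hyy, cmEr h hε, cmr h (hcE _ _), commutatorElement_self, mul_one,
      comm_symm h hk]
  exact commutatorElement_eq_one_iff_mul_comm.mp (h.mov _ hk h3)

/-- Standard generators in the non-commutative case. -/
theorem std_gens (h : R2 T E ψ) (hab : ¬ ∀ a b : T, a * b = b * a)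
    (hsq : ∀ t : T, t * t ∈ E) (hcE : ∀ s t : T, ⁅s, t⁆ ∈ E) :
    ∃ e x z : T, ETab E ψ e (ψ e) (ψ (ψ e)) ∧ x * x = e ∧ z * z = ψ e ∧
      ⁅ψ x, x⁆ = 1 ∧ ⁅z, x⁆ = e ∧ ⁅z, ψ x⁆ = ψ (ψ e) ∧ ⁅ψ z, x⁆ = ψ (ψ e) ∧ ⁅ψ z, z⁆ = 1 ∧
      Nat.card T ≤ 64 := by
  classical
  haveI := h.fin
  have hT : ∃ x : T, x ∉ E := by
    by_contra hall
    push_neg at hall
    exact hab (fun a b => Ecomm h (hall a) b)
  obtain ⟨x, hx⟩ := hT
  have hxx1 : x * x ≠ 1 := fun h0 => hx ((h.mem x).mp h0)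
  have tab := etab h (hsq x) hxx1
  obtain ⟨ε₁, hε₁, hyy, hxy⟩ := psi_sq h hsq hcE x
  obtain ⟨F1, F2⟩ := line h (hsq x) hxx1 hxy hε₁ hyy (fun t => hcE t x)
  have hyx1 : ⁅ψ x, x⁆ = 1 := commutatorElement_eq_one_iff_mul_comm.mpr hxy.symm
  have hsq1 : ψ x * ψ x = ψ (x * x) := by rw [map_mul]
  -- the centraliser of `x`
  have hcent : ∀ t : T, ⁅t, x⁆ = 1 →
      ∃ ε ∈ E, t = ε ∨ t = x * ε ∨ t = ψ x * ε ∨ t = x * ψ x * ε := by
    intro t ht
    have c1 : t * x = x * t := commutatorElement_eq_one_iff_mul_comm.mp ht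
    have c2 : t * ψ x = ψ x * t := by
      apply commutatorElement_eq_one_iff_mul_comm.mp
      rw [F1, ht, map_one, map_one]
    exact sq_cases h (hsq x) hxx1 (hsq (ψ x)) (by rw [hsq1]; exact tab.ne₁)
      (by rw [hsq1]; exact tab.n01) c1 c2 hxy (hsq t)
  obtain ⟨Ef, hEf⟩ : ∃ Ef : Finset T, Ef = {1, x * x, ψ (x * x), ψ (ψ (x * x))} := ⟨_, rfl⟩
  have hEfc : Ef.card ≤ 4 := hEf ▸ Finset.card_le_four
  have hEfm : ∀ y ∈ E, y ∈ Ef := by
    intro y hy
    rw [hEf]
    simp only [Finset.mem_insert, Finset.mem_singleton]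
    exact tab.all y hy
  have hcard : Nat.card T ≤ 64 := by
    have hb := fiber_bound (fun t : T => ⁅t, x⁆)
      (Finset.image₂ (· * ·) ({1, x, ψ x, x * ψ x} : Finset T) Ef) Ef
      (fun t => hEfm _ (hcE _ _)) ?_
    · have h1 : (Finset.image₂ (· * ·) ({1, x, ψ x, x * ψ x} : Finset T) Ef).card ≤ 16 :=
        (Finset.card_image₂_le _ _ _).trans (by
          have := Finset.card_le_four (a := (1 : T)) (b := x) (c := ψ x) (d := x * ψ x)
          nlinarith)
      calc Nat.card T ≤ _ := hb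
        _ ≤ 16 * 4 := Nat.mul_le_mul h1 hEfc
        _ = 64 := by norm_num
    · intro t t' h1
      have hux : ⁅t⁻¹ * t', x⁆ = 1 := by
        rw [cml h (hcE t' x), cil h (hcE t x), h1, sq h (hcE t' x)]
      obtain ⟨ε, hε, hcase⟩ := hcent _ hux
      rw [Finset.mem_image₂]
      rcases hcase with h0 | h0 | h0 | h0
      · exact ⟨1, by simp, ε, hEfm ε hε, by rw [h0, one_mul]⟩
      · exact ⟨x, by simp, ε, hEfm ε hε, h0.symm⟩
      · exact ⟨ψ x, by simp, ε, hEfm ε hε, h0.symm⟩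
      · exact ⟨x * ψ x, by simp, ε, hEfm ε hε, h0.symm⟩
  -- some element does not commute with `x`
  have hex : ∃ t₀ : T, ⁅t₀, x⁆ ≠ 1 := by
    by_contra hall
    push_neg at hall
    apply hab
    intro a b
    have c1 : a * x = x * a := commutatorElement_eq_one_iff_mul_comm.mp (hall a)
    have c2 : a * ψ x = ψ x * a := by
      apply commutatorElement_eq_one_iff_mul_comm.mp
      rw [F1, hall a, map_one, map_one]
    obtain ⟨ε, hε, hcase⟩ := hcent b (hall b)
    have hεa : ε * a = a * ε := Ecomm h hε a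
    rcases hcase with rfl | rfl | rfl | rfl
    · exact hεa.symm
    · rw [← mul_assoc, c1, mul_assoc, ← hεa, ← mul_assoc]
    · rw [← mul_assoc, c2, mul_assoc, ← hεa, ← mul_assoc]
    · calc a * (x * ψ x * ε) = (a * x) * ψ x * ε := by group
        _ = x * (a * ψ x) * ε := by rw [c1]; group
        _ = x * ψ x * (a * ε) := by rw [c2]; group
        _ = x * ψ x * ε * a := by rw [← hεa]; group
  obtain ⟨t₀, ht₀⟩ := hex
  have hk : ⁅t₀, x⁆ ∈ E := hcE _ _
  have tk := etab h hk ht₀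
  -- an element with commutator `x * x`
  have hz₀ : ∃ z₀ : T, ⁅z₀, x⁆ = x * x := by
    rcases tk.all (x * x) (hsq x) with h0 | h0 | h0 | h0
    · exact absurd h0 hxx1
    · exact ⟨t₀, h0.symm⟩
    · refine ⟨ψ (ψ t₀), ?_⟩
      rw [F2, F2, E_cube h hk, h0]
    · exact ⟨ψ t₀, by rw [F2, h0]⟩
  obtain ⟨z₀, hz₀⟩ := hz₀
  have hz₀E : z₀ ∉ E := by
    intro h0
    rw [cEl h h0] at hz₀
    exact hxx1 hz₀.symm
  have hs1 : z₀ * z₀ ≠ 1 := fun h0 => hz₀E ((h.mem z₀).mp h0)
  have hz₀y : ⁅z₀, ψ x⁆ = ψ (ψ (x * x)) := by rw [F1, hz₀]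
  have hsqy : (z₀ * ψ x) * (z₀ * ψ x) = ψ (ψ (x * x)) * (z₀ * z₀) * ψ (x * x) := by
    rw [sqm h (hcE _ _), comm_symm h (hcE z₀ (ψ x)), hz₀y, hsq1]
  have hzy : ⁅z₀ * ψ x, x⁆ = x * x := by
    rw [cml h (hcE _ _), hz₀, hyx1, mul_one]
  have hs2 : ψ (ψ (x * x)) * (z₀ * z₀) * ψ (x * x) ≠ 1 := by
    rw [← hsqy]
    intro h0
    have h3 : z₀ * ψ x ∈ E := (h.mem _).mp h0
    rw [cEl h h3] at hzy
    exact hxx1 hzy.symm
  -- the element `z`
  have hz : ∃ z : T, ⁅z, x⁆ = x * x ∧ z * z = ψ (x * x) := by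
    rcases tab_d tab (hsq z₀) hs1 hs2 with h0 | ⟨h0, h1⟩
    · exact ⟨z₀, hz₀, h0⟩
    · exact ⟨z₀ * ψ x, hzy, by rw [hsqy, h1]⟩
  obtain ⟨z, hzx, hzz⟩ := hz
  obtain ⟨ε₂, hε₂, -, hzz'⟩ := psi_sq h hsq hcE z
  refine ⟨x * x, x, z, tab, rfl, hzz, hyx1, hzx, ?_, ?_, ?_, hcard⟩
  · rw [F1, hzx]
  · rw [F2, hzx]
  · exact commutatorElement_eq_one_iff_mul_comm.mpr hzz'.symm

end Struct

end Cfsg.Agent.Lib.Helper28.R2
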