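import Mathlib
import Cfsg.Agent.Lib.Helper28.R2Struct

set_option autoImplicit false
set_option linter.unusedSectionVars false
set_option linter.style.haveILetI false
set_option linter.unusedSimpArgs false
set_option linter.unusedVariables false

/-! Groups of order 64 with a fixed-point-free automorphism of order three (helper28):
basic structure. -/

namespace Cfsg.Agent.Lib.Helper28

/-- A finite group with a fixed-point-free endomorphism of order three. -/
structure F3 (T : Type*) [Group T] (ψ : T →* T) : Prop where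
  fin : Finite T
  cube : ∀ t, ψ (ψ (ψ t)) = t
  fpf : ∀ t, ψ t = t → t = 1

/-- A non-commutative group of order 64 with a fixed-point-free endomorphism of order three. -/
structure F64 (T : Type*) [Group T] (ψ : T →* T) : Prop where
  base : F3 T ψ
  card : Nat.card T = 64
  nab : ¬ ∀ a b : T, a * b = b * a

namespace L3

open scoped commutatorElement
open Cfsg.Agent.Lib.Helper28.R2

universe u

section Gen

variable {T : Type u} [Group T] {ψ : T →* T}

theorem inj (h : F3 T ψ) : Function.Injective ψ := by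
  intro a b hab
  rw [← h.cube a, ← h.cube b, hab]

theorem iter (h : F3 T ψ) (t : T) : (fun x => ψ x)^[3 ^ 1] t = t := h.cube t

/-- `ψ`-invariant subgroups have order `≡ 1 (mod 3)`. -/
theorem mod3 (h : F3 T ψ) (H : Subgroup T) (hH : ∀ x ∈ H, ψ x ∈ H) : Nat.card H % 3 = 1 := by
  classical
  haveI := h.fin
  haveI : Fintype T := Fintype.ofFinite T
  have key := card_fix_mod3 (fun t => ψ t) 1 (iter h) (Finset.univ.filter (· ∈ H)) (by
    intro x hx
    simp only [Finset.mem_filter, Finset.mem_univ, true_and] at hx ⊢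
    exact hH x hx)
  have h1 : (Finset.univ.filter (· ∈ H)).card = Nat.card H := by
    rw [Nat.card_eq_fintype_card, Fintype.card_subtype]
  have h2 : ((Finset.univ.filter (· ∈ H)).filter (fun x => ψ x = x)) = {1} := by
    ext x
    simp only [Finset.mem_filter, Finset.mem_univ, true_and, Finset.mem_singleton]
    constructor
    · rintro ⟨-, hx⟩
      exact h.fpf x hx
    · rintro rfl
      exact ⟨H.one_mem, map_one ψ⟩
  rw [h1, h2] at key
  simpa using key

/-- A `ψ`-fixed coset of a `ψ`-invariant subgroup is the subgroup itself. -/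
theorem coset_fix (h : F3 T ψ) (C : Subgroup T) (hC : ∀ x ∈ C, ψ x ∈ C) {t : T}
    (ht : t⁻¹ * ψ t ∈ C) : t ∈ C := by
  classical
  haveI := h.fin
  haveI : Fintype T := Fintype.ofFinite T
  let X : Finset T := (Finset.univ.filter (· ∈ C)).image (fun c => t * c)
  have hX : ∀ x ∈ X, ψ x ∈ X := by
    intro x hx
    obtain ⟨c, hc, rfl⟩ := Finset.mem_image.mp hx
    have hc' : c ∈ C := by simpa using hc
    refine Finset.mem_image.mpr ⟨t⁻¹ * ψ t * ψ c, ?_, ?_⟩
    · simp only [Finset.mem_filter, Finset.mem_univ, true_and]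
      exact C.mul_mem ht (hC c hc')
    · rw [map_mul]; group
  have key := card_fix_mod3 (fun t => ψ t) 1 (iter h) X hX
  have h1 : X.card = Nat.card C := by
    rw [Finset.card_image_of_injective _ (mul_right_injective t), Nat.card_eq_fintype_card,
      Fintype.card_subtype]
  have h3 := mod3 h C hC
  rw [h1, h3] at key
  have hne : (X.filter (fun x => ψ x = x)).Nonempty := by
    rw [Finset.nonempty_iff_ne_empty]
    intro h0
    rw [h0] at key
    simp at key
  obtain ⟨x, hx⟩ := hne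
  obtain ⟨hxX, hfix⟩ := Finset.mem_filter.mp hx
  obtain ⟨c, hc, rfl⟩ := Finset.mem_image.mp hxX
  have hc' : c ∈ C := by simpa using hc
  have h1' : t * c = 1 := h.fpf _ hfix
  have : t = c⁻¹ := eq_inv_of_mul_eq_one_left h1'
  rw [this]
  exact C.inv_mem hc'

theorem exists_lang (h : F3 T ψ) (y : T) : ∃ u : T, y = u⁻¹ * ψ u := by
  haveI := h.fin
  have hinj : Function.Injective (fun u : T => u⁻¹ * ψ u) := by
    intro u w huw
    have huw' : u⁻¹ * ψ u = w⁻¹ * ψ w := huw
    have h1 : ψ (w * u⁻¹) = w * u⁻¹ := by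
      rw [map_mul, map_inv]
      have : ψ u = u * (w⁻¹ * ψ w) := by rw [← huw']; group
      rw [this]; group
    have h2 := h.fpf _ h1
    exact (mul_inv_eq_one.mp h2).symm
  obtain ⟨u, hu⟩ := (Finite.injective_iff_surjective.mp hinj) y
  exact ⟨u, hu.symm⟩

theorem norm3 (h : F3 T ψ) (y : T) : y * ψ y * ψ (ψ y) = 1 := by
  obtain ⟨u, rfl⟩ := exists_lang h y
  simp only [map_mul, map_inv, h.cube]
  group

theorem psi2 (h : F3 T ψ) (y : T) : ψ (ψ y) = (y * ψ y)⁻¹ :=
  eq_inv_of_mul_eq_one_right (norm3 h y)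

theorem comm_psi (h : F3 T ψ) (y : T) : y * ψ y = ψ y * y := by
  have h2 := norm3 h y⁻¹
  simp only [map_inv] at h2
  rw [psi2 h y, inv_inv] at h2
  have : y * ψ y = ψ y * y * (y⁻¹ * (ψ y)⁻¹ * (y * ψ y)) := by group
  rw [this, h2, mul_one]

theorem psi_center (h : F3 T ψ) {z : T} (hz : z ∈ Subgroup.center T) :
    ψ z ∈ Subgroup.center T := by
  rw [Subgroup.mem_center_iff] at hz ⊢
  intro t
  have ht : t = ψ (ψ (ψ t)) := (h.cube t).symm
  rw [ht, ← map_mul, ← map_mul, hz]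

theorem psi_mem_of (h : F3 T ψ) (H : Subgroup T) (hH : ∀ x ∈ H, ψ x ∈ H) {t : T}
    (ht : ψ t ∈ H) : t ∈ H := by
  rw [← h.cube t]
  exact hH _ (hH _ ht)

theorem card_cases (h : F3 T ψ) (hT : Nat.card T = 64) (H : Subgroup T)
    (hH : ∀ x ∈ H, ψ x ∈ H) :
    Nat.card H = 1 ∨ Nat.card H = 4 ∨ Nat.card H = 16 ∨ Nat.card H = 64 := by
  have h1 := mod3 h H hH
  have h2 : Nat.card H ∣ 2 ^ 6 := by
    have := Subgroup.card_subgroup_dvd_card H
    rw [hT] at this
    exact this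
  obtain ⟨k, hk, hk'⟩ := (Nat.dvd_prime_pow Nat.prime_two).mp h2
  rw [hk'] at h1 ⊢
  interval_cases k <;> omega

theorem closure_comm {S : Set T} (hS : ∀ a ∈ S, ∀ b ∈ S, a * b = b * a) :
    ∀ a ∈ Subgroup.closure S, ∀ b ∈ Subgroup.closure S, a * b = b * a := by
  have h1 : Subgroup.closure S ≤ Subgroup.centralizer S := by
    rw [Subgroup.closure_le]
    intro g hg
    rw [SetLike.mem_coe, Subgroup.mem_centralizer_iff]
    intro k hk
    exact hS k hk g hg
  have h2 : Subgroup.closure S ≤ Subgroup.centralizer (Subgroup.closure S : Set T) := by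
    rw [Subgroup.closure_le]
    intro g hg
    rw [SetLike.mem_coe, Subgroup.mem_centralizer_iff]
    intro k hk
    exact ((Subgroup.mem_centralizer_iff.mp (h1 hk)) g hg).symm
  intro a ha b hb
  exact (Subgroup.mem_centralizer_iff.mp (h2 hb)) a ha

/-- The subgroup generated by `y`, `ψ y` and the centre. -/
def Hy (ψ : T →* T) (y : T) : Subgroup T :=
  Subgroup.closure ({y, ψ y} ∪ (Subgroup.center T : Set T))

theorem mem_Hy (y : T) : y ∈ Hy ψ y := Subgroup.subset_closure (Or.inl (Or.inl rfl))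

theorem psi_mem_Hy (y : T) : ψ y ∈ Hy ψ y := Subgroup.subset_closure (Or.inl (Or.inr rfl))

theorem center_le_Hy (y : T) : Subgroup.center T ≤ Hy ψ y :=
  fun _ hz => Subgroup.subset_closure (Or.inr hz)

theorem Hy_comm (h : F3 T ψ) (y : T) : ∀ a ∈ Hy ψ y, ∀ b ∈ Hy ψ y, a * b = b * a := by
  apply closure_comm
  intro a ha b hb
  rcases ha with (ha | ha) | ha
  · rcases hb with (hb | hb) | hb
    · rw [ha, hb]
    · have hb' : b = ψ y := hb
      rw [ha, hb']
      exact comm_psi h y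
    · exact Subgroup.mem_center_iff.mp hb a
  · have ha' : a = ψ y := ha
    rcases hb with (hb | hb) | hb
    · rw [ha', hb]
      exact (comm_psi h y).symm
    · have hb' : b = ψ y := hb
      rw [ha', hb']
    · exact Subgroup.mem_center_iff.mp hb a
  · exact (Subgroup.mem_center_iff.mp ha b).symm

theorem Hy_psi (h : F3 T ψ) (y : T) : ∀ a ∈ Hy ψ y, ψ a ∈ Hy ψ y := by
  intro a ha
  have hle : Hy ψ y ≤ (Hy ψ y).comap ψ := by
    have : Subgroup.closure ({y, ψ y} ∪ (Subgroup.center T : Set T)) ≤ (Hy ψ y).comap ψ := by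
      rw [Subgroup.closure_le]
      intro g hg
      rw [SetLike.mem_coe, Subgroup.mem_comap]
      rcases hg with (hg | hg) | hg
      · rw [hg]
        exact psi_mem_Hy y
      · have hg' : g = ψ y := hg
        rw [hg', psi2 h y]
        exact Subgroup.inv_mem _ (Subgroup.mul_mem _ (mem_Hy y) (psi_mem_Hy y))
      · exact center_le_Hy y (psi_center h hg)
    exact this
  exact hle ha

/-- Elements of a commutative subgroup whose square lies in a given subgroup. -/
def sqKer (H M : Subgroup T) (hH : ∀ a ∈ H, ∀ b ∈ H, a * b = b * a) : Subgroup T where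
  carrier := {g | g ∈ H ∧ g * g ∈ M}
  mul_mem' := by
    rintro a b ⟨ha, ha2⟩ ⟨hb, hb2⟩
    refine ⟨H.mul_mem ha hb, ?_⟩
    have : a * b * (a * b) = (a * a) * (b * b) := by
      have hab := hH a ha b hb
      calc a * b * (a * b) = a * (b * a) * b := by group
        _ = a * (a * b) * b := by rw [hab]
        _ = a * a * (b * b) := by group
    rw [this]
    exact M.mul_mem ha2 hb2
  one_mem' := ⟨H.one_mem, by rw [mul_one]; exact M.one_mem⟩
  inv_mem' := by
    rintro a ⟨ha, ha2⟩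
    refine ⟨H.inv_mem ha, ?_⟩
    have : a⁻¹ * a⁻¹ = (a * a)⁻¹ := by group
    rw [this]
    exact M.inv_mem ha2

theorem mem_sqKer {H M : Subgroup T} {hH : ∀ a ∈ H, ∀ b ∈ H, a * b = b * a} {g : T} :
    g ∈ sqKer H M hH ↔ g ∈ H ∧ g * g ∈ M := Iff.rfl

theorem sqKer_psi {H M : Subgroup T} {hH : ∀ a ∈ H, ∀ b ∈ H, a * b = b * a}
    (hHψ : ∀ a ∈ H, ψ a ∈ H) (hMψ : ∀ a ∈ M, ψ a ∈ M) :
    ∀ a ∈ sqKer H M hH, ψ a ∈ sqKer H M hH := by
  rintro a ⟨ha, ha2⟩
  refine ⟨hHψ a ha, ?_⟩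
  rw [← map_mul]
  exact hMψ _ ha2

end Gen

section S64

variable {T : Type u} [Group T] {ψ : T →* T}

theorem pg (h : F64 T ψ) : IsPGroup 2 T := IsPGroup.of_card (n := 6) (by rw [h.card]; norm_num)

theorem not_top_comm (h : F64 T ψ) (H : Subgroup T) (hH : ∀ a ∈ H, ∀ b ∈ H, a * b = b * a) :
    Nat.card H ≠ 64 := by
  haveI := h.base.fin
  intro h64
  have htop : H = ⊤ := Subgroup.eq_top_of_card_eq H (by rw [h64, h.card])
  apply h.nab
  intro a b
  exact hH a (by rw [htop]; exact Subgroup.mem_top a) b (by rw [htop]; exact Subgroup.mem_top b)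

theorem cardZ (h : F64 T ψ) : Nat.card (Subgroup.center T) = 4 := by
  haveI := h.base.fin
  have hZc : ∀ a ∈ Subgroup.center T, ∀ b ∈ Subgroup.center T, a * b = b * a :=
    fun a ha b _ => (Subgroup.mem_center_iff.mp ha b).symm
  have hc := card_cases h.base h.card (Subgroup.center T) (fun _ hx => psi_center h.base hx)
  have hne64 := not_top_comm h _ hZc
  have hne1 : 1 < Nat.card (Subgroup.center T) := by
    haveI : Nontrivial T := by
      rw [← Finite.one_lt_card_iff_nontrivial, h.card]; norm_num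
    haveI : Fact (Nat.Prime 2) := ⟨Nat.prime_two⟩
    haveI := IsPGroup.center_nontrivial (pg h)
    exact Finite.one_lt_card_iff_nontrivial.mpr inferInstance
  have hne16 : Nat.card (Subgroup.center T) ≠ 16 := by
    intro h16
    obtain ⟨y, hy⟩ : ∃ y : T, y ∉ Subgroup.center T := by
      by_contra hall
      push Not at hall
      apply h.nab
      intro a b
      exact (Subgroup.mem_center_iff.mp (hall a) b).symm
    have hH64 := not_top_comm h _ (Hy_comm h.base y)
    have cH := card_cases h.base h.card _ (Hy_psi h.base y)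
    have l1 := Subgroup.card_le_of_le (center_le_Hy (ψ := ψ) y)
    have heq : Subgroup.center T = Hy ψ y :=
      Subgroup.eq_of_le_of_card_ge (center_le_Hy y) (by omega)
    exact hy (heq ▸ mem_Hy y)
  omega

theorem sqZ (h : F64 T ψ) : ∀ z ∈ Subgroup.center T, z * z = 1 := by
  haveI := h.base.fin
  have hZc : ∀ a ∈ Subgroup.center T, ∀ b ∈ Subgroup.center T, a * b = b * a :=
    fun a ha b _ => (Subgroup.mem_center_iff.mp ha b).symm
  obtain ⟨P, hP⟩ : ∃ P : Subgroup T, P = sqKer (Subgroup.center T) ⊥ hZc := ⟨_, rfl⟩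
  have hPψ : ∀ a ∈ P, ψ a ∈ P := by
    rw [hP]
    exact sqKer_psi (fun _ hx => psi_center h.base hx) (fun a ha => by
      rw [Subgroup.mem_bot] at ha ⊢
      rw [ha, map_one])
  have hPle : P ≤ Subgroup.center T := by
    intro a ha
    rw [hP] at ha
    exact ha.1
  have hc := card_cases h.base h.card P hPψ
  have hle := Subgroup.card_le_of_le hPle
  rw [cardZ h] at hle
  have hP1 : Nat.card P ≠ 1 := by
    intro hc1
    haveI : Fact (Nat.Prime 2) := ⟨Nat.prime_two⟩
    obtain ⟨g, hg⟩ := exists_prime_orderOf_dvd_card' (G := ↥(Subgroup.center T)) 2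
      (by rw [cardZ h]; norm_num)
    have hg2 : (g : T) * (g : T) = 1 := by
      have := pow_orderOf_eq_one g
      rw [hg, pow_two] at this
      exact congrArg Subtype.val this
    have hmem : (g : T) ∈ P := by
      rw [hP]
      exact ⟨g.2, by rw [hg2]; exact Subgroup.one_mem _⟩
    have hbot : P = ⊥ := Subgroup.card_eq_one.mp hc1
    rw [hbot, Subgroup.mem_bot] at hmem
    have : g = 1 := Subtype.ext hmem
    rw [this, orderOf_one] at hg
    norm_num at hg
  have heq : P = Subgroup.center T :=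
    Subgroup.eq_of_le_of_card_ge hPle (by rw [cardZ h]; omega)
  intro z hz
  rw [← heq, hP] at hz
  exact Subgroup.mem_bot.mp hz.2

theorem sq_mem (h : F64 T ψ) (y : T) : y * y ∈ Subgroup.center T := by
  haveI := h.base.fin
  by_cases hy1 : y * y = 1
  · rw [hy1]; exact Subgroup.one_mem _
  have hHc := Hy_comm h.base y
  have hHψ := Hy_psi h.base y
  obtain ⟨P1, hP1⟩ : ∃ P1 : Subgroup T, P1 = sqKer (Hy ψ y) ⊥ hHc := ⟨_, rfl⟩
  obtain ⟨P2, hP2⟩ : ∃ P2 : Subgroup T, P2 = sqKer (Hy ψ y) P1 hHc := ⟨_, rfl⟩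
  have hP1ψ : ∀ a ∈ P1, ψ a ∈ P1 := by
    rw [hP1]
    exact sqKer_psi hHψ (fun a ha => by
      rw [Subgroup.mem_bot] at ha ⊢
      rw [ha, map_one])
  have hP2ψ : ∀ a ∈ P2, ψ a ∈ P2 := by
    rw [hP2]
    exact sqKer_psi hHψ hP1ψ
  have hZP1 : Subgroup.center T ≤ P1 := by
    intro z hz
    rw [hP1]
    exact ⟨center_le_Hy y hz, by rw [sqZ h z hz]; exact Subgroup.one_mem _⟩
  have hP12 : P1 ≤ P2 := by
    intro a ha
    have ha' := ha
    rw [hP1] at ha'
    rw [hP2]
    refine ⟨ha'.1, ?_⟩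
    have : a * a = 1 := Subgroup.mem_bot.mp ha'.2
    rw [this]
    exact Subgroup.one_mem _
  have hP2H : P2 ≤ Hy ψ y := by
    intro a ha
    rw [hP2] at ha
    exact ha.1
  have hH64 : Nat.card (Hy ψ y) ≠ 64 := not_top_comm h _ hHc
  have c1 := card_cases h.base h.card P1 hP1ψ
  have c2 := card_cases h.base h.card P2 hP2ψ
  have cH := card_cases h.base h.card _ hHψ
  have l1 := Subgroup.card_le_of_le hZP1
  have l2 := Subgroup.card_le_of_le hP12
  have l3 := Subgroup.card_le_of_le hP2H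
  rw [cardZ h] at l1
  have hyP1 : y ∉ P1 := by
    rw [hP1]
    intro hy
    exact hy1 (Subgroup.mem_bot.mp hy.2)
  obtain ⟨j, hj1, hj2⟩ := exists_pow_notMem (pg h) P1 hyP1
  have huH : y ^ 2 ^ j ∈ Hy ψ y := Subgroup.pow_mem _ (mem_Hy y) _
  have huP2 : y ^ 2 ^ j ∈ P2 := by
    rw [hP2]
    exact ⟨huH, hj2⟩
  have hlt : Nat.card P1 < Nat.card P2 := by
    by_contra hge
    push Not at hge
    have : P1 = P2 := Subgroup.eq_of_le_of_card_ge hP12 hge
    exact hj1 (this ▸ huP2)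
  have hHP2 : P2 = Hy ψ y := Subgroup.eq_of_le_of_card_ge hP2H (by omega)
  have hZeq : Subgroup.center T = P1 :=
    Subgroup.eq_of_le_of_card_ge hZP1 (by rw [cardZ h]; omega)
  have hy2 : y ∈ P2 := by
    rw [hHP2]
    exact mem_Hy y
  rw [hP2] at hy2
  rw [hZeq]
  exact hy2.2

theorem comm_mem (h : F64 T ψ) (a b : T) : ⁅a, b⁆ ∈ Subgroup.center T := by
  have h1 := sq_mem h (a * b)
  have h2 := sq_mem h a
  have h3 := sq_mem h b
  have hc := Subgroup.mem_center_iff.mp (Subgroup.inv_mem _ h2)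
  have e : ⁅a, b⁆ = (a * b * (a * b)) * (a * a)⁻¹ * (b * b)⁻¹ := by
    rw [commutatorElement_def]
    calc a * b * a⁻¹ * b⁻¹ = (a * b * (a * b)) * (b⁻¹ * (a * a)⁻¹) * b⁻¹ := by group
      _ = (a * b * (a * b)) * ((a * a)⁻¹ * b⁻¹) * b⁻¹ := by rw [hc b⁻¹]
      _ = _ := by group
  rw [e]
  exact Subgroup.mul_mem _ (Subgroup.mul_mem _ h1 (Subgroup.inv_mem _ h2)) (Subgroup.inv_mem _ h3)

theorem Ecomm (h : F64 T ψ) {e : T} (he : e ∈ Subgroup.center T) (t : T) : e * t = t * e :=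
  (Subgroup.mem_center_iff.mp he t).symm

theorem inv_E (h : F64 T ψ) {e : T} (he : e ∈ Subgroup.center T) : e⁻¹ = e :=
  inv_eq_of_mul_eq_one_left (sqZ h e he)

theorem comm_symm (h : F64 T ψ) (a b : T) : ⁅b, a⁆ = ⁅a, b⁆ := by
  rw [← commutatorElement_inv, inv_E h (comm_mem h a b)]

theorem cml (h : F64 T ψ) (s t m : T) : ⁅s * t, m⁆ = ⁅s, m⁆ * ⁅t, m⁆ :=
  comm_mul_left' (comm_mem h t m)

theorem cmr (h : F64 T ψ) (m s t : T) : ⁅m, s * t⁆ = ⁅m, s⁆ * ⁅m, t⁆ :=
  comm_mul_right' (comm_mem h m t)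

theorem cil (h : F64 T ψ) (s m : T) : ⁅s⁻¹, m⁆ = ⁅s, m⁆ := by
  rw [comm_inv_left' (comm_mem h s m), inv_E h (comm_mem h s m)]

theorem cir (h : F64 T ψ) (m s : T) : ⁅m, s⁻¹⁆ = ⁅m, s⁆ := by
  rw [comm_inv_right' (comm_mem h m s), inv_E h (comm_mem h m s)]

theorem cEl (h : F64 T ψ) {e : T} (he : e ∈ Subgroup.center T) (m : T) : ⁅e, m⁆ = 1 :=
  commutatorElement_eq_one_iff_mul_comm.mpr (Ecomm h he m)

theorem cEr (h : F64 T ψ) {e : T} (he : e ∈ Subgroup.center T) (m : T) : ⁅m, e⁆ = 1 :=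
  commutatorElement_eq_one_iff_mul_comm.mpr (Ecomm h he m).symm

theorem sqm (h : F64 T ψ) (a b : T) : (a * b) * (a * b) = ⁅b, a⁆ * (a * a) * (b * b) :=
  sq_mul' (comm_mem h b a)

theorem sq_mul_E (h : F64 T ψ) {e : T} (he : e ∈ Subgroup.center T) (a : T) :
    (a * e) * (a * e) = a * a := by
  calc a * e * (a * e) = a * (e * a) * e := by group
    _ = a * (a * e) * e := by rw [Ecomm h he a]
    _ = a * a * (e * e) := by group
    _ = a * a := by rw [sqZ h e he, mul_one]

theorem etab (h : F64 T ψ) {e : T} (he : e ∈ Subgroup.center T) (hne : e ≠ 1) :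
    ETab (Subgroup.center T) ψ e (ψ e) (ψ (ψ e)) := by
  haveI := h.base.fin
  exact etab' (inj h.base) (sqZ h) (le_of_eq (cardZ h)) (fun e he t => Ecomm h he t)
    (fun e he => psi_center h.base he) (fun e _ hfix => h.base.fpf e hfix) he hne

theorem exists_E (h : F64 T ψ) : ∃ e ∈ Subgroup.center T, e ≠ 1 := by
  haveI := h.base.fin
  by_contra hall
  push Not at hall
  have hbot : Subgroup.center T = ⊥ := by
    rw [Subgroup.eq_bot_iff_forall]
    exact hall
  have := cardZ h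
  rw [hbot, Subgroup.card_bot] at this
  omega

theorem tab_tw {E : Subgroup T} {e e₁ e₂ c c' : T} (tab : ETab E ψ e e₁ e₂) (hc : c ∈ E)
    (hc' : c' ∈ E) (hrel : c' = ψ c * ψ (ψ c) * ψ (ψ c')) : c' = ψ (ψ c) := by
  rcases tab.all c hc with rfl | rfl | rfl | rfl <;>
    rcases tab.all c' hc' with rfl | rfl | rfl | rfl <;>
    simp [tab.p0, tab.p1, tab.p2, tab.m01, tab.m10, tab.m02, tab.m20, tab.m12, tab.m21,
      tab.s0, tab.s1, tab.s2, tab.ne, tab.ne₁, tab.ne₂, tab.n01, tab.n02, tab.n12,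
      tab.n01.symm, tab.n02.symm, tab.n12.symm, tab.ne.symm, tab.ne₁.symm, tab.ne₂.symm]
      at hrel ⊢

/-- Commutators twist under `ψ` in the second variable. -/
theorem twist_right (h : F64 T ψ) (a b : T) : ⁅a, ψ b⁆ = ψ (ψ ⁅a, b⁆) := by
  obtain ⟨e, he, hne⟩ := exists_E h
  have tab := etab h he hne
  have hc := comm_mem h a b
  have hc' := comm_mem h a (ψ b)
  have hc'' := comm_mem h (ψ a) b
  have e1 : ⁅a, ψ (ψ b)⁆ = ⁅a, b⁆ * ⁅a, ψ b⁆ := by
    rw [psi2 h.base b, cir h, cmr h]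
  have e2 : ⁅ψ (ψ a), b⁆ = ⁅a, b⁆ * ⁅ψ a, b⁆ := by
    rw [psi2 h.base a, cil h, cml h]
  have e3 : ⁅a, ψ b⁆ = ψ (⁅a, b⁆ * ⁅ψ a, b⁆) := by
    rw [← e2, map_commutatorElement, h.base.cube]
  have e4 : ⁅ψ a, b⁆ = ψ (⁅a, b⁆ * ⁅a, ψ b⁆) := by
    rw [← e1, map_commutatorElement, h.base.cube]
  have e5 : ⁅a, ψ b⁆ = ψ ⁅a, b⁆ * ψ (ψ ⁅a, b⁆) * ψ (ψ ⁅a, ψ b⁆) := by
    conv_lhs => rw [e3, e4]
    rw [map_mul, map_mul, map_mul, mul_assoc]
  exact tab_tw tab hc hc' e5

/-- Commutators twist under `ψ` in the first variable. -/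
theorem twist_left (h : F64 T ψ) (a b : T) : ⁅ψ a, b⁆ = ψ (ψ ⁅a, b⁆) := by
  have h1 := twist_right h b a
  rw [← comm_symm h (ψ a) b, h1, comm_symm h a b]

theorem comm_psi_psi (h : F64 T ψ) (a b : T) : ⁅ψ a, ψ b⁆ = ψ ⁅a, b⁆ :=
  (map_commutatorElement ψ a b).symm

theorem comm_self_psi (h : F64 T ψ) (a : T) : ⁅ψ a, a⁆ = 1 :=
  commutatorElement_eq_one_iff_mul_comm.mpr (comm_psi h.base a).symm

theorem comm_psi_self (h : F64 T ψ) (a : T) : ⁅a, ψ a⁆ = 1 :=
  commutatorElement_eq_one_iff_mul_comm.mpr (comm_psi h.base a)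

end S64

end L3

end Cfsg.Agent.Lib.Helper28
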