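import Mathlib
import Cfsg.Agent.Lib.Helper28.R2Struct
import Cfsg.Agent.Lib.Helper60.SuzExt

set_option autoImplicit false
set_option linter.unusedSectionVars false
set_option linter.style.haveILetI false
set_option linter.unusedSimpArgs false
set_option linter.unusedVariables false

/-! Rank-two 2-groups with an automorphism moving every involution (helper28):
the non-commutative case is a fixed group of order 64. -/

namespace Cfsg.Agent.Lib.Helper28.R2

open scoped commutatorElement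

universe u

/-- The model group of order 64: pairs `(v, z)` with `v ∈ F₂⁴`, `z ∈ F₂²` and a bilinear cocycle. -/
@[ext] structure G0 where
  a : ZMod 2
  b : ZMod 2
  c : ZMod 2
  d : ZMod 2
  m : ZMod 2
  n : ZMod 2

namespace G0

instance : Mul G0 := ⟨fun p q => ⟨p.a + q.a, p.b + q.b, p.c + q.c, p.d + q.d,
  p.m + q.m + (p.a * q.a + p.d * q.d + p.a * q.c + p.a * q.d + p.b * q.c),
  p.n + q.n + (p.b * q.b + p.c * q.c + p.d * q.d + p.a * q.d + p.b * q.c + p.b * q.d)⟩⟩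
instance : One G0 := ⟨⟨0, 0, 0, 0, 0, 0⟩⟩
instance : Inv G0 := ⟨fun p => ⟨-p.a, -p.b, -p.c, -p.d,
  -p.m + (p.a * p.a + p.d * p.d + p.a * p.c + p.a * p.d + p.b * p.c),
  -p.n + (p.b * p.b + p.c * p.c + p.d * p.d + p.a * p.d + p.b * p.c + p.b * p.d)⟩⟩

@[simp] theorem mul_a (p q : G0) : (p * q).a = p.a + q.a := rfl
@[simp] theorem mul_b (p q : G0) : (p * q).b = p.b + q.b := rfl
@[simp] theorem mul_c (p q : G0) : (p * q).c = p.c + q.c := rfl
@[simp] theorem mul_d (p q : G0) : (p * q).d = p.d + q.d := rfl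
@[simp] theorem mul_m (p q : G0) : (p * q).m =
    p.m + q.m + (p.a * q.a + p.d * q.d + p.a * q.c + p.a * q.d + p.b * q.c) := rfl
@[simp] theorem mul_n (p q : G0) : (p * q).n =
    p.n + q.n + (p.b * q.b + p.c * q.c + p.d * q.d + p.a * q.d + p.b * q.c + p.b * q.d) := rfl
@[simp] theorem one_a : (1 : G0).a = 0 := rfl
@[simp] theorem one_b : (1 : G0).b = 0 := rfl
@[simp] theorem one_c : (1 : G0).c = 0 := rfl
@[simp] theorem one_d : (1 : G0).d = 0 := rfl
@[simp] theorem one_m : (1 : G0).m = 0 := rfl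
@[simp] theorem one_n : (1 : G0).n = 0 := rfl
@[simp] theorem inv_a (p : G0) : (p⁻¹).a = -p.a := rfl
@[simp] theorem inv_b (p : G0) : (p⁻¹).b = -p.b := rfl
@[simp] theorem inv_c (p : G0) : (p⁻¹).c = -p.c := rfl
@[simp] theorem inv_d (p : G0) : (p⁻¹).d = -p.d := rfl
@[simp] theorem inv_m (p : G0) : (p⁻¹).m =
    -p.m + (p.a * p.a + p.d * p.d + p.a * p.c + p.a * p.d + p.b * p.c) := rfl
@[simp] theorem inv_n (p : G0) : (p⁻¹).n =
    -p.n + (p.b * p.b + p.c * p.c + p.d * p.d + p.a * p.d + p.b * p.c + p.b * p.d) := rfl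

instance : Group G0 where
  mul_assoc p q r := by
    ext <;> simp only [mul_a, mul_b, mul_c, mul_d, mul_m, mul_n] <;> ring
  one_mul p := by
    ext <;> simp only [mul_a, mul_b, mul_c, mul_d, mul_m, mul_n, one_a, one_b, one_c, one_d,
      one_m, one_n] <;> ring
  mul_one p := by
    ext <;> simp only [mul_a, mul_b, mul_c, mul_d, mul_m, mul_n, one_a, one_b, one_c, one_d,
      one_m, one_n] <;> ring
  inv_mul_cancel p := by
    ext <;> simp only [mul_a, mul_b, mul_c, mul_d, mul_m, mul_n, one_a, one_b, one_c, one_d,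
      one_m, one_n, inv_a, inv_b, inv_c, inv_d, inv_m, inv_n] <;> ring

/-- The central subgroup `{(0, z)}`. -/
def EP : Subgroup G0 where
  carrier := {g | g.a = 0 ∧ g.b = 0 ∧ g.c = 0 ∧ g.d = 0}
  mul_mem' := by
    rintro p q ⟨h1, h2, h3, h4⟩ ⟨h5, h6, h7, h8⟩
    refine ⟨?_, ?_, ?_, ?_⟩
    · rw [mul_a, h1, h5, add_zero]
    · rw [mul_b, h2, h6, add_zero]
    · rw [mul_c, h3, h7, add_zero]
    · rw [mul_d, h4, h8, add_zero]
  one_mem' := ⟨rfl, rfl, rfl, rfl⟩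
  inv_mem' := by
    rintro p ⟨h1, h2, h3, h4⟩
    refine ⟨?_, ?_, ?_, ?_⟩
    · rw [inv_a, h1, neg_zero]
    · rw [inv_b, h2, neg_zero]
    · rw [inv_c, h3, neg_zero]
    · rw [inv_d, h4, neg_zero]

theorem mem_EP (g : G0) : g ∈ EP ↔ g.a = 0 ∧ g.b = 0 ∧ g.c = 0 ∧ g.d = 0 := Iff.rfl

theorem EP_le_center : EP ≤ Subgroup.center G0 := by
  rintro g ⟨h1, h2, h3, h4⟩
  rw [Subgroup.mem_center_iff]
  intro k
  ext <;> simp only [mul_a, mul_b, mul_c, mul_d, mul_m, mul_n, h1, h2, h3, h4] <;> ring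

end G0

/-- `X ^ a` for `a ∈ F₂`. -/
def pw {G : Type*} [Group G] (X : G) (a : ZMod 2) : G := if a = 0 then 1 else X

theorem zmod2_cases (a : ZMod 2) : a = 0 ∨ a = 1 := by
  revert a
  decide

theorem pw_zero {G : Type*} [Group G] (X : G) : pw X 0 = 1 := by simp [pw]

theorem pw_one {G : Type*} [Group G] (X : G) : pw X 1 = X := by simp +decide [pw]

theorem pw_add {G : Type*} [Group G] {X : G} (hX : X * X = 1) (a a' : ZMod 2) :
    pw X (a + a') = pw X a * pw X a' := by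
  rcases zmod2_cases a with rfl | rfl <;> rcases zmod2_cases a' with rfl | rfl <;>
    simp +decide [pw, hX]

theorem map_pw {G H : Type*} [Group G] [Group H] (f : G →* H) (X : G) (a : ZMod 2) :
    f (pw X a) = pw (f X) a := by
  rcases zmod2_cases a with rfl | rfl <;> simp +decide [pw]

theorem pw_mem {G : Type*} [Group G] (K : Subgroup G) {X : G} (hX : X ∈ K) (a : ZMod 2) :
    pw X a ∈ K := by
  rcases zmod2_cases a with rfl | rfl <;> simp +decide [pw, hX, K.one_mem]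

/-- `F₂⁴`. -/
abbrev V4 : Type := ZMod 2 × ZMod 2 × ZMod 2 × ZMod 2

/-- The word `x^a y^b z^c w^d`. -/
def wd {G : Type*} [Group G] (x y z w : G) (v : V4) : G :=
  pw x v.1 * pw y v.2.1 * pw z v.2.2.1 * pw w v.2.2.2

theorem map_wd {G H : Type*} [Group G] [Group H] (f : G →* H) (x y z w : G) (v : V4) :
    f (wd x y z w v) = wd (f x) (f y) (f z) (f w) v := by
  unfold wd
  rw [map_mul, map_mul, map_mul, map_pw, map_pw, map_pw, map_pw]

theorem comm8 {Q : Type*} [Group Q] (hc : ∀ a b : Q, a * b = b * a) (a a' b b' c c' d d' : Q) :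
    a * a' * (b * b') * (c * c') * (d * d') = (a * b * c * d) * (a' * b' * c' * d') := by
  have hcm : ∀ a b c d : Q, a * b * (c * d) = a * c * (b * d) := fun a b c d =>
    Commute.mul_mul_mul_comm (show Commute b c from hc b c) a d
  rw [hcm a a' b b', hcm (a * b) (a' * b') c c', hcm (a * b * c) (a' * b' * c') d d']

theorem wd_add {Q : Type*} [Group Q] (hc : ∀ a b : Q, a * b = b * a) {X Y Z W : Q}
    (hX : X * X = 1) (hY : Y * Y = 1) (hZ : Z * Z = 1) (hW : W * W = 1) (v v' : V4) :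
    wd X Y Z W (v + v') = wd X Y Z W v * wd X Y Z W v' := by
  unfold wd
  rw [Prod.fst_add, Prod.snd_add, Prod.fst_add, Prod.snd_add, Prod.fst_add, Prod.snd_add,
    pw_add hX, pw_add hY, pw_add hZ, pw_add hW]
  exact comm8 hc _ _ _ _ _ _ _ _

/-- The quadratic map, first coordinate. -/
def q1 (a b c d : ZMod 2) : ZMod 2 := a * a + d * d + a * c + a * d + b * c

/-- The quadratic map, second coordinate. -/
def q2 (a b c d : ZMod 2) : ZMod 2 := b * b + c * c + d * d + a * d + b * c + b * d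

theorem q_aniso : ∀ a b c d : ZMod 2, q1 a b c d = 0 → q2 a b c d = 0 →
    a = 0 ∧ b = 0 ∧ c = 0 ∧ d = 0 := by
  decide

section Model

variable {T : Type u} [Group T] {E : Subgroup T} {ψ : T →* T}

theorem sq4 (h : R2 T E ψ) (hcE : ∀ s t : T, ⁅s, t⁆ ∈ E) (X Y Z W : T) :
    (X * Y * Z * W) * (X * Y * Z * W) =
      ⁅W, X⁆ * ⁅W, Y⁆ * ⁅W, Z⁆ * ⁅Z, X⁆ * ⁅Z, Y⁆ * ⁅Y, X⁆ * (X * X) * (Y * Y) * (Z * Z) *
        (W * W) := by
  rw [sqm h (hcE W (X * Y * Z)), sqm h (hcE Z (X * Y)), sqm h (hcE Y X), cmr h (hcE W Z),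
    cmr h (hcE W Y), cmr h (hcE Z Y)]
  simp only [mul_assoc]

theorem sq_formula (h : R2 T E ψ) (hcE : ∀ s t : T, ⁅s, t⁆ ∈ E) {e e₁ e₂ x y z w : T}
    (tab : ETab E ψ e e₁ e₂)
    (hx : x * x = e) (hy : y * y = e₁) (hz : z * z = e₁) (hw : w * w = e₂)
    (hyx : ⁅y, x⁆ = 1) (hzx : ⁅z, x⁆ = e) (hzy : ⁅z, y⁆ = e₂) (hwx : ⁅w, x⁆ = e₂)
    (hwy : ⁅w, y⁆ = e₁) (hwz : ⁅w, z⁆ = 1) (a b c d : ZMod 2) :
    (pw x a * pw y b * pw z c * pw w d) * (pw x a * pw y b * pw z c * pw w d) =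
      pw e (q1 a b c d) * pw e₁ (q2 a b c d) := by
  rw [sq4 h hcE]
  rcases zmod2_cases a with rfl | rfl <;> rcases zmod2_cases b with rfl | rfl <;>
    rcases zmod2_cases c with rfl | rfl <;> rcases zmod2_cases d with rfl | rfl <;>
    simp +decide [pw, q1, q2, hx, hy, hz, hw, hyx, hzx, hzy, hwx, hwy, hwz, tab.m01, tab.m10,
      tab.m02, tab.m20, tab.m12, tab.m21, tab.s0, tab.s1, tab.s2]

theorem gam_eq_one {e e₁ e₂ : T} (tab : ETab E ψ e e₁ e₂) (m n : ZMod 2)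
    (hmn : pw e m * pw e₁ n = 1) : m = 0 ∧ n = 0 := by
  rcases zmod2_cases m with rfl | rfl <;> rcases zmod2_cases n with rfl | rfl <;>
    simp +decide [pw, tab.m01, tab.ne, tab.ne₁, tab.ne₂] at hmn ⊢

theorem card_E (h : R2 T E ψ) : Nat.card E = 4 := by
  haveI := h.fin
  have h1 := mod3 h E (fun _ hx => psi_mem h hx)
  have h2 := h.card
  have h3 : 1 < Nat.card E := by
    rw [Subgroup.one_lt_card_iff_ne_bot]
    obtain ⟨e, he, hne⟩ := h.ne
    intro h0
    rw [h0, Subgroup.mem_bot] at he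
    exact hne he
  omega

theorem card_V4 : Nat.card V4 = 16 := by
  simp [V4, Nat.card_prod]

/-- The non-commutative case: `T` is the model group. -/
theorem model_iso (h : R2 T E ψ) (hab : ¬ ∀ a b : T, a * b = b * a) : Nonempty (G0 ≃* T) := by
  classical
  rcases dichotomy h with h0 | ⟨hsq, hcE⟩
  · exact absurd h0 hab
  obtain ⟨e, x, z, tab, hxx, hzz, hyx, hzx, hzy, hwx, hwz, hcard⟩ := std_gens h hab hsq hcE
  haveI := h.fin
  haveI : E.Normal := normal_E h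
  have hy : ψ x * ψ x = ψ e := by rw [← map_mul, hxx]
  have hw : ψ z * ψ z = ψ (ψ e) := by rw [← map_mul, hzz]
  have hwy : ⁅ψ z, ψ x⁆ = ψ e := by rw [← map_commutatorElement, hzx]
  have hF := sq_formula h hcE tab hxx hy hzz hw hyx hzx hzy hwx hwy hwz
  have hmk : ∀ s t : T, ((⁅s, t⁆ : T) : T ⧸ E) = ⁅(s : T ⧸ E), (t : T ⧸ E)⁆ := fun s t =>
    map_commutatorElement (QuotientGroup.mk' E) s t
  have hQab : ∀ a b : T ⧸ E, a * b = b * a := by
    intro a b
    obtain ⟨s, rfl⟩ := QuotientGroup.mk_surjective a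
    obtain ⟨t, rfl⟩ := QuotientGroup.mk_surjective b
    rw [← commutatorElement_eq_one_iff_mul_comm, ← hmk]
    exact (QuotientGroup.eq_one_iff _).mpr (hcE s t)
  have hQsq : ∀ a : T ⧸ E, a * a = 1 := by
    intro a
    obtain ⟨s, rfl⟩ := QuotientGroup.mk_surjective a
    rw [← QuotientGroup.mk_mul]
    exact (QuotientGroup.eq_one_iff _).mpr (hsq s)
  -- the coordinate map
  obtain ⟨j, hjdef⟩ : ∃ j : V4 → T ⧸ E, ∀ v, j v = (QuotientGroup.mk' E) (wd x (ψ x) z (ψ z) v) :=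
    ⟨_, fun _ => rfl⟩
  have hjadd : ∀ v v' : V4, j (v + v') = j v * j v' := by
    intro v v'
    rw [hjdef, hjdef, hjdef, map_wd, map_wd, map_wd]
    exact wd_add hQab (hQsq _) (hQsq _) (hQsq _) (hQsq _) v v'
  have hj0 : ∀ v : V4, j v = 1 → v = 0 := by
    intro v hv
    rw [hjdef] at hv
    have h1 : wd x (ψ x) z (ψ z) v ∈ E := (QuotientGroup.eq_one_iff _).mp hv
    have h2 := sq h h1
    have h3 : wd x (ψ x) z (ψ z) v * wd x (ψ x) z (ψ z) v =
        pw e (q1 v.1 v.2.1 v.2.2.1 v.2.2.2) * pw (ψ e) (q2 v.1 v.2.1 v.2.2.1 v.2.2.2) :=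
      hF v.1 v.2.1 v.2.2.1 v.2.2.2
    rw [h2] at h3
    obtain ⟨h4, h5⟩ := gam_eq_one tab _ _ h3.symm
    obtain ⟨h6, h7, h8, h9⟩ := q_aniso _ _ _ _ h4 h5
    exact Prod.ext h6 (Prod.ext h7 (Prod.ext h8 h9))
  have hVchar : ∀ v v' : V4, v + v' = 0 → v = v' := by decide
  have hjinj : Function.Injective j := by
    intro v v' hvv'
    apply hVchar
    apply hj0
    rw [hjadd, hvv', hQsq]
  have hcQ : Nat.card (T ⧸ E) ≤ 16 := by
    have h1 := Subgroup.card_eq_card_quotient_mul_card_subgroup E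
    rw [card_E h] at h1
    omega
  have hjbij : Function.Bijective j :=
    hjinj.bijective_of_nat_card_le (by rw [card_V4]; exact hcQ)
  obtain ⟨jb, hjb⟩ : ∃ jb : V4 ≃ T ⧸ E, ∀ v, jb v = j v := ⟨Equiv.ofBijective j hjbij, fun _ => rfl⟩
  -- the maps to `F₂⁴`
  obtain ⟨aG, haG⟩ : ∃ aG : G0 → V4, ∀ g, aG g = (g.a, g.b, g.c, g.d) := ⟨_, fun _ => rfl⟩
  obtain ⟨b, hb⟩ : ∃ b : T → V4, ∀ t, b t = jb.symm (t : T ⧸ E) := ⟨_, fun _ => rfl⟩
  have hbj : ∀ t : T, j (b t) = (t : T ⧸ E) := by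
    intro t
    rw [← hjb, hb, Equiv.apply_symm_apply]
  have hbeq : ∀ (t : T) (v : V4), j v = (t : T ⧸ E) → b t = v := by
    intro t v hv
    apply hjinj
    rw [hbj, hv]
  have hbE : ∀ t : T, b t = 0 ↔ t ∈ E := by
    intro t
    constructor
    · intro h0
      have h1 := hbj t
      rw [h0, hjdef] at h1
      have h2 : wd x (ψ x) z (ψ z) (0 : V4) = 1 := by
        simp [wd, pw]
      rw [h2] at h1
      exact (QuotientGroup.eq_one_iff t).mp h1.symm
    · intro ht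
      apply hbeq
      rw [hjdef]
      have h2 : wd x (ψ x) z (ψ z) (0 : V4) = 1 := by
        simp [wd, pw]
      rw [h2]
      exact ((QuotientGroup.eq_one_iff t).mpr ht).symm
  -- the map from the centre of the model
  let γ : ↥G0.EP →* T :=
    { toFun := fun g => pw e g.1.m * pw (ψ e) g.1.n
      map_one' := by
        show pw e (1 : G0).m * pw (ψ e) (1 : G0).n = 1
        rw [G0.one_m, G0.one_n, pw_zero, pw_zero, mul_one]
      map_mul' := by
        intro g g'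
        obtain ⟨g1, g2, g3, g4⟩ := g.2
        obtain ⟨g1', g2', g3', g4'⟩ := g'.2
        show pw e (g.1 * g'.1).m * pw (ψ e) (g.1 * g'.1).n =
          pw e g.1.m * pw (ψ e) g.1.n * (pw e g'.1.m * pw (ψ e) g'.1.n)
        have hm : (g.1 * g'.1).m = g.1.m + g'.1.m := by
          rw [G0.mul_m, g1, g2, g4]
          ring
        have hn : (g.1 * g'.1).n = g.1.n + g'.1.n := by
          rw [G0.mul_n, g1, g2, g3, g4]
          ring
        rw [hm, hn, pw_add tab.s0, pw_add tab.s1]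
        exact Commute.mul_mul_mul_comm
          (show Commute (pw e g'.1.m) (pw (ψ e) g.1.n) from
            Ecomm h (pw_mem E tab.he _) _) _ _ }
  have hγ : ∀ g : ↥G0.EP, γ g = pw e g.1.m * pw (ψ e) g.1.n := fun _ => rfl
  have hγE : ∀ g : ↥G0.EP, γ g ∈ E := fun g =>
    E.mul_mem (pw_mem E tab.he _) (pw_mem E tab.he₁ _)
  have hγinj : Function.Injective γ := by
    rw [injective_iff_map_eq_one]
    intro g hg
    rw [hγ] at hg
    obtain ⟨h1, h2⟩ := gam_eq_one tab _ _ hg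
    obtain ⟨g1, g2, g3, g4⟩ := g.2
    exact Subtype.ext (G0.ext g1 g2 g3 g4 h1 h2)
  refine Cfsg.Agent.Lib.Helper60.iso_of_square_data aG b ?_ ?_ ?_ ?_ G0.EP ?_ G0.EP_le_center γ
    hγinj ?_ (fun g => h.cen (hγE g)) ?_
  · -- aG additive
    intro p q
    rw [haG, haG, haG]
    rfl
  · -- b additive
    intro s t
    apply hbeq
    rw [hjadd, hbj, hbj]
    rfl
  · -- aG surjective
    intro v
    exact ⟨⟨v.1, v.2.1, v.2.2.1, v.2.2.2, 0, 0⟩, by rw [haG]⟩
  · -- b surjective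
    intro v
    exact ⟨wd x (ψ x) z (ψ z) v, hbeq _ _ (hjdef v)⟩
  · -- kernel of aG
    intro g
    rw [haG, G0.mem_EP]
    constructor
    · intro h0
      have h1 := congrArg Prod.fst h0
      have h2 := congrArg (fun v : V4 => v.2.1) h0
      have h3 := congrArg (fun v : V4 => v.2.2.1) h0
      have h4 := congrArg (fun v : V4 => v.2.2.2) h0
      exact ⟨h1, h2, h3, h4⟩
    · rintro ⟨h1, h2, h3, h4⟩
      rw [h1, h2, h3, h4]
      rfl
  · -- kernel of b
    intro t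
    rw [hbE]
    constructor
    · intro ht
      rcases tab.all t ht with h0 | h0 | h0 | h0
      · exact ⟨1, by rw [h0]; exact map_one γ⟩
      · refine ⟨⟨⟨0, 0, 0, 0, 1, 0⟩, ⟨rfl, rfl, rfl, rfl⟩⟩, ?_⟩
        rw [hγ, h0]
        show pw e 1 * pw (ψ e) 0 = e
        rw [pw_one, pw_zero, mul_one]
      · refine ⟨⟨⟨0, 0, 0, 0, 0, 1⟩, ⟨rfl, rfl, rfl, rfl⟩⟩, ?_⟩
        rw [hγ, h0]
        show pw e 0 * pw (ψ e) 1 = ψ e
        rw [pw_one, pw_zero, one_mul]
      · refine ⟨⟨⟨0, 0, 0, 0, 1, 1⟩, ⟨rfl, rfl, rfl, rfl⟩⟩, ?_⟩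
        rw [hγ, h0]
        show pw e 1 * pw (ψ e) 1 = ψ (ψ e)
        rw [pw_one, pw_one, tab.m01]
    · rintro ⟨g, rfl⟩
      exact hγE g
  · -- squares
    intro g t hgt
    have h1 : j (g.a, g.b, g.c, g.d) = (t : T ⧸ E) := by
      rw [← haG, hgt, hbj]
    rw [hjdef] at h1
    have h2 : (wd x (ψ x) z (ψ z) (g.a, g.b, g.c, g.d))⁻¹ * t ∈ E := QuotientGroup.eq.mp h1
    obtain ⟨ε, hε⟩ : ∃ ε, ε = (wd x (ψ x) z (ψ z) (g.a, g.b, g.c, g.d))⁻¹ * t := ⟨_, rfl⟩
    have hεE : ε ∈ E := hε ▸ h2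
    have ht : t = wd x (ψ x) z (ψ z) (g.a, g.b, g.c, g.d) * ε := by
      rw [hε]
      group
    have hmem : g * g ∈ G0.EP :=
      ⟨CharTwo.add_self_eq_zero _, CharTwo.add_self_eq_zero _, CharTwo.add_self_eq_zero _,
        CharTwo.add_self_eq_zero _⟩
    refine ⟨hmem, ?_⟩
    rw [ht, sq_mul_E h hεE, hγ]
    have hm : (g * g).m = q1 g.a g.b g.c g.d := by
      rw [G0.mul_m, CharTwo.add_self_eq_zero, zero_add]
      rfl
    have hn : (g * g).n = q2 g.a g.b g.c g.d := by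
      rw [G0.mul_n, CharTwo.add_self_eq_zero, zero_add]
      rfl
    show pw e (g * g).m * pw (ψ e) (g * g).n = _
    rw [hm, hn]
    exact (hF g.a g.b g.c g.d).symm

end Model

end Cfsg.Agent.Lib.Helper28.R2
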