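import Mathlib
import Cfsg.Agent.Lib.Helper28.L3Base
import Cfsg.Agent.Lib.Helper28.R2Model
import Cfsg.Agent.Lib.Helper38.F4
import Cfsg.Agent.Lib.Helper60.SuzExt

set_option autoImplicit false
set_option linter.unusedSectionVars false
set_option linter.style.haveILetI false
set_option linter.unusedSimpArgs false
set_option linter.unusedVariables false

/-! Groups of order 64 with a fixed-point-free automorphism of order three (helper28):
with a non-central involution, the group is the Heisenberg group over the field of order four. -/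

namespace Cfsg.Agent.Lib.Helper28.L3

open scoped commutatorElement
open Cfsg.Agent.Lib.Helper28.R2
open Cfsg.Agent.Lib.Helper38 (F4)

universe u

/-- The Heisenberg group over the field of order four. -/
@[ext] structure H3 where
  a : F4
  b : F4
  c : F4

namespace H3

instance : Mul H3 := ⟨fun p q => ⟨p.a + q.a, p.b + q.b, p.c + q.c + p.a * q.b⟩⟩
instance : One H3 := ⟨⟨0, 0, 0⟩⟩
instance : Inv H3 := ⟨fun p => ⟨-p.a, -p.b, -p.c + p.a * p.b⟩⟩

@[simp] theorem mul_a (p q : H3) : (p * q).a = p.a + q.a := rfl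
@[simp] theorem mul_b (p q : H3) : (p * q).b = p.b + q.b := rfl
@[simp] theorem mul_c (p q : H3) : (p * q).c = p.c + q.c + p.a * q.b := rfl
@[simp] theorem one_a : (1 : H3).a = 0 := rfl
@[simp] theorem one_b : (1 : H3).b = 0 := rfl
@[simp] theorem one_c : (1 : H3).c = 0 := rfl
@[simp] theorem inv_a (p : H3) : (p⁻¹).a = -p.a := rfl
@[simp] theorem inv_b (p : H3) : (p⁻¹).b = -p.b := rfl
@[simp] theorem inv_c (p : H3) : (p⁻¹).c = -p.c + p.a * p.b := rfl

instance : Group H3 where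
  mul_assoc p q r := by
    ext <;> simp only [mul_a, mul_b, mul_c] <;> ring
  one_mul p := by
    ext <;> simp only [mul_a, mul_b, mul_c, one_a, one_b, one_c] <;> ring
  mul_one p := by
    ext <;> simp only [mul_a, mul_b, mul_c, one_a, one_b, one_c] <;> ring
  inv_mul_cancel p := by
    ext <;> simp only [mul_a, mul_b, mul_c, one_a, one_b, one_c, inv_a, inv_b, inv_c] <;> ring

/-- The centre `{(0, 0, c)}`. -/
def EP : Subgroup H3 where
  carrier := {g | g.a = 0 ∧ g.b = 0}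
  mul_mem' := by
    rintro p q ⟨h1, h2⟩ ⟨h3, h4⟩
    exact ⟨by rw [mul_a, h1, h3, add_zero], by rw [mul_b, h2, h4, add_zero]⟩
  one_mem' := ⟨rfl, rfl⟩
  inv_mem' := by
    rintro p ⟨h1, h2⟩
    exact ⟨by rw [inv_a, h1, neg_zero], by rw [inv_b, h2, neg_zero]⟩

theorem mem_EP (g : H3) : g ∈ EP ↔ g.a = 0 ∧ g.b = 0 := Iff.rfl

theorem EP_le_center : EP ≤ Subgroup.center H3 := by
  rintro g ⟨h1, h2⟩
  rw [Subgroup.mem_center_iff]
  intro k
  ext <;> simp only [mul_a, mul_b, mul_c, h1, h2] <;> ring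

/-- Coordinates. -/
def equiv : H3 ≃ F4 × F4 × F4 where
  toFun g := (g.a, g.b, g.c)
  invFun p := ⟨p.1, p.2.1, p.2.2⟩
  left_inv _ := rfl
  right_inv _ := rfl

theorem card : Nat.card H3 = 64 := by
  rw [Nat.card_congr equiv, Nat.card_prod, Nat.card_prod, Nat.card_eq_fintype_card, F4.card]

end H3

/-- Coordinates of the field of order four over the prime field. -/
def co : F4 → ZMod 2 × ZMod 2
  | F4.z => (0, 0)
  | F4.o => (1, 0)
  | F4.w => (0, 1)
  | F4.v => (1, 1)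

theorem co_zero : co 0 = 0 := rfl

theorem co_add : ∀ x y : F4, co (x + y) = co x + co y := by decide

theorem co_eq_zero : ∀ x : F4, co x = 0 → x = 0 := by decide

theorem co_surj : ∀ p : ZMod 2 × ZMod 2, ∃ x : F4, co x = p := by decide

theorem co_mul : ∀ x y : F4, co (x * y) =
    ((co x).1 * (co y).1 + (co x).2 * (co y).2,
      (co x).1 * (co y).2 + (co x).2 * (co y).1 + (co x).2 * (co y).2) := by decide

theorem F4_add_self : ∀ x : F4, x + x = 0 := by decide

theorem pw_id {G : Type*} [Group G] (a : ZMod 2) : pw (1 : G) a = 1 := by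
  rcases zmod2_cases a with rfl | rfl <;> simp +decide [pw]

theorem gam2 {T : Type u} [Group T] {E : Subgroup T} {ψ : T →* T} {e e₁ e₂ : T}
    (tab : ETab E ψ e e₁ e₂) (m n : ZMod 2) (hmn : pw e m * pw e₂ n = 1) : m = 0 ∧ n = 0 := by
  rcases zmod2_cases m with rfl | rfl <;> rcases zmod2_cases n with rfl | rfl <;>
    simp +decide [pw, tab.m02, tab.ne, tab.ne₁, tab.ne₂] at hmn ⊢

/-- The core: a central extension with the squaring map of the Heisenberg group. -/
theorem iso_core {T : Type u} [Group T] [Finite T] (E : Subgroup T) [E.Normal] {ψ : T →* T}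
    {e x y z w : T} (tab : ETab E ψ e (ψ e) (ψ (ψ e)))
    (hcen : E ≤ Subgroup.center T) (hsqE : ∀ t ∈ E, t * t = 1)
    (hsq : ∀ t : T, t * t ∈ E) (hcE : ∀ s t : T, ⁅s, t⁆ ∈ E)
    (hcard : Nat.card (T ⧸ E) ≤ 16)
    (hF : ∀ a b c d : ZMod 2, (pw x a * pw y b * pw z c * pw w d) *
      (pw x a * pw y b * pw z c * pw w d) =
        pw e (a * c + b * d) * pw (ψ (ψ e)) (a * d + b * c + b * d))
    (hind : ∀ v : V4, wd x y z w v ∈ E → v = 0) :
    Nonempty (H3 ≃* T) := by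
  classical
  have hmk : ∀ s t : T, ((⁅s, t⁆ : T) : T ⧸ E) = ⁅(s : T ⧸ E), (t : T ⧸ E)⁆ := fun s t =>
    map_commutatorElement (QuotientGroup.mk' E) s t
  have hQab : ∀ a b : T ⧸ E, a * b = b * a := by
    intro a b
    obtain ⟨s, rfl⟩ := QuotientGroup.mk_surjective a
    obtain ⟨t, rfl⟩ := QuotientGroup.mk_surjective b
    rw [← commutatorElement_eq_one_iff_mul_comm, ← hmk]
    exact (QuotientGroup.eq_one_iff _).mpr (hcE s t)
  have hQsq : ∀ a : T ⧸ E, a * a = 1 := by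
    intro a
    obtain ⟨s, rfl⟩ := QuotientGroup.mk_surjective a
    rw [← QuotientGroup.mk_mul]
    exact (QuotientGroup.eq_one_iff _).mpr (hsq s)
  have hEc : ∀ ε ∈ E, ∀ t : T, ε * t = t * ε := fun ε hε t =>
    (Subgroup.mem_center_iff.mp (hcen hε) t).symm
  have hsqmul : ∀ ε ∈ E, ∀ a : T, (a * ε) * (a * ε) = a * a := by
    intro ε hε a
    calc a * ε * (a * ε) = a * (ε * a) * ε := by group
      _ = a * (a * ε) * ε := by rw [hEc ε hε a]
      _ = a * a * (ε * ε) := by group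
      _ = a * a := by rw [hsqE ε hε, mul_one]
  -- the coordinate map
  obtain ⟨j, hjdef⟩ : ∃ j : V4 → T ⧸ E, ∀ v, j v = (QuotientGroup.mk' E) (wd x y z w v) :=
    ⟨_, fun _ => rfl⟩
  have hjadd : ∀ v v' : V4, j (v + v') = j v * j v' := by
    intro v v'
    rw [hjdef, hjdef, hjdef, map_wd, map_wd, map_wd]
    exact wd_add hQab (hQsq _) (hQsq _) (hQsq _) (hQsq _) v v'
  have hj0 : ∀ v : V4, j v = 1 → v = 0 := by
    intro v hv
    rw [hjdef] at hv
    exact hind v ((QuotientGroup.eq_one_iff _).mp hv)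
  have hVchar : ∀ v v' : V4, v + v' = 0 → v = v' := by decide
  have hjinj : Function.Injective j := by
    intro v v' hvv'
    apply hVchar
    apply hj0
    rw [hjadd, hvv', hQsq]
  have hjbij : Function.Bijective j :=
    hjinj.bijective_of_nat_card_le (by rw [card_V4]; exact hcard)
  obtain ⟨jb, hjb⟩ : ∃ jb : V4 ≃ T ⧸ E, ∀ v, jb v = j v := ⟨Equiv.ofBijective j hjbij, fun _ => rfl⟩
  -- the maps to `F₂⁴`
  obtain ⟨aG, haG⟩ : ∃ aG : H3 → V4,
      ∀ g, aG g = ((co g.a).1, (co g.a).2, (co g.b).1, (co g.b).2) := ⟨_, fun _ => rfl⟩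
  obtain ⟨b, hb⟩ : ∃ b : T → V4, ∀ t, b t = jb.symm (t : T ⧸ E) := ⟨_, fun _ => rfl⟩
  have hbj : ∀ t : T, j (b t) = (t : T ⧸ E) := by
    intro t
    rw [← hjb, hb, Equiv.apply_symm_apply]
  have hbeq : ∀ (t : T) (v : V4), j v = (t : T ⧸ E) → b t = v := by
    intro t v hv
    apply hjinj
    rw [hbj, hv]
  have hbE : ∀ t : T, b t = 0 ↔ t ∈ E := by
    intro t
    constructor
    · intro h0
      have h1 := hbj t
      rw [h0, hjdef] at h1
      have h2 : wd x y z w (0 : V4) = 1 := by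
        simp [wd, pw]
      rw [h2] at h1
      exact (QuotientGroup.eq_one_iff t).mp h1.symm
    · intro ht
      apply hbeq
      rw [hjdef]
      have h2 : wd x y z w (0 : V4) = 1 := by
        simp [wd, pw]
      rw [h2]
      exact ((QuotientGroup.eq_one_iff t).mpr ht).symm
  -- the map from the centre of the model
  let γ : ↥H3.EP →* T :=
    { toFun := fun g => pw e (co g.1.c).1 * pw (ψ (ψ e)) (co g.1.c).2
      map_one' := by
        show pw e (co (1 : H3).c).1 * pw (ψ (ψ e)) (co (1 : H3).c).2 = 1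
        rw [H3.one_c, co_zero]
        show pw e 0 * pw (ψ (ψ e)) 0 = 1
        rw [pw_zero, pw_zero, mul_one]
      map_mul' := by
        intro g g'
        obtain ⟨g1, g2⟩ := g.2
        obtain ⟨g1', g2'⟩ := g'.2
        show pw e (co (g.1 * g'.1).c).1 * pw (ψ (ψ e)) (co (g.1 * g'.1).c).2 =
          pw e (co g.1.c).1 * pw (ψ (ψ e)) (co g.1.c).2 *
            (pw e (co g'.1.c).1 * pw (ψ (ψ e)) (co g'.1.c).2)
        have hc : (g.1 * g'.1).c = g.1.c + g'.1.c := by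
          rw [H3.mul_c, g1, zero_mul, add_zero]
        rw [hc, co_add, Prod.fst_add, Prod.snd_add, pw_add tab.s0, pw_add tab.s2]
        exact Commute.mul_mul_mul_comm
          (show Commute (pw e (co g'.1.c).1) (pw (ψ (ψ e)) (co g.1.c).2) from
            hEc _ (pw_mem E tab.he _) _) _ _ }
  have hγ : ∀ g : ↥H3.EP, γ g = pw e (co g.1.c).1 * pw (ψ (ψ e)) (co g.1.c).2 := fun _ => rfl
  have hγE : ∀ g : ↥H3.EP, γ g ∈ E := fun g =>
    E.mul_mem (pw_mem E tab.he _) (pw_mem E tab.he₂ _)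
  have hγinj : Function.Injective γ := by
    rw [injective_iff_map_eq_one]
    intro g hg
    rw [hγ] at hg
    obtain ⟨h1, h2⟩ := gam2 tab _ _ hg
    obtain ⟨g1, g2⟩ := g.2
    have hc0 : g.1.c = 0 := co_eq_zero _ (Prod.ext h1 h2)
    exact Subtype.ext (H3.ext g1 g2 hc0)
  refine Cfsg.Agent.Lib.Helper60.iso_of_square_data aG b ?_ ?_ ?_ ?_ H3.EP ?_ H3.EP_le_center γ
    hγinj ?_ (fun g => hcen (hγE g)) ?_
  · -- aG additive
    intro p q
    rw [haG, haG, haG, H3.mul_a, H3.mul_b, co_add, co_add]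
    rfl
  · -- b additive
    intro s t
    apply hbeq
    rw [hjadd, hbj, hbj]
    rfl
  · -- aG surjective
    intro v
    obtain ⟨α, hα⟩ := co_surj (v.1, v.2.1)
    obtain ⟨β, hβ⟩ := co_surj (v.2.2.1, v.2.2.2)
    refine ⟨⟨α, β, 0⟩, ?_⟩
    rw [haG]
    show ((co α).1, (co α).2, (co β).1, (co β).2) = v
    rw [hα, hβ]
  · -- b surjective
    intro v
    exact ⟨wd x y z w v, hbeq _ _ (hjdef v)⟩
  · -- kernel of aG
    intro g
    rw [haG, H3.mem_EP]
    constructor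
    · intro h0
      have h1 := congrArg Prod.fst h0
      have h2 := congrArg (fun v : V4 => v.2.1) h0
      have h3 := congrArg (fun v : V4 => v.2.2.1) h0
      have h4 := congrArg (fun v : V4 => v.2.2.2) h0
      exact ⟨co_eq_zero _ (Prod.ext h1 h2), co_eq_zero _ (Prod.ext h3 h4)⟩
    · rintro ⟨h1, h2⟩
      rw [h1, h2, co_zero]
      rfl
  · -- kernel of b
    intro t
    rw [hbE]
    constructor
    · intro ht
      rcases tab.all t ht with h0 | h0 | h0 | h0
      · exact ⟨1, by rw [h0]; exact map_one γ⟩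
      · refine ⟨⟨⟨0, 0, 1⟩, ⟨rfl, rfl⟩⟩, ?_⟩
        rw [hγ, h0]
        show pw e 1 * pw (ψ (ψ e)) 0 = e
        rw [pw_one, pw_zero, mul_one]
      · refine ⟨⟨⟨0, 0, F4.v⟩, ⟨rfl, rfl⟩⟩, ?_⟩
        rw [hγ, h0]
        show pw e 1 * pw (ψ (ψ e)) 1 = ψ e
        rw [pw_one, pw_one, tab.m02]
      · refine ⟨⟨⟨0, 0, F4.w⟩, ⟨rfl, rfl⟩⟩, ?_⟩
        rw [hγ, h0]
        show pw e 0 * pw (ψ (ψ e)) 1 = ψ (ψ e)
        rw [pw_one, pw_zero, one_mul]
    · rintro ⟨g, rfl⟩
      exact hγE g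
  · -- squares
    intro g t hgt
    have h1 : j (aG g) = (t : T ⧸ E) := by
      rw [hgt, hbj]
    rw [hjdef] at h1
    have h2 : (wd x y z w (aG g))⁻¹ * t ∈ E := QuotientGroup.eq.mp h1
    obtain ⟨ε, hε⟩ : ∃ ε, ε = (wd x y z w (aG g))⁻¹ * t := ⟨_, rfl⟩
    have hεE : ε ∈ E := hε ▸ h2
    have ht : t = wd x y z w (aG g) * ε := by
      rw [hε]
      group
    have hmem : g * g ∈ H3.EP := ⟨F4_add_self _, F4_add_self _⟩
    refine ⟨hmem, ?_⟩
    rw [ht, hsqmul ε hεE, hγ]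
    have hc : (g * g).c = g.a * g.b := by
      rw [H3.mul_c, F4_add_self, zero_add]
    show pw e (co (g * g).c).1 * pw (ψ (ψ e)) (co (g * g).c).2 = _
    rw [hc, haG, co_mul]
    exact (hF _ _ _ _).symm

section S64

variable {T : Type u} [Group T] {ψ : T →* T}

/-- Standard generators. -/
theorem std_gens (h : F64 T ψ) {u : T} (hu : u ∉ Subgroup.center T) (hu2 : u * u = 1) :
    ∃ e z : T, ETab (Subgroup.center T) ψ e (ψ e) (ψ (ψ e)) ∧ z * z = 1 ∧ ⁅z, u⁆ = e := by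
  obtain ⟨y₀, hy₀⟩ : ∃ y₀ : T, ⁅y₀, u⁆ ≠ 1 := by
    by_contra hall
    push Not at hall
    apply hu
    rw [Subgroup.mem_center_iff]
    intro g
    exact commutatorElement_eq_one_iff_mul_comm.mp (hall g)
  have he := comm_mem h y₀ u
  have tab := etab h he hy₀
  obtain ⟨e, hedef⟩ : ∃ e, e = ⁅y₀, u⁆ := ⟨_, rfl⟩
  rw [← hedef] at tab he hy₀
  have hs := sq_mem h y₀
  have c1 : ⁅u, y₀⁆ = e := by rw [comm_symm h y₀ u, ← hedef]
  have c2 : ⁅ψ u, y₀⁆ = ψ (ψ e) := by rw [twist_left h, c1]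
  have hψu2 : ψ u * ψ u = 1 := by rw [← map_mul, hu2, map_one]
  have huψu : (u * ψ u) * (u * ψ u) = 1 := by
    rw [sqm h, comm_self_psi h, hu2, hψu2, one_mul, one_mul]
  refine ⟨e, ?_⟩
  rcases tab.all _ hs with h0 | h0 | h0 | h0
  · exact ⟨y₀, tab, h0, hedef.symm⟩
  · refine ⟨y₀ * u, tab, ?_, ?_⟩
    · rw [sqm h, c1, h0, hu2, mul_one]
      exact tab.s0
    · rw [cml h, ← hedef, commutatorElement_self, mul_one]
  · refine ⟨y₀ * (u * ψ u), tab, ?_, ?_⟩
    · rw [sqm h, cml h, c1, c2, h0, huψu, mul_one, tab.m02]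
      exact tab.s1
    · rw [cml h, cml h, ← hedef, commutatorElement_self, comm_self_psi h, mul_one, mul_one]
  · refine ⟨y₀ * ψ u, tab, ?_, ?_⟩
    · rw [sqm h, c2, h0, hψu2, mul_one]
      exact tab.s2
    · rw [cml h, ← hedef, comm_self_psi h, mul_one]

theorem sq4 (h : F64 T ψ) (X Y Z W : T) :
    (X * Y * Z * W) * (X * Y * Z * W) =
      ⁅W, X⁆ * ⁅W, Y⁆ * ⁅W, Z⁆ * ⁅Z, X⁆ * ⁅Z, Y⁆ * ⁅Y, X⁆ * (X * X) * (Y * Y) * (Z * Z) *
        (W * W) := by
  rw [sqm h (X * Y * Z) W, sqm h (X * Y) Z, sqm h X Y, cmr h W (X * Y) Z, cmr h W X Y,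
    cmr h Z X Y]
  simp only [mul_assoc]

theorem sq_formula (h : F64 T ψ) {e x z : T}
    (tab : ETab (Subgroup.center T) ψ e (ψ e) (ψ (ψ e)))
    (hx : x * x = 1) (hz : z * z = 1) (hzx : ⁅z, x⁆ = e) (a b c d : ZMod 2) :
    (pw x a * pw (ψ x) b * pw z c * pw (ψ z) d) * (pw x a * pw (ψ x) b * pw z c * pw (ψ z) d) =
      pw e (a * c + b * d) * pw (ψ (ψ e)) (a * d + b * c + b * d) := by
  have hy : ψ x * ψ x = 1 := by rw [← map_mul, hx, map_one]
  have hw : ψ z * ψ z = 1 := by rw [← map_mul, hz, map_one]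
  have hyx : ⁅ψ x, x⁆ = 1 := comm_self_psi h x
  have hzy : ⁅z, ψ x⁆ = ψ (ψ e) := by rw [twist_right h, hzx]
  have hwx : ⁅ψ z, x⁆ = ψ (ψ e) := by rw [twist_left h, hzx]
  have hwy : ⁅ψ z, ψ x⁆ = ψ e := by rw [comm_psi_psi h, hzx]
  have hwz : ⁅ψ z, z⁆ = 1 := comm_self_psi h z
  rw [sq4 h]
  rcases zmod2_cases a with rfl | rfl <;> rcases zmod2_cases b with rfl | rfl <;>
    rcases zmod2_cases c with rfl | rfl <;> rcases zmod2_cases d with rfl | rfl <;>
    simp +decide [pw, hx, hy, hz, hw, hyx, hzx, hzy, hwx, hwy, hwz, tab.m01, tab.m10,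
      tab.m02, tab.m20, tab.m12, tab.m21, tab.s0, tab.s1, tab.s2]

theorem comm_pw (g m : T) (a : ZMod 2) : ⁅pw g a, m⁆ = pw ⁅g, m⁆ a := by
  rcases zmod2_cases a with rfl | rfl <;> simp +decide [pw]

theorem indep (h : F64 T ψ) {e x z : T} (tab : ETab (Subgroup.center T) ψ e (ψ e) (ψ (ψ e)))
    (hzx : ⁅z, x⁆ = e) (v : V4) (hv : wd x (ψ x) z (ψ z) v ∈ Subgroup.center T) : v = 0 := by
  have hX : ⁅wd x (ψ x) z (ψ z) v, x⁆ = 1 := cEl h hv x
  have hZ : ⁅wd x (ψ x) z (ψ z) v, z⁆ = 1 := cEl h hv z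
  unfold wd at hX hZ
  rw [cml h, cml h, cml h, comm_pw, comm_pw, comm_pw, comm_pw, commutatorElement_self,
    comm_self_psi h x, hzx, twist_left h z x, hzx, pw_id, pw_id, one_mul, one_mul] at hX
  rw [cml h, cml h, cml h, comm_pw, comm_pw, comm_pw, comm_pw, commutatorElement_self,
    comm_self_psi h z, twist_left h x z, comm_symm h z x, hzx, pw_id, pw_id, mul_one,
    mul_one] at hZ
  obtain ⟨h1, h2⟩ := gam2 tab _ _ hX
  obtain ⟨h3, h4⟩ := gam2 tab _ _ hZ
  exact Prod.ext h3 (Prod.ext h4 (Prod.ext h1 h2))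

/-- With a non-central involution, the group is the Heisenberg group over the field of order
four. -/
theorem model_iso (h : F64 T ψ) {u : T} (hu : u ∉ Subgroup.center T) (hu2 : u * u = 1) :
    Nonempty (H3 ≃* T) := by
  obtain ⟨e, z, tab, hzz, hzx⟩ := std_gens h hu hu2
  haveI := h.base.fin
  have hcard : Nat.card (T ⧸ Subgroup.center T) ≤ 16 := by
    have h1 := Subgroup.card_eq_card_quotient_mul_card_subgroup (Subgroup.center T)
    rw [cardZ h, h.card] at h1
    omega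
  exact iso_core (Subgroup.center T) tab le_rfl (sqZ h) (sq_mem h) (comm_mem h) hcard
    (sq_formula h tab hu2 hzz hzx) (fun v hv => indep h tab hzx v hv)

end S64

end Cfsg.Agent.Lib.Helper28.L3
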