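import Mathlib
import Cfsg.Agent.Lib.Helper28.L3Model
import Cfsg.Agent.Lib.Helper6.PSLCard

set_option autoImplicit false
set_option linter.unusedSectionVars false
set_option linter.style.haveILetI false
set_option linter.unusedSimpArgs false
set_option linter.unusedVariables false

/-! The Heisenberg group over the field of order four is a Sylow 2-subgroup of `PSL₃(4)`
(helper28). -/

namespace Cfsg.Agent.Lib.Helper28.L3

open Cfsg.Agent.Lib.Helper38 (F4)

/-- The unitriangular matrix of an element of the Heisenberg group. -/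
def umat (g : H3) : Matrix (Fin 3) (Fin 3) F4 := !![1, g.a, g.c; 0, 1, g.b; 0, 0, 1]

theorem umat_det (g : H3) : (umat g).det = 1 := by
  simp [umat, Matrix.det_fin_three]

theorem umat_mul (g k : H3) : umat (g * k) = umat g * umat k := by
  ext i j
  fin_cases i <;> fin_cases j <;>
    simp [umat, Matrix.mul_apply, Fin.sum_univ_three] <;> ring

theorem umat_one : umat 1 = 1 := by
  ext i j
  fin_cases i <;> fin_cases j <;> simp [umat]

/-- The embedding into the special linear group. -/
def toSL : H3 →* Matrix.SpecialLinearGroup (Fin 3) F4 where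
  toFun g := ⟨umat g, umat_det g⟩
  map_one' := Subtype.ext umat_one
  map_mul' g k := Subtype.ext (umat_mul g k)

/-- The embedding into the projective special linear group. -/
def toPSL : H3 →* Matrix.ProjectiveSpecialLinearGroup (Fin 3) F4 :=
  (QuotientGroup.mk' (Subgroup.center (Matrix.SpecialLinearGroup (Fin 3) F4))).comp toSL

theorem toPSL_inj : Function.Injective toPSL := by
  rw [injective_iff_map_eq_one]
  intro g hg
  have h1 : toSL g ∈ Subgroup.center (Matrix.SpecialLinearGroup (Fin 3) F4) :=
    (QuotientGroup.eq_one_iff _).mp hg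
  rw [Matrix.SpecialLinearGroup.mem_center_iff] at h1
  obtain ⟨r, -, hr⟩ := h1
  have hr' : Matrix.scalar (Fin 3) r = umat g := hr
  have e01 := congrFun (congrFun hr' 0) 1
  have e12 := congrFun (congrFun hr' 1) 2
  have e02 := congrFun (congrFun hr' 0) 2
  simp [umat] at e01 e12 e02
  exact H3.ext e01.symm e12.symm e02.symm

theorem card_PSL : Nat.card (Matrix.ProjectiveSpecialLinearGroup (Fin 3) F4) = 20160 := by
  have h := Cfsg.Agent.Lib.Helper6.card_psl (F := F4) (q := 4) F4.card 3 (by norm_num)
  have hprod : ∏ i : Fin 3, (4 ^ 3 - 4 ^ (i : ℕ)) = 181440 := by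
    simp [Fin.prod_univ_three]
  have hg : Nat.gcd 3 (4 - 1) = 3 := by norm_num
  rw [hprod, hg] at h
  omega

/-- The Heisenberg group over the field of order four is a Sylow 2-subgroup of `PSL₃(4)`. -/
theorem exists_sylow : ∃ (F : Type) (_ : Field F) (_ : Fintype F), Fintype.card F = 4 ∧
    ∃ S : Sylow 2 (Matrix.ProjectiveSpecialLinearGroup (Fin 3) F),
      Nonempty (H3 ≃* ↥(S : Subgroup (Matrix.ProjectiveSpecialLinearGroup (Fin 3) F))) := by
  refine ⟨F4, inferInstance, inferInstance, F4.card, ?_⟩
  haveI : Fact (Nat.Prime 2) := ⟨Nat.prime_two⟩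
  haveI : Finite (Matrix.ProjectiveSpecialLinearGroup (Fin 3) F4) :=
    Nat.finite_of_card_ne_zero (by rw [card_PSL]; norm_num)
  have hR : Nat.card toPSL.range = 64 := by
    rw [← Nat.card_congr (MonoidHom.ofInjective toPSL_inj).toEquiv, H3.card]
  have hp : IsPGroup 2 toPSL.range := IsPGroup.of_card (n := 6) (by rw [hR]; norm_num)
  obtain ⟨S, hS⟩ := hp.exists_le_sylow
  obtain ⟨n, hn⟩ := IsPGroup.iff_card.mp S.isPGroup'
  have hdvd : Nat.card S ∣ 20160 := by
    rw [← card_PSL]
    exact Subgroup.card_subgroup_dvd_card _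
  have hle : 64 ∣ Nat.card S := by
    rw [← hR]
    exact Subgroup.card_dvd_of_le hS
  have hn6 : n ≤ 6 := by
    by_contra hgt
    push Not at hgt
    have h7 : 2 ^ 7 ∣ 2 ^ n := pow_dvd_pow 2 hgt
    rw [← hn] at h7
    have := h7.trans hdvd
    norm_num at this
  have hS64 : Nat.card S = 64 := by
    have h1 : Nat.card S ≤ 64 := by
      rw [hn]
      calc 2 ^ n ≤ 2 ^ 6 := Nat.pow_le_pow_right (by norm_num) hn6
        _ = 64 := by norm_num
    have h2 := Nat.le_of_dvd (by rw [hn]; positivity) hle
    omega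
  have heq : toPSL.range = (S : Subgroup _) :=
    Subgroup.eq_of_le_of_card_ge hS (by rw [hS64, hR])
  exact ⟨S, ⟨(MonoidHom.ofInjective toPSL_inj).trans (MulEquiv.subgroupCongr heq)⟩⟩

end Cfsg.Agent.Lib.Helper28.L3
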