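import Mathlib
import Cfsg.Agent.Lib.Helper28.L3Model
import Cfsg.Agent.Lib.Helper28.R2Model

set_option autoImplicit false
set_option linter.unusedSectionVars false
set_option linter.style.haveILetI false
set_option linter.unusedSimpArgs false
set_option linter.unusedVariables false

/-! 2-groups with a fixed-point-free automorphism of order three commuting with an involutory
automorphism whose fixed points form a central four-group (helper28). -/

namespace Cfsg.Agent.Lib.Helper28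

/-- A finite 2-group `T` with a fixed-point-free endomorphism `ψ` of order three and an
involutory endomorphism `τ` commuting with `ψ`, whose fixed points form a central
four-group `V`. -/
structure Sys (T : Type*) [Group T] (ψ τ : T →* T) (V : Subgroup T) : Prop where
  base : F3 T ψ
  pg : IsPGroup 2 T
  invol : ∀ t, τ (τ t) = t
  comm : ∀ t, τ (ψ t) = ψ (τ t)
  fix : ∀ t, t ∈ V ↔ τ t = t
  cen : V ≤ Subgroup.center T
  card : Nat.card V = 4
  sq : ∀ v ∈ V, v * v = 1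

namespace L3

open scoped commutatorElement
open Cfsg.Agent.Lib.Helper28.R2

universe u

/-- Fixed points of an involutory self-map on an invariant finite set, modulo 2. -/
theorem card_fix_mod2 {α : Type*} [DecidableEq α] (g : α → α) (hg : ∀ x, g (g x) = x)
    (X : Finset α) (hX : ∀ x ∈ X, g x ∈ X) :
    X.card % 2 = (X.filter (fun x => g x = x)).card % 2 := by
  haveI : Fact (Nat.Prime 2) := ⟨Nat.prime_two⟩
  let f : Function.End ↥X := fun x => ⟨g x.1, hX x.1 x.2⟩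
  have hpow : f ^ 2 ^ 1 = 1 := by
    funext x
    apply Subtype.ext
    rw [pow_one, pow_two]
    show g (g x.1) = x.1
    exact hg _
  have h := Equiv.Perm.card_fixedPoints_modEq (f := f) (p := 2) (n := 1) hpow
  have h1 : Fintype.card ↥X = X.card := Fintype.card_coe X
  have h2 : Fintype.card ↥(Function.fixedPoints f) = (X.filter (fun x => g x = x)).card := by
    rw [← Nat.card_eq_fintype_card]
    have e : ↥(Function.fixedPoints f) ≃ ↥(X.filter (fun x => g x = x)) :=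
      { toFun := fun y => ⟨y.1.1, Finset.mem_filter.mpr ⟨y.1.2, congrArg Subtype.val y.2⟩⟩
        invFun := fun z => ⟨⟨z.1, (Finset.mem_filter.mp z.2).1⟩,
          Subtype.ext (Finset.mem_filter.mp z.2).2⟩
        left_inv := fun y => rfl
        right_inv := fun z => rfl }
    rw [Nat.card_congr e, Nat.card_eq_fintype_card, Fintype.card_coe]
  have h' : Fintype.card ↥X % 2 = Fintype.card ↥(Function.fixedPoints f) % 2 := h
  rw [h1, h2] at h'
  exact h'

/-- An involutory automorphism of a 2-group has a non-trivial fixed point in every non-trivial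
invariant subgroup. -/
theorem fixed_ne_one {G : Type*} [Group G] [Finite G] (hp : IsPGroup 2 G) (σ : G →* G)
    (hσ : ∀ g, σ (σ g) = g) (Z : Subgroup G) (hZσ : ∀ z ∈ Z, σ z ∈ Z) (hZ : Z ≠ ⊥) :
    ∃ z ∈ Z, z ≠ 1 ∧ σ z = z := by
  classical
  haveI : Fintype G := Fintype.ofFinite G
  haveI : Fact (Nat.Prime 2) := ⟨Nat.prime_two⟩
  have key := card_fix_mod2 (fun g => σ g) hσ (Finset.univ.filter (· ∈ Z)) (by
    intro x hx
    simp only [Finset.mem_filter, Finset.mem_univ, true_and] at hx ⊢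
    exact hZσ x hx)
  have h1 : (Finset.univ.filter (· ∈ Z)).card = Nat.card Z := by
    rw [Nat.card_eq_fintype_card, Fintype.card_subtype]
  obtain ⟨k, hk⟩ := IsPGroup.iff_card.mp (hp.to_subgroup Z)
  have hk0 : k ≠ 0 := by
    intro h0
    rw [h0, pow_zero] at hk
    exact hZ (Subgroup.card_eq_one.mp hk)
  have heven : Nat.card Z % 2 = 0 := by
    obtain ⟨k', rfl⟩ := Nat.exists_eq_succ_of_ne_zero hk0
    rw [hk, pow_succ]
    omega
  rw [h1, heven] at key
  have hone : (1 : G) ∈ (Finset.univ.filter (· ∈ Z)).filter (fun x => σ x = x) := by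
    simp only [Finset.mem_filter, Finset.mem_univ, true_and]
    exact ⟨Z.one_mem, map_one σ⟩
  have hcard : 1 < ((Finset.univ.filter (· ∈ Z)).filter (fun x => σ x = x)).card := by
    have hpos : 0 < ((Finset.univ.filter (· ∈ Z)).filter (fun x => σ x = x)).card :=
      Finset.card_pos.mpr ⟨1, hone⟩
    omega
  obtain ⟨a, ha, b, hb, hab⟩ := Finset.one_lt_card.mp hcard
  simp only [Finset.mem_filter, Finset.mem_univ, true_and] at ha hb
  by_cases ha1 : a = 1
  · refine ⟨b, hb.1, ?_, hb.2⟩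
    intro hb1
    exact hab (ha1.trans hb1.symm)
  · exact ⟨a, ha.1, ha1, ha.2⟩

/-- The elements moved by `τ` only by an element of the central subgroup `V`. -/
def Ws {T : Type u} [Group T] (τ : T →* T) (V : Subgroup T) (hV : V ≤ Subgroup.center T) :
    Subgroup T where
  carrier := {w | w⁻¹ * τ w ∈ V}
  mul_mem' := by
    intro a b ha hb
    have ha' : a⁻¹ * τ a ∈ V := ha
    have hb' : b⁻¹ * τ b ∈ V := hb
    show (a * b)⁻¹ * τ (a * b) ∈ V
    have e : (a * b)⁻¹ * τ (a * b) = (a⁻¹ * τ a) * (b⁻¹ * τ b) := by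
      rw [map_mul]
      have := Subgroup.mem_center_iff.mp (hV ha') b⁻¹
      calc (a * b)⁻¹ * (τ a * τ b) = b⁻¹ * (a⁻¹ * τ a) * τ b := by group
        _ = (a⁻¹ * τ a) * b⁻¹ * τ b := by rw [this]
        _ = _ := by group
    rw [e]
    exact V.mul_mem ha' hb'
  one_mem' := by
    show (1 : T)⁻¹ * τ 1 ∈ V
    rw [map_one, inv_one, mul_one]
    exact V.one_mem
  inv_mem' := by
    intro a ha
    have ha' : a⁻¹ * τ a ∈ V := ha
    show (a⁻¹)⁻¹ * τ a⁻¹ ∈ V
    have e : (a⁻¹)⁻¹ * τ a⁻¹ = (a⁻¹ * τ a)⁻¹ := by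
      rw [map_inv]
      have := Subgroup.mem_center_iff.mp (hV (V.inv_mem ha')) a
      calc (a⁻¹)⁻¹ * (τ a)⁻¹ = a * (a⁻¹ * τ a)⁻¹ * a⁻¹ := by group
        _ = (a⁻¹ * τ a)⁻¹ * a * a⁻¹ := by rw [this]
        _ = _ := by group
    rw [e]
    exact V.inv_mem ha'

section SysSec

variable {T : Type u} [Group T] {ψ τ : T →* T} {V : Subgroup T}

theorem mem_Ws {hV : V ≤ Subgroup.center T} {w : T} : w ∈ Ws τ V hV ↔ w⁻¹ * τ w ∈ V := Iff.rfl

theorem Vcomm (h : Sys T ψ τ V) {v : T} (hv : v ∈ V) (t : T) : v * t = t * v :=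
  (Subgroup.mem_center_iff.mp (h.cen hv) t).symm

theorem V_inv (h : Sys T ψ τ V) {v : T} (hv : v ∈ V) : v⁻¹ = v :=
  inv_eq_of_mul_eq_one_left (h.sq v hv)

theorem psi_V (h : Sys T ψ τ V) {v : T} (hv : v ∈ V) : ψ v ∈ V := by
  rw [h.fix] at hv ⊢
  rw [h.comm, hv]

theorem V_normal (h : Sys T ψ τ V) : V.Normal := ⟨fun n hn g => by
  have := Vcomm h hn g
  have e : g * n * g⁻¹ = n := by rw [← this]; group
  rw [e]
  exact hn⟩

theorem V_le_Ws (h : Sys T ψ τ V) : V ≤ Ws τ V h.cen := by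
  intro v hv
  rw [mem_Ws, (h.fix v).mp hv, inv_mul_cancel]
  exact V.one_mem

theorem Ws_psi (h : Sys T ψ τ V) : ∀ w ∈ Ws τ V h.cen, ψ w ∈ Ws τ V h.cen := by
  intro w hw
  rw [mem_Ws] at hw ⊢
  have e : (ψ w)⁻¹ * τ (ψ w) = ψ (w⁻¹ * τ w) := by rw [map_mul, map_inv, h.comm]
  rw [e]
  exact psi_V h hw

theorem Ws_tau (h : Sys T ψ τ V) : ∀ w ∈ Ws τ V h.cen, τ w ∈ Ws τ V h.cen := by
  intro w hw
  rw [mem_Ws] at hw ⊢
  have e : (τ w)⁻¹ * τ (τ w) = (w⁻¹ * τ w)⁻¹ := by rw [h.invol]; group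
  rw [e]
  exact V.inv_mem hw

theorem K_inv (h : Sys T ψ τ V) (y : T) : τ (y⁻¹ * τ y) = (y⁻¹ * τ y)⁻¹ := by
  rw [map_mul, map_inv, h.invol]
  group

theorem fiber (h : Sys T ψ τ V) {a b : T} (hab : a⁻¹ * τ a = b⁻¹ * τ b) : a * b⁻¹ ∈ V := by
  rw [h.fix, map_mul, map_inv]
  have : τ a = a * (b⁻¹ * τ b) := by rw [← hab]; group
  rw [this]
  group

theorem Ws_struct (h : Sys T ψ τ V) {w₀ : T} (hw₀ : w₀ ∈ Ws τ V h.cen) (hw₀V : w₀ ∉ V) :
    ∀ w ∈ Ws τ V h.cen, ∃ v ∈ V, w = v ∨ w = v * w₀ ∨ w = v * ψ w₀ ∨ w = v * ψ (ψ w₀) := by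
  haveI := h.base.fin
  have ha : w₀⁻¹ * τ w₀ ∈ V := hw₀
  have ha1 : w₀⁻¹ * τ w₀ ≠ 1 := by
    intro h0
    apply hw₀V
    rw [h.fix]
    exact (inv_mul_eq_one.mp h0).symm
  have tab := etab' (inj h.base) h.sq (le_of_eq h.card) (fun e he t => Vcomm h he t)
    (fun e he => psi_V h he) (fun e _ hfix => h.base.fpf e hfix) ha ha1
  have e1 : ψ (w₀⁻¹ * τ w₀) = (ψ w₀)⁻¹ * τ (ψ w₀) := by rw [map_mul, map_inv, h.comm]
  have e2 : ψ (ψ (w₀⁻¹ * τ w₀)) = (ψ (ψ w₀))⁻¹ * τ (ψ (ψ w₀)) := by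
    rw [e1, map_mul, map_inv, ← h.comm (ψ w₀)]
  intro w hw
  have hb : w⁻¹ * τ w ∈ V := hw
  rcases tab.all _ hb with h0 | h0 | h0 | h0
  · refine ⟨w, ?_, Or.inl rfl⟩
    rw [h.fix]
    exact (inv_mul_eq_one.mp h0).symm
  · exact ⟨w * w₀⁻¹, fiber h h0, Or.inr (Or.inl (by group))⟩
  · exact ⟨w * (ψ w₀)⁻¹, fiber h (h0.trans e1), Or.inr (Or.inr (Or.inl (by group)))⟩
  · exact ⟨w * (ψ (ψ w₀))⁻¹, fiber h (h0.trans e2), Or.inr (Or.inr (Or.inr (by group)))⟩

theorem Ws_card_le (h : Sys T ψ τ V) : Nat.card (Ws τ V h.cen) ≤ 16 := by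
  classical
  haveI := h.base.fin
  haveI : Fintype T := Fintype.ofFinite T
  have hW : (Finset.univ.filter (· ∈ Ws τ V h.cen)).card = Nat.card (Ws τ V h.cen) := by
    rw [Nat.card_eq_fintype_card, Fintype.card_subtype]
  have hVc : (Finset.univ.filter (· ∈ V)).card = 4 := by
    rw [← h.card, Nat.card_eq_fintype_card, Fintype.card_subtype]
  by_cases hall : ∀ w ∈ Ws τ V h.cen, w ∈ V
  · have hsub : (Finset.univ.filter (· ∈ Ws τ V h.cen)) ⊆ (Finset.univ.filter (· ∈ V)) := by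
      intro w hw
      simp only [Finset.mem_filter, Finset.mem_univ, true_and] at hw ⊢
      exact hall w hw
    have := Finset.card_le_card hsub
    omega
  · push Not at hall
    obtain ⟨w₀, hw₀, hw₀V⟩ := hall
    have hst := Ws_struct h hw₀ hw₀V
    have hsub : (Finset.univ.filter (· ∈ Ws τ V h.cen)) ⊆
        ((Finset.univ.filter (· ∈ V)) ∪ (Finset.univ.filter (· ∈ V)).image (fun v => v * w₀)) ∪
        ((Finset.univ.filter (· ∈ V)).image (fun v => v * ψ w₀) ∪
          (Finset.univ.filter (· ∈ V)).image (fun v => v * ψ (ψ w₀))) := by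
      intro w hw
      simp only [Finset.mem_filter, Finset.mem_univ, true_and] at hw
      obtain ⟨v, hv, h0 | h0 | h0 | h0⟩ := hst w hw
      · apply Finset.mem_union_left
        apply Finset.mem_union_left
        simp only [Finset.mem_filter, Finset.mem_univ, true_and]
        rw [h0]
        exact hv
      · apply Finset.mem_union_left
        apply Finset.mem_union_right
        exact Finset.mem_image.mpr ⟨v, by simpa using hv, h0.symm⟩
      · apply Finset.mem_union_right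
        apply Finset.mem_union_left
        exact Finset.mem_image.mpr ⟨v, by simpa using hv, h0.symm⟩
      · apply Finset.mem_union_right
        apply Finset.mem_union_right
        exact Finset.mem_image.mpr ⟨v, by simpa using hv, h0.symm⟩
    have c0 := Finset.card_le_card hsub
    have c1 := Finset.card_union_le
      ((Finset.univ.filter (· ∈ V)) ∪ (Finset.univ.filter (· ∈ V)).image (fun v => v * w₀))
      ((Finset.univ.filter (· ∈ V)).image (fun v => v * ψ w₀) ∪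
          (Finset.univ.filter (· ∈ V)).image (fun v => v * ψ (ψ w₀)))
    have c2 := Finset.card_union_le (Finset.univ.filter (· ∈ V))
      ((Finset.univ.filter (· ∈ V)).image (fun v => v * w₀))
    have c3 := Finset.card_union_le ((Finset.univ.filter (· ∈ V)).image (fun v => v * ψ w₀))
      ((Finset.univ.filter (· ∈ V)).image (fun v => v * ψ (ψ w₀)))
    have i1 := Finset.card_image_le (s := Finset.univ.filter (· ∈ V)) (f := fun v => v * w₀)
    have i2 := Finset.card_image_le (s := Finset.univ.filter (· ∈ V)) (f := fun v => v * ψ w₀)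
    have i3 := Finset.card_image_le (s := Finset.univ.filter (· ∈ V))
      (f := fun v => v * ψ (ψ w₀))
    omega

theorem Ws_sq (h : Sys T ψ τ V) (w : T) (hw : w ∈ Ws τ V h.cen) : w * w ∈ V := by
  have ha : w⁻¹ * τ w ∈ V := hw
  rw [h.fix, map_mul]
  have e : τ w = w * (w⁻¹ * τ w) := by group
  rw [e]
  calc w * (w⁻¹ * τ w) * (w * (w⁻¹ * τ w))
      = w * ((w⁻¹ * τ w) * w) * (w⁻¹ * τ w) := by group
    _ = w * (w * (w⁻¹ * τ w)) * (w⁻¹ * τ w) := by rw [Vcomm h ha w]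
    _ = w * w * ((w⁻¹ * τ w) * (w⁻¹ * τ w)) := by group
    _ = w * w := by rw [h.sq _ ha, mul_one]

/-- A `τ`-fixed coset outside a proper `τ`-invariant normal subgroup. -/
theorem exists_fixed_coset (h : Sys T ψ τ V) (N : Subgroup T) [N.Normal]
    (hNτ : ∀ n ∈ N, τ n ∈ N) (hN : N ≠ ⊤) : ∃ y, y ∉ N ∧ y⁻¹ * τ y ∈ N := by
  haveI := h.base.fin
  have hle : N ≤ N.comap τ := fun n hn => hNτ n hn
  obtain ⟨τ', hτ'⟩ : ∃ τ' : T ⧸ N →* T ⧸ N, ∀ y : T, τ' (y : T ⧸ N) = ((τ y : T) : T ⧸ N) :=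
    ⟨QuotientGroup.map N N τ hle, fun y => QuotientGroup.map_mk N N τ hle y⟩
  have hinvol : ∀ q, τ' (τ' q) = q := by
    intro q
    obtain ⟨y, rfl⟩ := QuotientGroup.mk_surjective q
    rw [hτ', hτ', h.invol]
  have hnt : (⊤ : Subgroup (T ⧸ N)) ≠ ⊥ := by
    intro h0
    apply hN
    rw [eq_top_iff]
    intro y _
    have h1 : (y : T ⧸ N) ∈ (⊤ : Subgroup (T ⧸ N)) := Subgroup.mem_top _
    rw [h0, Subgroup.mem_bot] at h1
    exact (QuotientGroup.eq_one_iff y).mp h1
  obtain ⟨q, -, hq1, hqfix⟩ := fixed_ne_one (h.pg.to_quotient N) τ' hinvol ⊤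
    (fun _ _ => Subgroup.mem_top _) hnt
  obtain ⟨y, rfl⟩ := QuotientGroup.mk_surjective q
  refine ⟨y, fun hy => hq1 ((QuotientGroup.eq_one_iff y).mpr hy), ?_⟩
  rw [hτ'] at hqfix
  exact QuotientGroup.eq.mp hqfix.symm

/-- The quotient by `V` is again a system. -/
theorem quot_sys (h : Sys T ψ τ V) [V.Normal] (hne : V ≠ ⊤) :
    ∃ (ψ' τ' : T ⧸ V →* T ⧸ V) (V' : Subgroup (T ⧸ V)), Sys (T ⧸ V) ψ' τ' V' ∧
      (∀ y : T, ψ' (y : T ⧸ V) = ((ψ y : T) : T ⧸ V)) ∧
      (∀ y : T, τ' (y : T ⧸ V) = ((τ y : T) : T ⧸ V)) ∧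
      (∀ y : T, (y : T ⧸ V) ∈ V' ↔ y ∈ Ws τ V h.cen) := by
  classical
  haveI := h.base.fin
  haveI : Fact (Nat.Prime 2) := ⟨Nat.prime_two⟩
  have hVψ : V ≤ V.comap ψ := fun v hv => psi_V h hv
  have hVτ : V ≤ V.comap τ := fun v hv => by
    show τ v ∈ V
    rw [(h.fix v).mp hv]
    exact hv
  obtain ⟨ψ', hψ'⟩ : ∃ ψ' : T ⧸ V →* T ⧸ V, ∀ y : T, ψ' (y : T ⧸ V) = ((ψ y : T) : T ⧸ V) :=
    ⟨QuotientGroup.map V V ψ hVψ, fun y => QuotientGroup.map_mk V V ψ hVψ y⟩
  obtain ⟨τ', hτ'⟩ : ∃ τ' : T ⧸ V →* T ⧸ V, ∀ y : T, τ' (y : T ⧸ V) = ((τ y : T) : T ⧸ V) :=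
    ⟨QuotientGroup.map V V τ hVτ, fun y => QuotientGroup.map_mk V V τ hVτ y⟩
  let V' : Subgroup (T ⧸ V) :=
    { carrier := {q | τ' q = q}
      mul_mem' := by
        intro a b ha hb
        have ha' : τ' a = a := ha
        have hb' : τ' b = b := hb
        show τ' (a * b) = a * b
        rw [map_mul, ha', hb']
      one_mem' := map_one τ'
      inv_mem' := by
        intro a ha
        have ha' : τ' a = a := ha
        show τ' a⁻¹ = a⁻¹
        rw [map_inv, ha'] }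
  have hV'mem : ∀ q, q ∈ V' ↔ τ' q = q := fun q => Iff.rfl
  have hV'W : ∀ y : T, (y : T ⧸ V) ∈ V' ↔ y ∈ Ws τ V h.cen := by
    intro y
    rw [hV'mem, hτ', mem_Ws]
    constructor
    · intro h1
      exact QuotientGroup.eq.mp h1.symm
    · intro h1
      exact (QuotientGroup.eq.mpr h1).symm
  have hbase : F3 (T ⧸ V) ψ' := by
    refine ⟨inferInstance, ?_, ?_⟩
    · intro q
      obtain ⟨y, rfl⟩ := QuotientGroup.mk_surjective q
      rw [hψ', hψ', hψ', h.base.cube]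
    · intro q hq
      obtain ⟨y, rfl⟩ := QuotientGroup.mk_surjective q
      rw [hψ'] at hq
      have h1 : y⁻¹ * ψ y ∈ V := QuotientGroup.eq.mp hq.symm
      have h2 : y ∈ V := coset_fix h.base V (fun v hv => psi_V h hv) h1
      exact (QuotientGroup.eq_one_iff y).mpr h2
  have hpg : IsPGroup 2 (T ⧸ V) := h.pg.to_quotient V
  have hinvol : ∀ q, τ' (τ' q) = q := by
    intro q
    obtain ⟨y, rfl⟩ := QuotientGroup.mk_surjective q
    rw [hτ', hτ', h.invol]
  have hcomm : ∀ q, τ' (ψ' q) = ψ' (τ' q) := by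
    intro q
    obtain ⟨y, rfl⟩ := QuotientGroup.mk_surjective q
    rw [hψ', hτ', hτ', hψ', h.comm]
  have hV'ψ : ∀ q ∈ V', ψ' q ∈ V' := by
    intro q hq
    rw [hV'mem] at hq ⊢
    rw [hcomm, hq]
  have hsq : ∀ q ∈ V', q * q = 1 := by
    intro q hq
    obtain ⟨y, rfl⟩ := QuotientGroup.mk_surjective q
    rw [hV'W] at hq
    rw [← QuotientGroup.mk_mul]
    exact (QuotientGroup.eq_one_iff _).mpr (Ws_sq h y hq)
  have hnt : (⊤ : Subgroup (T ⧸ V)) ≠ ⊥ := by
    intro h0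
    apply hne
    rw [eq_top_iff]
    intro y _
    have h1 : (y : T ⧸ V) ∈ (⊤ : Subgroup (T ⧸ V)) := Subgroup.mem_top _
    rw [h0, Subgroup.mem_bot] at h1
    exact (QuotientGroup.eq_one_iff y).mp h1
  obtain ⟨q₀, -, hq₀1, hq₀fix⟩ := fixed_ne_one hpg τ' hinvol ⊤
    (fun _ _ => Subgroup.mem_top _) hnt
  have hV'bot : V' ≠ ⊥ := by
    intro h0
    have : q₀ ∈ V' := hq₀fix
    rw [h0, Subgroup.mem_bot] at this
    exact hq₀1 this
  have hcard_le : Nat.card V' ≤ 4 := by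
    have hWcomap : Ws τ V h.cen = V'.comap (QuotientGroup.mk' V) := by
      ext y
      rw [Subgroup.mem_comap]
      exact (hV'W y).symm
    have h1 : (Ws τ V h.cen).index = V'.index := by
      rw [hWcomap]
      exact Subgroup.index_comap_of_surjective V' (QuotientGroup.mk'_surjective V)
    have h2 := Subgroup.card_mul_index (Ws τ V h.cen)
    have h3 := Subgroup.card_mul_index V'
    have h4 := Subgroup.card_eq_card_quotient_mul_card_subgroup V
    have h5 := Ws_card_le h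
    rw [h.card] at h4
    have hidx : 0 < V'.index := Nat.pos_of_ne_zero Subgroup.index_ne_zero_of_finite
    rw [h1] at h2
    have h6 : Nat.card (Ws τ V h.cen) * V'.index = (Nat.card V' * 4) * V'.index := by
      rw [h2, h4, ← h3]
      ring
    have h7 := Nat.eq_of_mul_eq_mul_right hidx h6
    omega
  have hmod := mod3 hbase V' hV'ψ
  have hone : 1 < Nat.card V' := (Subgroup.one_lt_card_iff_ne_bot V').mpr hV'bot
  have hcard : Nat.card V' = 4 := by omega
  have hcen : V' ≤ Subgroup.center (T ⧸ V) := by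
    have hZnt : Subgroup.center (T ⧸ V) ≠ ⊥ := by
      haveI : Nontrivial (T ⧸ V) := by
        refine ⟨⟨q₀, 1, hq₀1⟩⟩
      haveI := hpg.center_nontrivial
      exact (Subgroup.nontrivial_iff_ne_bot _).mp inferInstance
    have hZτ : ∀ z ∈ Subgroup.center (T ⧸ V), τ' z ∈ Subgroup.center (T ⧸ V) := by
      intro z hz
      rw [Subgroup.mem_center_iff] at hz ⊢
      intro t
      have ht : t = τ' (τ' t) := (hinvol t).symm
      rw [ht, ← map_mul, ← map_mul, hz]
    obtain ⟨z, hz, hz1, hzfix⟩ := fixed_ne_one hpg τ' hinvol _ hZτ hZnt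
    have hIψ : ∀ q ∈ V' ⊓ Subgroup.center (T ⧸ V), ψ' q ∈ V' ⊓ Subgroup.center (T ⧸ V) :=
      fun q hq => ⟨hV'ψ q hq.1, psi_center hbase hq.2⟩
    have hm := mod3 hbase _ hIψ
    have hIne : V' ⊓ Subgroup.center (T ⧸ V) ≠ ⊥ := by
      intro h0
      have : z ∈ V' ⊓ Subgroup.center (T ⧸ V) := ⟨hzfix, hz⟩
      rw [h0, Subgroup.mem_bot] at this
      exact hz1 this
    have h1 := (Subgroup.one_lt_card_iff_ne_bot _).mpr hIne
    have h2 := Subgroup.card_le_of_le (inf_le_left : V' ⊓ Subgroup.center (T ⧸ V) ≤ V')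
    have heq : V' ⊓ Subgroup.center (T ⧸ V) = V' :=
      Subgroup.eq_of_le_of_card_ge inf_le_left (by omega)
    rw [← heq]
    exact inf_le_right
  exact ⟨ψ', τ', V', ⟨hbase, hpg, hinvol, hcomm, hV'mem, hcen, hcard, hsq⟩, hψ', hτ', hV'W⟩

/-- If some involution outside `V` is moved by `τ` only by an element of `V`, the group is
elementary abelian of order 16. -/
theorem claimX (h : Sys T ψ τ V) {u : T} (hu : u ∈ Ws τ V h.cen) (huV : u ∉ V)
    (hu2 : u * u = 1) : (∀ t : T, t ∈ Ws τ V h.cen) ∧ (∀ t : T, t * t = 1) := by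
  haveI := h.base.fin
  haveI : V.Normal := V_normal h
  have hne : V ≠ ⊤ := fun h0 => huV (by rw [h0]; exact Subgroup.mem_top u)
  have hst := Ws_struct h hu huV
  have hψu : ψ u * ψ u = 1 := by rw [← map_mul, hu2, map_one]
  have hψψu : ψ (ψ u) * ψ (ψ u) = 1 := by rw [← map_mul, hψu, map_one]
  have hvsq : ∀ v ∈ V, ∀ a : T, a * a = 1 → (v * a) * (v * a) = 1 := by
    intro v hv a ha
    calc v * a * (v * a) = v * (a * v) * a := by group
      _ = v * (v * a) * a := by rw [Vcomm h hv a]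
      _ = (v * v) * (a * a) := by group
      _ = 1 := by rw [h.sq v hv, ha, mul_one]
  have hW2 : ∀ w ∈ Ws τ V h.cen, w * w = 1 := by
    intro w hw
    obtain ⟨v, hv, h0 | h0 | h0 | h0⟩ := hst w hw
    · rw [h0]; exact h.sq v hv
    · rw [h0]; exact hvsq v hv u hu2
    · rw [h0]; exact hvsq v hv _ hψu
    · rw [h0]; exact hvsq v hv _ hψψu
  have hall : ∀ t : T, t ∈ Ws τ V h.cen := by
    by_contra hnot
    obtain ⟨ψ', τ', V', hQ, hψ', hτ', hV'W⟩ := quot_sys h hne
    haveI : (Ws τ V h.cen).Normal := ⟨fun w hw g => by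
      rw [← hV'W] at hw ⊢
      have hc := Subgroup.mem_center_iff.mp (hQ.cen hw) (g : T ⧸ V)
      have e : ((g * w * g⁻¹ : T) : T ⧸ V) = (w : T ⧸ V) := by
        rw [QuotientGroup.mk_mul, QuotientGroup.mk_mul, hc, QuotientGroup.mk_inv]
        group
      rw [e]
      exact hw⟩
    have hWne : Ws τ V h.cen ≠ ⊤ := by
      intro h0
      apply hnot
      intro t
      rw [h0]
      exact Subgroup.mem_top t
    obtain ⟨y, hy, hk⟩ := exists_fixed_coset h (Ws τ V h.cen) (Ws_tau h) hWne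
    apply hy
    rw [mem_Ws, h.fix, K_inv h y]
    exact inv_eq_of_mul_eq_one_left (hW2 _ hk)
  exact ⟨hall, fun t => hW2 t (hall t)⟩

/-- The quotient by `V` is not a non-commutative group of order 64. -/
theorem no_256 (h : Sys T ψ τ V) [V.Normal] (hc : Nat.card (T ⧸ V) = 64)
    (hnab : ¬ ∀ a b : T ⧸ V, a * b = b * a) : False := by
  classical
  haveI := h.base.fin
  have hne : V ≠ ⊤ := by
    intro h0
    have h4 := Subgroup.card_eq_card_quotient_mul_card_subgroup V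
    rw [hc, h0, Subgroup.card_top] at h4
    have : 0 < Nat.card T := Nat.card_pos
    omega
  obtain ⟨ψ', τ', V', hQ, hψ', hτ', hV'W⟩ := quot_sys h hne
  have hF64 : F64 (T ⧸ V) ψ' := ⟨hQ.base, hc, hnab⟩
  have hZ : V' = Subgroup.center (T ⧸ V) :=
    Subgroup.eq_of_le_of_card_ge hQ.cen (by rw [hQ.card, cardZ hF64])
  have hmkc : ∀ a b : T, ((⁅a, b⁆ : T) : T ⧸ V) = ⁅(a : T ⧸ V), (b : T ⧸ V)⁆ := fun a b =>
    map_commutatorElement (QuotientGroup.mk' V) a b
  have hsqW : ∀ y : T, y * y ∈ Ws τ V h.cen := by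
    intro y
    rw [← hV'W, hZ, QuotientGroup.mk_mul]
    exact sq_mem hF64 _
  have hcomW : ∀ x y : T, ⁅x, y⁆ ∈ Ws τ V h.cen := by
    intro x y
    rw [← hV'W, hZ, hmkc]
    exact comm_mem hF64 _ _
  have hTW : ∀ (x w : T), w ∈ Ws τ V h.cen → ⁅x, w⁆ ∈ V := by
    intro x w hw
    have h1 : (w : T ⧸ V) ∈ Subgroup.center (T ⧸ V) := by
      rw [← hZ, hV'W]
      exact hw
    have h2 : ⁅(x : T ⧸ V), (w : T ⧸ V)⁆ = 1 :=
      commutatorElement_eq_one_iff_mul_comm.mpr (Subgroup.mem_center_iff.mp h1 _)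
    have h3 : ((⁅x, w⁆ : T) : T ⧸ V) = 1 := by rw [hmkc, h2]
    exact (QuotientGroup.eq_one_iff _).mp h3
  have hθW : ∀ (x w : T), w ∈ Ws τ V h.cen → (x⁻¹ * τ x) * w = w * (x⁻¹ * τ x) := by
    intro x w hw
    have hcV : ∀ g : T, ⁅g, w⁆ ∈ Subgroup.center T := fun g => h.cen (hTW g w hw)
    have ha : w⁻¹ * τ w ∈ V := hw
    have hone : ⁅τ x, w⁻¹ * τ w⁆ = 1 :=
      commutatorElement_eq_one_iff_mul_comm.mpr (Vcomm h ha (τ x)).symm
    have h1 : ⁅τ x, w⁆ = ⁅x, w⁆ := by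
      have e1 : τ ⁅x, w⁆ = ⁅x, w⁆ := (h.fix _).mp (hTW x w hw)
      rw [map_commutatorElement] at e1
      have e2 : τ w = w * (w⁻¹ * τ w) := by group
      have e3 : ⁅τ x, τ w⁆ = ⁅τ x, w⁆ := by
        conv_lhs => rw [e2]
        rw [comm_mul_right' (by rw [hone]; exact Subgroup.one_mem _), hone, mul_one]
      rw [← e3]
      exact e1
    have h2 : ⁅x⁻¹ * τ x, w⁆ = 1 := by
      rw [comm_mul_left' (hcV (τ x)), comm_inv_left' (hcV x), h1, inv_mul_cancel]
    exact commutatorElement_eq_one_iff_mul_comm.mp h2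
  have hkey : ∀ (y x : T), ⁅y, x⁻¹ * τ x⁆ * ⁅y, x⁻¹ * τ x⁆ = ⁅y, ⁅y, x⁻¹ * τ x⁆⁆ := by
    intro y x
    obtain ⟨m, hm⟩ : ∃ m, m = x⁻¹ * τ x := ⟨_, rfl⟩
    rw [← hm]
    have hcm : y * y * m = m * (y * y) := by
      rw [hm]
      exact (hθW x (y * y) (hsqW y)).symm
    have e1 : ⁅y, ⁅y, m⁆⁆ = (⁅y, m⁆ * ⁅y, m⁆)⁻¹ := by
      simp only [commutatorElement_def]
      calc y * (y * m * y⁻¹ * m⁻¹) * y⁻¹ * (y * m * y⁻¹ * m⁻¹)⁻¹
          = (y * y * m) * (y⁻¹ * m⁻¹ * y⁻¹ * m * y * m⁻¹ * y⁻¹) := by group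
        _ = (m * (y * y)) * (y⁻¹ * m⁻¹ * y⁻¹ * m * y * m⁻¹ * y⁻¹) := by rw [hcm]
        _ = _ := by group
    have e2 : ⁅y, ⁅y, m⁆⁆ ∈ V := hTW y _ (hcomW y m)
    rw [e1] at e2 ⊢
    have e3 := V_inv h e2
    rw [inv_inv] at e3
    exact e3
  -- the elements centralizing all `p⁻¹ τ' p`
  obtain ⟨B, hB⟩ : ∃ B : Subgroup (T ⧸ V),
      B = Subgroup.centralizer (Set.range (fun p : T ⧸ V => p⁻¹ * τ' p)) := ⟨_, rfl⟩
  have hBmem : ∀ q : T ⧸ V, q ∈ B ↔ ∀ p : T ⧸ V, (p⁻¹ * τ' p) * q = q * (p⁻¹ * τ' p) := by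
    intro q
    rw [hB, Subgroup.mem_centralizer_iff]
    constructor
    · intro hq p
      exact hq _ ⟨p, rfl⟩
    · rintro hq _ ⟨p, rfl⟩
      exact hq p
  have hBψ : ∀ q ∈ B, ψ' q ∈ B := by
    intro q hq
    rw [hBmem] at hq ⊢
    intro p
    have e : p⁻¹ * τ' p = ψ' ((ψ' (ψ' p))⁻¹ * τ' (ψ' (ψ' p))) := by
      rw [map_mul, map_inv, ← hQ.comm, hQ.base.cube]
    rw [e, ← map_mul, ← map_mul, hq]
  have hBne : ∃ q : T ⧸ V, q ∉ B := by
    by_contra hall
    push Not at hall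
    have hallW : ∀ p : T ⧸ V, p ∈ Ws τ' V' hQ.cen := by
      intro p
      rw [mem_Ws, hZ, Subgroup.mem_center_iff]
      intro g
      exact ((hBmem g).mp (hall g) p).symm
    have h1 := Ws_card_le hQ
    have h2 : Ws τ' V' hQ.cen = ⊤ := by
      rw [eq_top_iff]
      intro p _
      exact hallW p
    rw [h2, Subgroup.card_top, hc] at h1
    omega
  obtain ⟨q, hq⟩ := hBne
  obtain ⟨y, rfl⟩ := QuotientGroup.mk_surjective q
  have hq2 : ψ' (y : T ⧸ V) ∉ B := fun h0 => hq (psi_mem_of hQ.base B hBψ h0)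
  have hq3 : (y : T ⧸ V) * ψ' (y : T ⧸ V) ∉ B := by
    intro h0
    have e : ψ' (ψ' (y : T ⧸ V)) = ((y : T ⧸ V) * ψ' (y : T ⧸ V))⁻¹ := psi2 hQ.base _
    have h1 : ψ' (ψ' (y : T ⧸ V)) ∈ B := by
      rw [e]
      exact B.inv_mem h0
    exact hq (psi_mem_of hQ.base B hBψ (psi_mem_of hQ.base B hBψ h1))
  have hcov : ∀ y' : T, (y' : T ⧸ V) ∉ B → ∀ w ∈ Ws τ V h.cen, w * w = ⁅y', w⁆ := by
    intro y' hy' w hw
    have hex0 : ∃ p₀ : T ⧸ V, ⁅(y' : T ⧸ V), p₀⁻¹ * τ' p₀⁆ ≠ 1 := by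
      by_contra hall
      push Not at hall
      apply hy'
      rw [hBmem]
      intro p
      exact (commutatorElement_eq_one_iff_mul_comm.mp (hall p)).symm
    obtain ⟨p₀, hp₀⟩ := hex0
    have he := comm_mem hF64 (y' : T ⧸ V) (p₀⁻¹ * τ' p₀)
    have tab := etab hF64 he hp₀
    have hwZ : (w : T ⧸ V) ∈ Subgroup.center (T ⧸ V) := by
      rw [← hZ, hV'W]
      exact hw
    have hθψ : ∀ p : T ⧸ V, (ψ' p)⁻¹ * τ' (ψ' p) = ψ' (p⁻¹ * τ' p) := by
      intro p
      rw [map_mul, map_inv, hQ.comm]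
    have hex : ∃ p : T ⧸ V, (w : T ⧸ V) = ⁅(y' : T ⧸ V), p⁻¹ * τ' p⁆ := by
      rcases tab.all _ hwZ with h0 | h0 | h0 | h0
      · exact ⟨1, by rw [h0]; simp⟩
      · exact ⟨p₀, h0⟩
      · refine ⟨ψ' (ψ' p₀), ?_⟩
        rw [h0, hθψ, hθψ, twist_right hF64, twist_right hF64, hQ.base.cube]
      · refine ⟨ψ' p₀, ?_⟩
        rw [h0, hθψ, twist_right hF64]
    obtain ⟨p, hp⟩ := hex
    obtain ⟨x, rfl⟩ := QuotientGroup.mk_surjective p
    have h1 : (w : T ⧸ V) = ((⁅y', x⁻¹ * τ x⁆ : T) : T ⧸ V) := by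
      rw [hp, hτ', hmkc, QuotientGroup.mk_mul, QuotientGroup.mk_inv]
    have h2 : (⁅y', x⁻¹ * τ x⁆)⁻¹ * w ∈ V := QuotientGroup.eq.mp h1.symm
    obtain ⟨v, hv⟩ : ∃ v, v = (⁅y', x⁻¹ * τ x⁆)⁻¹ * w := ⟨_, rfl⟩
    have hvV : v ∈ V := hv ▸ h2
    obtain ⟨c, hc'⟩ : ∃ c, c = ⁅y', x⁻¹ * τ x⁆ := ⟨_, rfl⟩
    have hw' : w = c * v := by
      rw [hv, hc']
      group
    have hcc : c * c = ⁅y', c⁆ := by
      rw [hc']
      exact hkey y' x
    have e1 : (c * v) * (c * v) = c * c := by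
      calc c * v * (c * v) = c * (v * c) * v := by group
        _ = c * (c * v) * v := by rw [Vcomm h hvV c]
        _ = c * c * (v * v) := by group
        _ = c * c := by rw [h.sq v hvV, mul_one]
    have e2 : ⁅y', c * v⁆ = ⁅y', c⁆ := by
      have hv1 : ⁅y', v⁆ = 1 := commutatorElement_eq_one_iff_mul_comm.mpr (Vcomm h hvV y').symm
      rw [comm_mul_right' (by rw [hv1]; exact Subgroup.one_mem _), hv1, mul_one]
    rw [hw', e1, e2, hcc]
  have hW2 : ∀ w ∈ Ws τ V h.cen, w * w = 1 := by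
    intro w hw
    have s1 := hcov y hq w hw
    have s2 := hcov (ψ y) (by rw [← hψ']; exact hq2) w hw
    have s3 := hcov (y * ψ y) (by rw [QuotientGroup.mk_mul, ← hψ']; exact hq3) w hw
    rw [comm_mul_left' (h.cen (hTW (ψ y) w hw)), ← s1, ← s2] at s3
    have s4 : (w * w) * 1 = (w * w) * (w * w) := by rw [mul_one]; exact s3
    exact (mul_left_cancel s4).symm
  have hWV : ∃ w ∈ Ws τ V h.cen, w ∉ V := by
    have hex : ∃ q ∈ V', q ≠ 1 := by
      by_contra hall
      push Not at hall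
      have h0 : V' = ⊥ := (Subgroup.eq_bot_iff_forall _).mpr hall
      have h1 := hQ.card
      rw [h0, Subgroup.card_bot] at h1
      omega
    obtain ⟨q, hqV', hq1⟩ := hex
    obtain ⟨w, rfl⟩ := QuotientGroup.mk_surjective q
    exact ⟨w, (hV'W w).mp hqV', fun hwV => hq1 ((QuotientGroup.eq_one_iff w).mpr hwV)⟩
  obtain ⟨w, hw, hwV⟩ := hWV
  obtain ⟨hall, -⟩ := claimX h hw hwV (hW2 w hw)
  have h1 := Ws_card_le h
  have h2 : Ws τ V h.cen = ⊤ := by
    rw [eq_top_iff]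
    intro t _
    exact hall t
  rw [h2, Subgroup.card_top] at h1
  have h4 := Subgroup.card_eq_card_quotient_mul_card_subgroup V
  rw [hc, h.card] at h4
  omega

end SysSec

/-- With an involution outside `V`, the group is elementary abelian of order 16 or
non-commutative of order 64. -/
theorem main_aux : ∀ (n : ℕ) (T : Type u) [Group T] (ψ τ : T →* T) (V : Subgroup T),
    Sys T ψ τ V → Nat.card T = n → (∃ u : T, u ∉ V ∧ u * u = 1) →
    (Nat.card T = 16 ∧ ∀ t : T, t * t = 1) ∨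
      (Nat.card T = 64 ∧ ¬ ∀ a b : T, a * b = b * a) := by
  intro n
  induction n using Nat.strong_induction_on with
  | _ n ih =>
    intro T _ ψ τ V h hn hex
    obtain ⟨u, huV, hu2⟩ := hex
    haveI := h.base.fin
    haveI : V.Normal := V_normal h
    have hne : V ≠ ⊤ := fun h0 => huV (by rw [h0]; exact Subgroup.mem_top u)
    have h4 := Subgroup.card_eq_card_quotient_mul_card_subgroup V
    rw [h.card] at h4
    by_cases huW : u ∈ Ws τ V h.cen
    · left
      obtain ⟨hall, hexp⟩ := claimX h huW huV hu2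
      refine ⟨?_, hexp⟩
      have h1 := Ws_card_le h
      have h2 : Ws τ V h.cen = ⊤ := by
        rw [eq_top_iff]
        intro t _
        exact hall t
      rw [h2, Subgroup.card_top] at h1
      have h3 := mod3 h.base ⊤ (fun _ _ => Subgroup.mem_top _)
      rw [Subgroup.card_top] at h3
      have h5 : Nat.card (T ⧸ V) ≠ 1 := by
        intro h0
        apply hne
        have h6 : V.index = 1 := by rw [Subgroup.index_eq_card]; exact h0
        exact Subgroup.index_eq_one.mp h6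
      have h6 : 0 < Nat.card (T ⧸ V) := Nat.card_pos
      omega
    · obtain ⟨ψ', τ', V', hQ, hψ', hτ', hV'W⟩ := quot_sys h hne
      have hlt : Nat.card (T ⧸ V) < n := by
        have h6 : 0 < Nat.card (T ⧸ V) := Nat.card_pos
        omega
      have hu' : ∃ u' : T ⧸ V, u' ∉ V' ∧ u' * u' = 1 :=
        ⟨(u : T ⧸ V), fun h0 => huW ((hV'W u).mp h0), by
          rw [← QuotientGroup.mk_mul, hu2]
          rfl⟩
      rcases ih _ hlt (T ⧸ V) ψ' τ' V' hQ rfl hu' with ⟨h16, -⟩ | ⟨h64, hnab⟩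
      · right
        refine ⟨by rw [h4, h16], ?_⟩
        intro hab
        apply huW
        rw [mem_Ws]
        have hfix : τ (u * τ u) = u * τ u := by
          rw [map_mul, h.invol]
          exact hab _ _
        have e : u⁻¹ * τ u = u * τ u := by
          have : u⁻¹ = u := inv_eq_of_mul_eq_one_left hu2
          rw [this]
        rw [e]
        exact (h.fix _).mpr hfix
      · exact (no_256 h h64 hnab).elim

/-- The classification. -/
theorem sys_main {T : Type u} [Group T] {ψ τ : T →* T} {V : Subgroup T} (h : Sys T ψ τ V) :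
    (Nat.card T = 16 ∧ ∀ x : T, x * x = 1) ∨
      (∃ n : ℕ, 1 ≤ n ∧ Nonempty (T ≃* Multiplicative (ZMod (2 ^ n) × ZMod (2 ^ n)))) ∨
      Nonempty (H3 ≃* T) ∨ Nonempty (G0 ≃* T) := by
  haveI := h.base.fin
  by_cases hA : ∀ t : T, t * t = 1 → t ∈ V
  · have hVne : ∃ e ∈ V, e ≠ 1 := by
      by_contra hall
      push Not at hall
      have h0 : V = ⊥ := (Subgroup.eq_bot_iff_forall _).mpr hall
      have h1 := h.card
      rw [h0, Subgroup.card_bot] at h1
      omega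
    have hR : R2 T V ψ :=
      { fin := h.base.fin
        pg := h.pg
        inj := inj h.base
        ord := ⟨1, iter h.base⟩
        mem := fun t => ⟨hA t, h.sq t⟩
        card := le_of_eq h.card
        ne := hVne
        cen := h.cen
        mov := fun e _ hfix => h.base.fpf e hfix }
    by_cases hab : ∀ a b : T, a * b = b * a
    · right; left
      exact abel_iso hR hab
    · right; right; right
      exact R2.model_iso hR hab
  · push Not at hA
    obtain ⟨u, hu2, huV⟩ := hA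
    rcases main_aux _ T ψ τ V h rfl ⟨u, huV, hu2⟩ with ⟨h16, hexp⟩ | ⟨h64, hnab⟩
    · left
      exact ⟨h16, hexp⟩
    · right; right; left
      have hF64 : F64 T ψ := ⟨h.base, h64, hnab⟩
      have hZ : V = Subgroup.center T :=
        Subgroup.eq_of_le_of_card_ge h.cen (by rw [h.card, cardZ hF64])
      exact L3.model_iso hF64 (by rw [← hZ]; exact huV) hu2

end L3

end Cfsg.Agent.Lib.Helper28
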