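import Mathlib
import Cfsg.Agent.Lib.Helper28.R2Model
import Cfsg.Agent.Lib.Helper60.U3Suz

set_option autoImplicit false
set_option linter.unusedSectionVars false
set_option linter.style.haveILetI false
set_option linter.unusedSimpArgs false
set_option linter.unusedVariables false

/-! Rank-two 2-groups with an automorphism moving every involution (helper28):
the Sylow 2-subgroup of `PSU₃(4)` is the model group. -/

namespace Cfsg.Agent.Lib.Helper28.R2

open Cfsg.Agent.Lib.Helper60

section U3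

variable {F : Type*} [Field F] [Fintype F]

theorem U3_two (hF : Fintype.card F = 4 ^ 2) : (2 : F) = 0 :=
  two_eq_zero_of_card (m := 4) (by rw [hF]; norm_num)

theorem U3_R2 (hF : Fintype.card F = 4 ^ 2) :
    ∃ ψ₀ : ↥(U3 hF) →* ↥(U3 hF), R2 ↥(U3 hF) (Subgroup.center ↥(U3 hF)) ψ₀ := by
  classical
  have h2 : (2 : F) = 0 := U3_two hF
  have hcard : Nat.card ↥(U3 hF) = 4 ^ 3 := card_U3 hF h2
  haveI : Finite ↥(U3 hF) := Nat.finite_of_card_ne_zero (by rw [hcard]; norm_num)
  have hfix : Nat.card (Fixq F 4) = 4 := card_Fixq hF h2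
  haveI : Finite (Fixq F 4) := Nat.finite_of_card_ne_zero (by rw [hfix]; norm_num)
  haveI : Fintype (Fixq F 4) := Fintype.ofFinite _
  obtain ⟨y, -, hy⟩ := Finset.exists_mem_notMem_of_card_lt_card
    (s := ({⟨0, by simp⟩, ⟨1, by simp⟩} : Finset (Fixq F 4))) (t := Finset.univ) (by
      rw [Finset.card_univ, ← Nat.card_eq_fintype_card, hfix]
      exact lt_of_le_of_lt Finset.card_le_two (by norm_num))
  have hy0 : y.1 ≠ 0 := by
    intro h0
    apply hy
    simp only [Finset.mem_insert, Finset.mem_singleton]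
    left
    exact Subtype.ext h0
  have hy1 : y.1 ≠ 1 := by
    intro h0
    apply hy
    simp only [Finset.mem_insert, Finset.mem_singleton]
    right
    exact Subtype.ext h0
  obtain ⟨r, hr⟩ : ∃ r : F, r = y.1 := ⟨_, rfl⟩
  have hr4 : r ^ 4 = r := hr ▸ y.2
  have hr0 : r ≠ 0 := hr ▸ hy0
  have hr1 : r ≠ 1 := hr ▸ hy1
  have hr3 : r ^ 3 = 1 := by
    have : r * (r ^ 3 - 1) = 0 := by linear_combination hr4
    rcases mul_eq_zero.mp this with h | h
    · exact absurd h hr0
    · exact sub_eq_zero.mp h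
  have hr2 : r ^ 2 ≠ 1 := by
    intro h0
    apply hr1
    have : r = r ^ 3 := by rw [pow_succ, h0, one_mul]
    rw [this, hr3]
  let x : ↥(fixUnits F 4) := ⟨Units.mk0 r hr0, hr4⟩
  have hxc : ∀ a : ↥(U3 hF), (scaleAut hF x a).1.c = r * a.1.c := fun a => scaleAut_c hF x a
  have hxu : ∀ a : ↥(U3 hF), (scaleAut hF x a).1.u = r ^ 2 * a.1.u := fun a => scaleAut_u hF x a
  refine ⟨(scaleAut hF x).toMonoidHom, ?_⟩
  have hψ : ∀ a : ↥(U3 hF), (scaleAut hF x).toMonoidHom a = scaleAut hF x a := fun _ => rfl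
  have hcen : ∀ t : ↥(U3 hF), t ∈ Subgroup.center ↥(U3 hF) ↔ t.1.c = 0 := by
    intro t
    rw [Subgroup.mem_center_iff]
    exact U3_central_iff hF h2 t
  refine
    { fin := inferInstance
      pg := IsPGroup.of_card (n := 6) (by rw [hcard]; norm_num)
      inj := (scaleAut hF x).injective
      ord := ⟨1, fun t => ?_⟩
      mem := fun t => by rw [hcen]; exact U3_sq_eq_one_iff hF h2 t
      card := (equivU3_card_center hF h2 (MulEquiv.refl _)).le
      ne := ?_
      cen := le_refl _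
      mov := ?_ }
  · show (scaleAut hF x).toMonoidHom ((scaleAut hF x).toMonoidHom
      ((scaleAut hF x).toMonoidHom t)) = t
    rw [hψ, hψ, hψ]
    apply U3_ext hF
    · rw [hxc, hxc, hxc]
      linear_combination t.1.c * hr3
    · rw [hxu, hxu, hxu]
      linear_combination (t.1.u * (r ^ 3 + 1)) * hr3
  · obtain ⟨a, ha0, hau⟩ := U3_exists_zero hF h2 1 (one_pow 4)
    refine ⟨a, (hcen a).mpr ha0, ?_⟩
    intro h0
    have : a.1.u = 0 := by rw [h0]; rfl
    rw [hau] at this
    exact one_ne_zero this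
  · intro e he hfix'
    rw [hcen] at he
    have h1 : (scaleAut hF x e).1.u = e.1.u := by rw [← hψ, hfix']
    rw [hxu] at h1
    have h3 : (r ^ 2 - 1) * e.1.u = 0 := by linear_combination h1
    rcases mul_eq_zero.mp h3 with h4 | h4
    · exact absurd (sub_eq_zero.mp h4) hr2
    · exact (U3_eq_one_iff hF e).mpr ⟨he, h4⟩

theorem U3_not_comm (hF : Fintype.card F = 4 ^ 2) :
    ¬ ∀ a b : ↥(U3 hF), a * b = b * a := by
  have h2 : (2 : F) = 0 := U3_two hF
  intro hc
  obtain ⟨t, ht⟩ := U3_exists_c hF (1 : F)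
  have := (U3_central_iff hF h2 t).mp (fun b => hc b t)
  rw [ht] at this
  exact one_ne_zero this

theorem U3_model (hF : Fintype.card F = 4 ^ 2) : Nonempty (G0 ≃* ↥(U3 hF)) := by
  obtain ⟨ψ₀, h⟩ := U3_R2 hF
  exact model_iso h (U3_not_comm hF)

end U3

end Cfsg.Agent.Lib.Helper28.R2
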