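import Mathlib
import Cfsg.Agent.Lib.Helper28.L3Sys
import Cfsg.Agent.Lib.Helper28.L3Syl
import Cfsg.Agent.Lib.Helper28.R2U3

set_option autoImplicit false
set_option linter.unusedSectionVars false
set_option linter.style.haveILetI false
set_option linter.unusedSimpArgs false
set_option linter.unusedVariables false

/-! 2-subgroups normalized by commuting elements of orders 2 and 3 (helper28). -/

namespace Cfsg.Agent.Lib.Helper28.L3

open scoped commutatorElement
open Cfsg.Agent.Lib.Helper28.R2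

/-- Every Sylow 2-subgroup of `PSL₃(4)` is the Heisenberg group over the field of order four. -/
theorem all_sylow : ∃ (F : Type) (_ : Field F) (_ : Fintype F), Fintype.card F = 4 ∧
    ∀ P : Sylow 2 (Matrix.ProjectiveSpecialLinearGroup (Fin 3) F),
      Nonempty (H3 ≃* ↥(P : Subgroup (Matrix.ProjectiveSpecialLinearGroup (Fin 3) F))) := by
  obtain ⟨F, i1, i2, hF, S, ⟨e⟩⟩ := exists_sylow
  refine ⟨F, i1, i2, hF, fun P => ?_⟩
  haveI : Fact (Nat.Prime 2) := ⟨Nat.prime_two⟩
  haveI : Finite (Matrix.SpecialLinearGroup (Fin 3) F) := Subtype.finite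
  exact ⟨e.trans (Sylow.equiv S P)⟩

/-- Every Sylow 2-subgroup of `PSU₃(4)` is the model group `G0`. -/
theorem all_sylow_U : ∃ (F : Type) (_ : Field F) (_ : Fintype F), Fintype.card F = 16 ∧
    ∀ P : Sylow 2 (Cfsg.PSU 3 F 4), Nonempty (G0 ≃* ↥(P : Subgroup (Cfsg.PSU 3 F 4))) := by
  haveI : Fact (Nat.Prime 2) := ⟨Nat.prime_two⟩
  letI : Fintype (GaloisField 2 4) := Fintype.ofFinite _
  have hF : Fintype.card (GaloisField 2 4) = 16 := by
    rw [← Nat.card_eq_fintype_card, GaloisField.card 2 4 (by norm_num)]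
    norm_num
  refine ⟨GaloisField 2 4, inferInstance, inferInstance, hF, fun P => ?_⟩
  have hF' : Fintype.card (GaloisField 2 4) = 4 ^ 2 := by rw [hF]; norm_num
  obtain ⟨e2⟩ := U3_model hF'
  obtain ⟨e3⟩ := Cfsg.Agent.Lib.Helper60.sylow_PSU3_equiv' (q := 4) (n := 2) (by norm_num)
    (by norm_num) hF' P
  exact ⟨e2.trans e3.symm⟩

/-- Conjugation by a normalizing element, as an endomorphism of the subgroup. -/
def conjHom {G : Type*} [Group G] (T : Subgroup G) (g : G)
    (hg : g ∈ Subgroup.normalizer (T : Set G)) : ↥T →* ↥T where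
  toFun x := ⟨g * x * g⁻¹, (Subgroup.mem_normalizer_iff.mp hg x).mp x.2⟩
  map_one' := by
    apply Subtype.ext
    show g * ((1 : ↥T) : G) * g⁻¹ = ((1 : ↥T) : G)
    rw [Subgroup.coe_one]
    group
  map_mul' a b := by
    apply Subtype.ext
    show g * ((a * b : ↥T) : G) * g⁻¹ = (g * (a : G) * g⁻¹) * (g * (b : G) * g⁻¹)
    rw [Subgroup.coe_mul]
    group

theorem conjHom_coe {G : Type*} [Group G] (T : Subgroup G) (g : G)
    (hg : g ∈ Subgroup.normalizer (T : Set G)) (x : ↥T) :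
    ((conjHom T g hg x : ↥T) : G) = g * (x : G) * g⁻¹ := rfl

/-- The hypotheses on a 2-subgroup give a system. -/
theorem sub_sys {G : Type*} [Group G] [Finite G] (T V : Subgroup G) (hT : IsPGroup 2 ↥T)
    (hVT : V ≤ T ⊓ Subgroup.centralizer (T : Set G))
    (hV : Nat.card ↥V = 4 ∧ ∀ v ∈ V, v ^ 2 = 1) (t ρ : G) (ht : orderOf t = 2)
    (hρ : orderOf ρ = 3)
    (htn : t ∈ Subgroup.normalizer (V : Set G) ⊓ Subgroup.normalizer (T : Set G))
    (hρn : ρ ∈ Subgroup.normalizer (V : Set G) ⊓ Subgroup.normalizer (T : Set G))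
    (htρ : t * ρ = ρ * t) (hVρ : ⁅V, Subgroup.zpowers ρ⁆ = V)
    (hCt : T ⊓ Subgroup.centralizer ({t} : Set G) = V) :
    Sys ↥T (conjHom T ρ hρn.2) (conjHom T t htn.2) (V.subgroupOf T) := by
  classical
  have hρ3 : ρ * ρ * ρ = 1 := by
    have h0 : ρ ^ 3 = 1 := by rw [← hρ]; exact pow_orderOf_eq_one ρ
    rw [← h0, pow_succ, pow_two]
  have ht2 : t * t = 1 := by
    have h0 : t ^ 2 = 1 := by rw [← ht]; exact pow_orderOf_eq_one t
    rw [← h0, pow_two]
  have hVmem : ∀ g : G, g ∈ V ↔ g ∈ T ∧ ∀ k ∈ ({t} : Set G), k * g = g * k := by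
    intro g
    rw [← Subgroup.mem_centralizer_iff, ← Subgroup.mem_inf, hCt]
  have hVsq : ∀ v ∈ V, v * v = 1 := fun v hv => by rw [← pow_two]; exact hV.2 v hv
  have hVle : V ≤ T := fun v hv => (hVT hv).1
  have hinvol : ∀ x : ↥T, conjHom T t htn.2 (conjHom T t htn.2 x) = x := by
    intro x
    apply Subtype.ext
    show t * (t * (x : G) * t⁻¹) * t⁻¹ = (x : G)
    have e : t * (t * (x : G) * t⁻¹) * t⁻¹ = (t * t) * (x : G) * (t * t)⁻¹ := by group
    rw [e, ht2]
    group
  have hcube : ∀ x : ↥T, conjHom T ρ hρn.2 (conjHom T ρ hρn.2 (conjHom T ρ hρn.2 x)) = x := by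
    intro x
    apply Subtype.ext
    show ρ * (ρ * (ρ * (x : G) * ρ⁻¹) * ρ⁻¹) * ρ⁻¹ = (x : G)
    have e : ρ * (ρ * (ρ * (x : G) * ρ⁻¹) * ρ⁻¹) * ρ⁻¹ =
        (ρ * ρ * ρ) * (x : G) * (ρ * ρ * ρ)⁻¹ := by group
    rw [e, hρ3]
    group
  have hcomm : ∀ x : ↥T, conjHom T t htn.2 (conjHom T ρ hρn.2 x) =
      conjHom T ρ hρn.2 (conjHom T t htn.2 x) := by
    intro x
    apply Subtype.ext
    show t * (ρ * (x : G) * ρ⁻¹) * t⁻¹ = ρ * (t * (x : G) * t⁻¹) * ρ⁻¹
    have e : t * (ρ * (x : G) * ρ⁻¹) * t⁻¹ = (t * ρ) * (x : G) * (t * ρ)⁻¹ := by group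
    rw [e, htρ]
    group
  have hfix : ∀ x : ↥T, x ∈ V.subgroupOf T ↔ conjHom T t htn.2 x = x := by
    intro x
    rw [Subgroup.mem_subgroupOf, hVmem]
    constructor
    · rintro ⟨-, h1⟩
      apply Subtype.ext
      show t * (x : G) * t⁻¹ = (x : G)
      rw [h1 t rfl]
      group
    · intro h1
      refine ⟨x.2, ?_⟩
      intro k hk
      have hk' : k = t := hk
      rw [hk']
      have h2 : t * (x : G) * t⁻¹ = (x : G) := congrArg Subtype.val h1
      exact mul_inv_eq_iff_eq_mul.mp h2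
  have hcen : V.subgroupOf T ≤ Subgroup.center ↥T := by
    intro v hv
    rw [Subgroup.mem_subgroupOf] at hv
    have h1 := Subgroup.mem_centralizer_iff.mp (hVT hv).2
    rw [Subgroup.mem_center_iff]
    intro g
    apply Subtype.ext
    exact h1 g g.2
  have hcard : Nat.card (V.subgroupOf T) = 4 := by
    rw [Nat.card_congr (Subgroup.subgroupOfEquivOfLe hVle).toEquiv]
    exact hV.1
  have hsq : ∀ v ∈ V.subgroupOf T, v * v = 1 := by
    intro v hv
    rw [Subgroup.mem_subgroupOf] at hv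
    apply Subtype.ext
    exact hVsq _ hv
  -- `ρ` moves every non-trivial element of `V`
  have hmov : ∀ v ∈ V, ρ * v * ρ⁻¹ = v → v = 1 := by
    intro v hv hfixv
    by_contra hv1
    have hc3 : ∀ g : G, ρ * (ρ * (ρ * g * ρ⁻¹) * ρ⁻¹) * ρ⁻¹ = g := by
      intro g
      have e : ρ * (ρ * (ρ * g * ρ⁻¹) * ρ⁻¹) * ρ⁻¹ = (ρ * ρ * ρ) * g * (ρ * ρ * ρ)⁻¹ := by
        group
      rw [e, hρ3]
      group
    have hcV : ∀ w ∈ V, ρ * w * ρ⁻¹ ∈ V := fun w hw =>
      (Subgroup.mem_normalizer_iff.mp hρn.1 w).mp hw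
    have hcent : ∀ w ∈ V, ρ * w * ρ⁻¹ = w := by
      intro w hw
      by_contra hne
      have hw1 : w ≠ 1 := by
        intro h0
        apply hne
        rw [h0]
        group
      have hwv : v ≠ w := by
        intro h0
        apply hne
        rw [← h0]
        exact hfixv
      have hall := E_four' (E := V) hVsq (le_of_eq hV.1) hv hv1 hw hw1 hwv
      have hcw : ρ * w * ρ⁻¹ = v * w := by
        rcases hall _ (hcV w hw) with h0 | h0 | h0 | h0
        · exfalso
          apply hw1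
          have e : w = ρ⁻¹ * (ρ * w * ρ⁻¹) * ρ := by group
          rw [e, h0]
          group
        · exfalso
          apply hwv
          have e : w = ρ⁻¹ * (ρ * w * ρ⁻¹) * ρ := by group
          have e' : v = ρ⁻¹ * (ρ * v * ρ⁻¹) * ρ := by group
          rw [e, e', h0, hfixv]
        · exact absurd h0 hne
        · exact h0
      have h2 : ρ * (ρ * w * ρ⁻¹) * ρ⁻¹ = w := by
        rw [hcw]
        have e : ρ * (v * w) * ρ⁻¹ = (ρ * v * ρ⁻¹) * (ρ * w * ρ⁻¹) := by group
        rw [e, hfixv, hcw, ← mul_assoc, hVsq v hv, one_mul]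
      have h3 := hc3 w
      rw [h2, hcw] at h3
      apply hv1
      have : v * w = 1 * w := by rw [one_mul]; exact h3
      exact mul_right_cancel this
    have hle : V ≤ Subgroup.centralizer (Subgroup.zpowers ρ : Set G) := by
      intro w hw
      rw [Subgroup.mem_centralizer_iff]
      intro k hk
      obtain ⟨n, rfl⟩ := Subgroup.mem_zpowers_iff.mp hk
      have hcm : Commute ρ w := by
        show ρ * w = w * ρ
        exact mul_inv_eq_iff_eq_mul.mp (hcent w hw)
      exact (hcm.zpow_left n).eq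
    have hbot : ⁅V, Subgroup.zpowers ρ⁆ = ⊥ := Subgroup.commutator_eq_bot_iff_le_centralizer.mpr hle
    rw [hVρ] at hbot
    have h1 := hV.1
    rw [hbot, Subgroup.card_bot] at h1
    omega
  have hfpf : ∀ x : ↥T, conjHom T ρ hρn.2 x = x → x = 1 := by
    intro x hx
    by_contra hx1
    let D : Subgroup ↥T :=
      { carrier := {y | conjHom T ρ hρn.2 y = y}
        mul_mem' := by
          intro a b ha hb
          have ha' : conjHom T ρ hρn.2 a = a := ha
          have hb' : conjHom T ρ hρn.2 b = b := hb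
          show conjHom T ρ hρn.2 (a * b) = a * b
          rw [map_mul, ha', hb']
        one_mem' := map_one _
        inv_mem' := by
          intro a ha
          have ha' : conjHom T ρ hρn.2 a = a := ha
          show conjHom T ρ hρn.2 a⁻¹ = a⁻¹
          rw [map_inv, ha'] }
    have hDτ : ∀ z ∈ D, conjHom T t htn.2 z ∈ D := by
      intro z hz
      have hz' : conjHom T ρ hρn.2 z = z := hz
      show conjHom T ρ hρn.2 (conjHom T t htn.2 z) = conjHom T t htn.2 z
      rw [← hcomm, hz']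
    have hD : D ≠ ⊥ := by
      intro h0
      have : x ∈ D := hx
      rw [h0, Subgroup.mem_bot] at this
      exact hx1 this
    obtain ⟨z, hzD, hz1, hzfix⟩ := fixed_ne_one hT (conjHom T t htn.2) hinvol D hDτ hD
    have hzV : (z : G) ∈ V := Subgroup.mem_subgroupOf.mp ((hfix z).mpr hzfix)
    have hzρ : ρ * (z : G) * ρ⁻¹ = (z : G) := congrArg Subtype.val (show conjHom T ρ hρn.2 z = z from hzD)
    exact hz1 (Subtype.ext (hmov _ hzV hzρ))
  exact ⟨⟨inferInstance, hcube, hfpf⟩, hT, hinvol, hcomm, hfix, hcen, hcard, hsq⟩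

end Cfsg.Agent.Lib.Helper28.L3
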