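import Mathlib

/-!
# Project QB (helper48, S2359), piece KEYAP (backup copy by helper28)
-/

set_option autoImplicit false

namespace Cfsg.Agent.Lib.Helper48.QB

-- QB-KEYAP
theorem keyA_prime {G : Type*} [Group G] [Finite G] (Tor : Subgroup G) (hTc : IsCyclic Tor)
    (q : ℕ) (hq8 : q % 8 = 3) (hT : Nat.card Tor = q - 1)
    (hG : Nat.card G = q ^ 3 * (q - 1) * (q ^ 3 + 1))
    (hcent : ∀ t ∈ Tor, t * t ≠ 1 → ∀ g : G, g * t = t * g → g ∈ Tor)
    (hnt : ∀ r : ℕ, r.Prime → r ∣ (q - 1) / 2 →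
      (q - 1).factorization r = (q ^ 3 * (q - 1) * (q ^ 3 + 1)).factorization r ∧ r ≠ 2)
    (hsyl : ∀ (M : Subgroup G) (r : ℕ), r.Prime →
      (Nat.card M).factorization r = (Nat.card G).factorization r →
      ∀ y : G, orderOf y = r → ∃ g : G, g * y * g⁻¹ ∈ M)
    (hconj : ∀ g y : G, Nonempty (Subgroup.centralizer {y} ≃* Subgroup.centralizer {g * y * g⁻¹}))
    (y : G) (hy : (orderOf y).Prime) (hyn : y ^ ((q - 1) / 2) = 1) :
    IsCyclic (Subgroup.centralizer {y}) ∧ Nat.card (Subgroup.centralizer {y}) = q - 1 := by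
  have hdvd : orderOf y ∣ (q - 1) / 2 := orderOf_dvd_of_pow_eq_one hyn
  obtain ⟨hfac, hr2⟩ := hnt (orderOf y) hy hdvd
  obtain ⟨g, hg⟩ := hsyl Tor (orderOf y) hy (by rw [hT, hG]; exact hfac) y rfl
  have hord : orderOf (g * y * g⁻¹) = orderOf y := by
    have h := (MulAut.conj g).orderOf_eq y
    rwa [MulAut.conj_apply] at h
  have htt : (g * y * g⁻¹) * (g * y * g⁻¹) ≠ 1 := by
    intro h
    have h2 : orderOf (g * y * g⁻¹) ∣ 2 := by
      apply orderOf_dvd_of_pow_eq_one
      rw [pow_two]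
      exact h
    rw [hord] at h2
    exact hr2 ((Nat.prime_dvd_prime_iff_eq hy Nat.prime_two).1 h2)
  have hTcomm : ∀ a b : Tor, a * b = b * a := by
    intro a b
    letI := IsCyclic.commGroup (α := Tor)
    exact mul_comm a b
  have hTor : Subgroup.centralizer {g * y * g⁻¹} = Tor := by
    apply le_antisymm
    · intro x hx
      rw [Subgroup.mem_centralizer_iff] at hx
      have h1 := hx (g * y * g⁻¹) (Set.mem_singleton _)
      exact hcent (g * y * g⁻¹) hg htt x h1.symm
    · intro x hx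
      rw [Subgroup.mem_centralizer_iff]
      intro t ht
      rw [Set.mem_singleton_iff] at ht
      subst ht
      have h1 := hTcomm ⟨g * y * g⁻¹, hg⟩ ⟨x, hx⟩
      exact congrArg Subtype.val h1
  obtain ⟨e⟩ := hconj g y
  constructor
  · have h1 : IsCyclic (Subgroup.centralizer {g * y * g⁻¹}) := by
      rw [hTor]
      exact hTc
    exact e.isCyclic.2 h1
  · rw [Nat.card_congr e.toEquiv, hTor, hT]

end Cfsg.Agent.Lib.Helper48.QB
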