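import Mathlib
import Cfsg.Agent.Lib.Helper50.SU4Q3Def
import Cfsg.Agent.Lib.Helper71.Asch5

/-! Project SU4 (helper50), sub-piece Q3MIN (helper28): the Pauli group is a minimal non-scalar
normal subgroup of its normaliser. -/

set_option autoImplicit false

namespace Cfsg.Agent.Lib.Helper28.SU4Q3MIN

open Matrix Cfsg.Geo Cfsg.Agent.Lib.Helper71.Asch Cfsg.Agent.Lib.Helper50.SU4Q3Def

variable {F : Type*} [Field F] [Fintype F] {q : ℕ}

/-- `Z₁` -/
abbrev su4q3min_A : Matrix (Fin 4) (Fin 4) F := Matrix.diagonal ![1, 1, -1, -1]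
/-- `Z₂` -/
abbrev su4q3min_B : Matrix (Fin 4) (Fin 4) F := Matrix.diagonal ![1, -1, 1, -1]
/-- `X₁` -/
abbrev su4q3min_C : Matrix (Fin 4) (Fin 4) F := !![0, 0, 1, 0; 0, 0, 0, 1; 1, 0, 0, 0; 0, 1, 0, 0]
/-- `X₂` -/
abbrev su4q3min_D : Matrix (Fin 4) (Fin 4) F := !![0, 1, 0, 0; 1, 0, 0, 0; 0, 0, 0, 1; 0, 0, 1, 0]

theorem su4q3min_AA : (su4q3min_A : Matrix (Fin 4) (Fin 4) F) * su4q3min_A = 1 := by
  ext i j
  fin_cases i <;> fin_cases j <;> simp [Matrix.mul_apply, Fin.sum_univ_four, Matrix.one_apply]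

theorem su4q3min_BB : (su4q3min_B : Matrix (Fin 4) (Fin 4) F) * su4q3min_B = 1 := by
  ext i j
  fin_cases i <;> fin_cases j <;> simp [Matrix.mul_apply, Fin.sum_univ_four, Matrix.one_apply]

theorem su4q3min_CC : (su4q3min_C : Matrix (Fin 4) (Fin 4) F) * su4q3min_C = 1 := by
  ext i j
  fin_cases i <;> fin_cases j <;> simp [Matrix.mul_apply, Fin.sum_univ_four, Matrix.one_apply]

theorem su4q3min_DD : (su4q3min_D : Matrix (Fin 4) (Fin 4) F) * su4q3min_D = 1 := by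
  ext i j
  fin_cases i <;> fin_cases j <;> simp [Matrix.mul_apply, Fin.sum_univ_four, Matrix.one_apply]

theorem su4q3min_AB : (su4q3min_A : Matrix (Fin 4) (Fin 4) F) * su4q3min_B
    = su4q3min_B * su4q3min_A := by
  ext i j
  fin_cases i <;> fin_cases j <;> simp [Matrix.mul_apply, Fin.sum_univ_four]

theorem su4q3min_CD : (su4q3min_C : Matrix (Fin 4) (Fin 4) F) * su4q3min_D
    = su4q3min_D * su4q3min_C := by
  ext i j
  fin_cases i <;> fin_cases j <;> simp [Matrix.mul_apply, Fin.sum_univ_four]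

theorem su4q3min_AD : (su4q3min_A : Matrix (Fin 4) (Fin 4) F) * su4q3min_D
    = su4q3min_D * su4q3min_A := by
  ext i j
  fin_cases i <;> fin_cases j <;> simp [Matrix.mul_apply, Fin.sum_univ_four]

theorem su4q3min_BC : (su4q3min_B : Matrix (Fin 4) (Fin 4) F) * su4q3min_C
    = su4q3min_C * su4q3min_B := by
  ext i j
  fin_cases i <;> fin_cases j <;> simp [Matrix.mul_apply, Fin.sum_univ_four]

theorem su4q3min_AC : (su4q3min_A : Matrix (Fin 4) (Fin 4) F) * su4q3min_C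
    = -(su4q3min_C * su4q3min_A) := by
  ext i j
  fin_cases i <;> fin_cases j <;>
    simp [su4q3min_A, su4q3min_C, Matrix.mul_apply, Fin.sum_univ_four, Matrix.vecMul_diagonal,
      Matrix.diagonal_apply]

theorem su4q3min_BD : (su4q3min_B : Matrix (Fin 4) (Fin 4) F) * su4q3min_D
    = -(su4q3min_D * su4q3min_B) := by
  ext i j
  fin_cases i <;> fin_cases j <;>
    simp [su4q3min_B, su4q3min_D, Matrix.mul_apply, Fin.sum_univ_four, Matrix.vecMul_diagonal,
      Matrix.diagonal_apply]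

theorem su4q3min_WW : ((su4q3min_A : Matrix (Fin 4) (Fin 4) F) * su4q3min_B)
    * (su4q3min_A * su4q3min_B) = 1 := by
  calc ((su4q3min_A : Matrix (Fin 4) (Fin 4) F) * su4q3min_B) * (su4q3min_A * su4q3min_B)
      = su4q3min_A * (su4q3min_B * su4q3min_A) * su4q3min_B := by simp only [mul_assoc]
    _ = su4q3min_A * (su4q3min_A * su4q3min_B) * su4q3min_B := by rw [← su4q3min_AB]
    _ = (su4q3min_A * su4q3min_A) * (su4q3min_B * su4q3min_B) := by simp only [mul_assoc]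
    _ = 1 := by rw [su4q3min_AA, su4q3min_BB, mul_one]

theorem su4q3min_CA : (su4q3min_C : Matrix (Fin 4) (Fin 4) F) * su4q3min_A
    = -(su4q3min_A * su4q3min_C) := by
  rw [su4q3min_AC, neg_neg]

theorem su4q3min_DB : (su4q3min_D : Matrix (Fin 4) (Fin 4) F) * su4q3min_B
    = -(su4q3min_B * su4q3min_D) := by
  rw [su4q3min_BD, neg_neg]

theorem su4q3min_CW : (su4q3min_C : Matrix (Fin 4) (Fin 4) F) * (su4q3min_A * su4q3min_B)
    = -((su4q3min_A * su4q3min_B) * su4q3min_C) := by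
  calc (su4q3min_C : Matrix (Fin 4) (Fin 4) F) * (su4q3min_A * su4q3min_B)
      = (su4q3min_C * su4q3min_A) * su4q3min_B := by rw [mul_assoc]
    _ = -(su4q3min_A * su4q3min_C) * su4q3min_B := by rw [su4q3min_CA]
    _ = -(su4q3min_A * (su4q3min_C * su4q3min_B)) := by rw [neg_mul, mul_assoc]
    _ = -(su4q3min_A * (su4q3min_B * su4q3min_C)) := by rw [← su4q3min_BC]
    _ = -((su4q3min_A * su4q3min_B) * su4q3min_C) := by rw [mul_assoc]

theorem su4q3min_WD : ((su4q3min_A : Matrix (Fin 4) (Fin 4) F) * su4q3min_B) * su4q3min_D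
    = -(su4q3min_D * (su4q3min_A * su4q3min_B)) := by
  calc ((su4q3min_A : Matrix (Fin 4) (Fin 4) F) * su4q3min_B) * su4q3min_D
      = su4q3min_A * (su4q3min_B * su4q3min_D) := by rw [mul_assoc]
    _ = su4q3min_A * -(su4q3min_D * su4q3min_B) := by rw [su4q3min_BD]
    _ = -((su4q3min_A * su4q3min_D) * su4q3min_B) := by rw [mul_neg, mul_assoc]
    _ = -((su4q3min_D * su4q3min_A) * su4q3min_B) := by rw [su4q3min_AD]
    _ = -(su4q3min_D * (su4q3min_A * su4q3min_B)) := by rw [mul_assoc]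

/-! ### ring identities for `1 + c • P` -/

theorem su4q3min_G1 (P : Matrix (Fin 4) (Fin 4) F) (hP : P * P = 1) (a b : F) :
    (1 + a • P) * (1 + b • P) = (1 + a * b) • (1 : Matrix (Fin 4) (Fin 4) F) + (a + b) • P := by
  simp only [mul_add, add_mul, one_mul, mul_one, smul_mul_assoc, mul_smul_comm, smul_smul, hP]
  module

theorem su4q3min_G2 (P X : Matrix (Fin 4) (Fin 4) F) (hXP : X * P = -(P * X)) (a : F) :
    (1 + a • P) * X = X * (1 + (-a) • P) := by
  rw [add_mul, mul_add, one_mul, mul_one, smul_mul_assoc, mul_smul_comm, hXP]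
  module

theorem su4q3min_G4 (P X : Matrix (Fin 4) (Fin 4) F) (hXP : X * P = P * X) (a : F) :
    (1 + a • P) * X = X * (1 + a • P) := by
  rw [add_mul, mul_add, one_mul, mul_one, smul_mul_assoc, mul_smul_comm, hXP]

theorem su4q3min_S1 (P : Matrix (Fin 4) (Fin 4) F) (ι : F) (hP : P * P = 1) (hι : ι * ι = -1)
    (h2 : (2 : F) ≠ 0) : (1 + ι • P) * ((2⁻¹ : F) • (1 + (-ι) • P)) = 1 := by
  have h2' : (2⁻¹ : F) * (1 + 1) = 1 := by
    rw [one_add_one_eq_two]
    exact inv_mul_cancel₀ h2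
  have e1 : ι * -ι = 1 := by rw [mul_neg, hι, neg_neg]
  calc (1 + ι • P) * ((2⁻¹ : F) • (1 + (-ι) • P))
      = (2⁻¹ : F) • ((1 + ι • P) * (1 + (-ι) • P)) := by simp only [mul_smul_comm]
    _ = (2⁻¹ : F) • ((1 + ι * -ι) • (1 : Matrix (Fin 4) (Fin 4) F) + (ι + -ι) • P) := by
        rw [su4q3min_G1 P hP]
    _ = 1 := by rw [e1, add_neg_cancel, zero_smul, add_zero, smul_smul, h2', one_smul]

theorem su4q3min_S2 (P : Matrix (Fin 4) (Fin 4) F) (ι : F) (hP : P * P = 1) (hι : ι * ι = -1)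
    (h2 : (2 : F) ≠ 0) : ((2⁻¹ : F) • (1 + (-ι) • P)) * (1 + ι • P) = 1 := by
  have h2' : (2⁻¹ : F) * (1 + 1) = 1 := by
    rw [one_add_one_eq_two]
    exact inv_mul_cancel₀ h2
  have e2 : -ι * ι = 1 := by rw [neg_mul, hι, neg_neg]
  calc ((2⁻¹ : F) • (1 + (-ι) • P)) * (1 + ι • P)
      = (2⁻¹ : F) • ((1 + (-ι) • P) * (1 + ι • P)) := by simp only [smul_mul_assoc]
    _ = (2⁻¹ : F) • ((1 + -ι * ι) • (1 : Matrix (Fin 4) (Fin 4) F) + (-ι + ι) • P) := by
        rw [su4q3min_G1 P hP]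
    _ = 1 := by rw [e2, neg_add_cancel, zero_smul, add_zero, smul_smul, h2', one_smul]

theorem su4q3min_S3 (P X : Matrix (Fin 4) (Fin 4) F) (ι : F) (hP : P * P = 1)
    (hι : ι * ι = -1) (h2 : (2 : F) ≠ 0) (hXP : X * P = -(P * X)) :
    (1 + ι • P) * X * ((2⁻¹ : F) • (1 + (-ι) • P))
      = ((-ι) • (1 : Matrix (Fin 4) (Fin 4) F)) * X * P := by
  have e3 : -ι * -ι = -1 := by rw [neg_mul_neg, hι]
  have e4 : (2⁻¹ : F) * (-ι + -ι) = -ι := by
    field_simp
    ring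
  calc (1 + ι • P) * X * ((2⁻¹ : F) • (1 + (-ι) • P))
      = X * (1 + (-ι) • P) * ((2⁻¹ : F) • (1 + (-ι) • P)) := by rw [su4q3min_G2 P X hXP ι]
    _ = (2⁻¹ : F) • (X * ((1 + (-ι) • P) * (1 + (-ι) • P))) := by
        simp only [mul_assoc, mul_smul_comm]
    _ = (2⁻¹ : F) • (X * ((1 + -ι * -ι) • (1 : Matrix (Fin 4) (Fin 4) F) + (-ι + -ι) • P)) := by
        rw [su4q3min_G1 P hP]
    _ = ((-ι) • (1 : Matrix (Fin 4) (Fin 4) F)) * X * P := by
        rw [e3, add_neg_cancel, zero_smul, zero_add, mul_smul_comm, smul_smul, e4,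
          smul_mul_assoc, one_mul, smul_mul_assoc]

theorem su4q3min_S4 (P X : Matrix (Fin 4) (Fin 4) F) (ι : F) (hP : P * P = 1)
    (hι : ι * ι = -1) (h2 : (2 : F) ≠ 0) (hXP : X * P = -(P * X)) :
    ((2⁻¹ : F) • (1 + (-ι) • P)) * X * (1 + ι • P)
      = (ι • (1 : Matrix (Fin 4) (Fin 4) F)) * X * P := by
  have e4 : (2⁻¹ : F) * (ι + ι) = ι := by
    field_simp
    ring
  have e5 : (1 + (-ι) • P) * X = X * (1 + ι • P) := by
    have h := su4q3min_G2 P X hXP (-ι)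
    rw [neg_neg] at h
    exact h
  calc ((2⁻¹ : F) • (1 + (-ι) • P)) * X * (1 + ι • P)
      = (2⁻¹ : F) • (((1 + (-ι) • P) * X) * (1 + ι • P)) := by simp only [smul_mul_assoc]
    _ = (2⁻¹ : F) • (X * ((1 + ι • P) * (1 + ι • P))) := by rw [e5, mul_assoc]
    _ = (2⁻¹ : F) • (X * ((1 + ι * ι) • (1 : Matrix (Fin 4) (Fin 4) F) + (ι + ι) • P)) := by
        rw [su4q3min_G1 P hP]
    _ = (ι • (1 : Matrix (Fin 4) (Fin 4) F)) * X * P := by
        rw [hι, add_neg_cancel, zero_smul, zero_add, mul_smul_comm, smul_smul, e4,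
          smul_mul_assoc, one_mul, smul_mul_assoc]

/-- KEY LEMMA: for an involution `p` of `R`, the unit `1 + ι • p` normalises `R` and conjugates
every `x` anticommuting with `p` to `(-ι) x p`. -/
theorem su4q3min_key (ι : F) (hι : ι * ι = -1) (h2 : (2 : F) ≠ 0) (R : Subgroup (GL (Fin 4) F))
    (hAC : ∀ x ∈ R, ∀ y ∈ R, x.1 * y.1 = y.1 * x.1 ∨ x.1 * y.1 = -(y.1 * x.1))
    (z zm : GL (Fin 4) F) (hz : z.1 = ι • (1 : Matrix (Fin 4) (Fin 4) F))
    (hzm : zm.1 = (-ι) • (1 : Matrix (Fin 4) (Fin 4) F)) (hzR : z ∈ R) (hzmR : zm ∈ R)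
    (p : GL (Fin 4) F) (hp : p ∈ R) (hpp : p.1 * p.1 = 1) :
    ∃ u : GL (Fin 4) F, u ∈ Subgroup.normalizer (R : Set (GL (Fin 4) F)) ∧
      ∀ x : GL (Fin 4) F, x.1 * p.1 = -(p.1 * x.1) → u * x * u⁻¹ = zm * x * p := by
  let u : GL (Fin 4) F :=
    ⟨1 + ι • p.1, (2⁻¹ : F) • (1 + (-ι) • p.1), su4q3min_S1 p.1 ι hpp hι h2,
      su4q3min_S2 p.1 ι hpp hι h2⟩
  have hu : u.1 = 1 + ι • p.1 := rfl
  have hui : (u⁻¹ : GL (Fin 4) F).1 = (2⁻¹ : F) • (1 + (-ι) • p.1) := rfl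
  have hcomm : ∀ x : GL (Fin 4) F, x.1 * p.1 = p.1 * x.1 → u * x = x * u := by
    intro x hx
    apply Units.ext
    rw [Units.val_mul, Units.val_mul, hu]
    exact su4q3min_G4 p.1 x.1 hx ι
  have hanti1 : ∀ x : GL (Fin 4) F, x.1 * p.1 = -(p.1 * x.1) → u * x * u⁻¹ = zm * x * p := by
    intro x hx
    apply Units.ext
    rw [Units.val_mul, Units.val_mul, Units.val_mul, Units.val_mul, hu, hui, hzm]
    exact su4q3min_S3 p.1 x.1 ι hpp hι h2 hx
  have hanti2 : ∀ x : GL (Fin 4) F, x.1 * p.1 = -(p.1 * x.1) → u⁻¹ * x * u = z * x * p := by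
    intro x hx
    apply Units.ext
    rw [Units.val_mul, Units.val_mul, Units.val_mul, Units.val_mul, hu, hui, hz]
    exact su4q3min_S4 p.1 x.1 ι hpp hι h2 hx
  refine ⟨u, ?_, hanti1⟩
  rw [Subgroup.mem_normalizer_iff]
  intro h
  constructor
  · intro hh
    rcases hAC h hh p hp with hc | ha
    · rw [hcomm h hc, mul_inv_cancel_right]
      exact hh
    · rw [hanti1 h ha]
      exact R.mul_mem (R.mul_mem hzmR hh) hp
  · intro hh
    have hh' : h = u⁻¹ * (u * h * u⁻¹) * u := by group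
    rw [hh']
    rcases hAC (u * h * u⁻¹) hh p hp with hc | ha
    · have e : u⁻¹ * (u * h * u⁻¹) * u = u * h * u⁻¹ := by
        rw [mul_assoc u⁻¹, ← hcomm (u * h * u⁻¹) hc, inv_mul_cancel_left]
      rw [e]
      exact hh
    · rw [hanti2 (u * h * u⁻¹) ha]
      exact R.mul_mem (R.mul_mem hzR hh) hp

/-- CONSEQUENCE: a subgroup normalised by the normaliser of `R`, containing `a` anticommuting
with the involution `p` of `R`, contains `(-ι) p`. -/
theorem su4q3min_step (ι : F) (hι : ι * ι = -1) (h2 : (2 : F) ≠ 0) (R : Subgroup (GL (Fin 4) F))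
    (hAC : ∀ x ∈ R, ∀ y ∈ R, x.1 * y.1 = y.1 * x.1 ∨ x.1 * y.1 = -(y.1 * x.1))
    (z zm : GL (Fin 4) F) (hz : z.1 = ι • (1 : Matrix (Fin 4) (Fin 4) F))
    (hzm : zm.1 = (-ι) • (1 : Matrix (Fin 4) (Fin 4) F)) (hzR : z ∈ R) (hzmR : zm ∈ R)
    (L' : Subgroup (GL (Fin 4) F)) (hN : Nrm (subgroupNormalizer R) L')
    (a : GL (Fin 4) F) (ha : a ∈ L') (p : GL (Fin 4) F) (hp : p ∈ R) (hpp : p.1 * p.1 = 1)
    (hap : a.1 * p.1 = -(p.1 * a.1)) : zm * p ∈ L' := by
  obtain ⟨u, hu, hconj⟩ := su4q3min_key ι hι h2 R hAC z zm hz hzm hzR hzmR p hp hpp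
  have h1 : u * a * u⁻¹ ∈ L' := hN u hu a ha
  rw [hconj a hap] at h1
  have hcen : zm * a = a * zm := by
    apply Units.ext
    rw [Units.val_mul, Units.val_mul, hzm, smul_mul_assoc, one_mul, mul_smul_comm, mul_one]
  have h3 : a⁻¹ * (zm * a * p) ∈ L' := L'.mul_mem (L'.inv_mem ha) h1
  have e : a⁻¹ * (zm * a * p) = zm * p := by
    rw [hcen]
    group
  rw [e] at h3
  exact h3

/-- one step along a chain of anticommuting involutions -/
theorem su4q3min_chain (ι : F) (hι : ι * ι = -1) (h2 : (2 : F) ≠ 0)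
    (R : Subgroup (GL (Fin 4) F))
    (hAC : ∀ x ∈ R, ∀ y ∈ R, x.1 * y.1 = y.1 * x.1 ∨ x.1 * y.1 = -(y.1 * x.1))
    (z zm : GL (Fin 4) F) (hz : z.1 = ι • (1 : Matrix (Fin 4) (Fin 4) F))
    (hzm : zm.1 = (-ι) • (1 : Matrix (Fin 4) (Fin 4) F)) (hzR : z ∈ R) (hzmR : zm ∈ R)
    (L' : Subgroup (GL (Fin 4) F)) (hN : Nrm (subgroupNormalizer R) L')
    (g g' : GL (Fin 4) F) (hg : zm * g ∈ L') (hg' : g' ∈ R) (hgg : g'.1 * g'.1 = 1)
    (hanti : g.1 * g'.1 = -(g'.1 * g.1)) : zm * g' ∈ L' := by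
  apply su4q3min_step ι hι h2 R hAC z zm hz hzm hzR hzmR L' hN (zm * g) hg g' hg' hgg
  simp only [Units.val_mul, hzm, smul_mul_assoc, one_mul, mul_smul_comm, hanti, smul_neg]

/-- Q3MIN: the Pauli group is a minimal non-scalar normal subgroup of its normaliser. -/
theorem Q3MIN (ι : F) (hι : ι ^ 2 = -1) (h2 : (2 : F) ≠ 0)
    (hAC : ∀ x ∈ su4Pauli ι, ∀ y ∈ su4Pauli ι,
      x.1 * y.1 = y.1 * x.1 ∨ x.1 * y.1 = -(y.1 * x.1))
    (hirr : ActsAbsolutelyIrreducibly (matrixSet (su4Pauli ι))) :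
    IsMinNS (subgroupNormalizer (su4Pauli ι)) (su4Pauli ι) := by
  have hιι : ι * ι = -1 := by
    rw [← sq]
    exact hι
  let zm : GL (Fin 4) F := ⟨(-ι) • 1, ι • 1,
    by rw [smul_mul_smul_comm, mul_one, neg_mul, hιι, neg_neg, one_smul],
    by rw [smul_mul_smul_comm, mul_one, mul_neg, hιι, neg_neg, one_smul]⟩
  let z : GL (Fin 4) F := zm⁻¹
  let Z1 : GL (Fin 4) F := ⟨su4q3min_A, su4q3min_A, su4q3min_AA, su4q3min_AA⟩
  let Z2 : GL (Fin 4) F := ⟨su4q3min_B, su4q3min_B, su4q3min_BB, su4q3min_BB⟩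
  let X1 : GL (Fin 4) F := ⟨su4q3min_C, su4q3min_C, su4q3min_CC, su4q3min_CC⟩
  let X2 : GL (Fin 4) F := ⟨su4q3min_D, su4q3min_D, su4q3min_DD, su4q3min_DD⟩
  have hz : z.1 = ι • (1 : Matrix (Fin 4) (Fin 4) F) := rfl
  have hzm : zm.1 = (-ι) • (1 : Matrix (Fin 4) (Fin 4) F) := rfl
  have hzR : z ∈ su4Pauli ι := Subgroup.subset_closure (Or.inl rfl)
  have hzmR : zm ∈ su4Pauli ι := by
    have h : zm⁻¹⁻¹ ∈ su4Pauli ι := (su4Pauli ι).inv_mem hzR
    rwa [inv_inv] at h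
  have hZ1R : Z1 ∈ su4Pauli ι := Subgroup.subset_closure (Or.inr (Or.inl rfl))
  have hZ2R : Z2 ∈ su4Pauli ι := Subgroup.subset_closure (Or.inr (Or.inr (Or.inl rfl)))
  have hX1R : X1 ∈ su4Pauli ι :=
    Subgroup.subset_closure (Or.inr (Or.inr (Or.inr (Or.inl rfl))))
  have hX2R : X2 ∈ su4Pauli ι :=
    Subgroup.subset_closure (Or.inr (Or.inr (Or.inr (Or.inr rfl))))
  refine ⟨Subgroup.le_normalizer, ?_, ?_, ?_⟩
  · intro h hh x hx
    exact (Subgroup.mem_normalizer_iff.1 hh x).1 hx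
  · intro hle
    have h1 := hle hZ1R
    rw [mem_scalars_iff] at h1
    obtain ⟨c, hc⟩ := h1
    have h00 : (su4q3min_A : Matrix (Fin 4) (Fin 4) F) 0 0
        = ((c : F) • (1 : Matrix (Fin 4) (Fin 4) F)) 0 0 := congrFun (congrFun hc 0) 0
    have h22 : (su4q3min_A : Matrix (Fin 4) (Fin 4) F) 2 2
        = ((c : F) • (1 : Matrix (Fin 4) (Fin 4) F)) 2 2 := congrFun (congrFun hc 2) 2
    have e00 : (su4q3min_A : Matrix (Fin 4) (Fin 4) F) 0 0 = 1 := by simp [su4q3min_A]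
    have e22 : (su4q3min_A : Matrix (Fin 4) (Fin 4) F) 2 2 = -1 := by simp [su4q3min_A]
    have f00 : ((c : F) • (1 : Matrix (Fin 4) (Fin 4) F)) 0 0 = c := by simp
    have f22 : ((c : F) • (1 : Matrix (Fin 4) (Fin 4) F)) 2 2 = c := by simp
    have h1c : (c : F) = 1 := by rw [← f00, ← h00, e00]
    have h2c : (c : F) = -1 := by rw [← f22, ← h22, e22]
    apply h2
    linear_combination h2c - h1c
  · intro L' hL'R hN
    by_cases hsc : L' ≤ scalars (Fin 4) F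
    · exact Or.inl hsc
    right
    rw [SetLike.not_le_iff_exists] at hsc
    obtain ⟨a, haL, hans⟩ := hsc
    have haR : a ∈ su4Pauli ι := hL'R haL
    have hex : ∃ g : GL (Fin 4) F, (g = Z1 ∨ g = Z2 ∨ g = X1 ∨ g = X2) ∧
        a.1 * g.1 = -(g.1 * a.1) := by
      by_contra hno
      push Not at hno
      have hc : ∀ g : GL (Fin 4) F, (g = Z1 ∨ g = Z2 ∨ g = X1 ∨ g = X2) →
          a.1 * g.1 = g.1 * a.1 := by
        intro g hg
        have hgR : g ∈ su4Pauli ι := by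
          rcases hg with rfl | rfl | rfl | rfl <;> assumption
        rcases hAC a haR g hgR with h | h
        · exact h
        · exact absurd h (hno g hg)
      have hle : su4Pauli ι ≤ Subgroup.centralizer {a} := by
        unfold su4Pauli
        rw [Subgroup.closure_le]
        intro g hg
        rw [SetLike.mem_coe, Subgroup.mem_centralizer_iff]
        intro y hy
        rw [Set.mem_singleton_iff] at hy
        subst hy
        apply Units.ext
        rw [Units.val_mul, Units.val_mul]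
        rcases hg with h | h | h | h | h
        · rw [h, mul_smul_comm, mul_one, smul_mul_assoc, one_mul]
        · rw [h]
          exact hc Z1 (Or.inl rfl)
        · rw [h]
          exact hc Z2 (Or.inr (Or.inl rfl))
        · rw [h]
          exact hc X1 (Or.inr (Or.inr (Or.inl rfl)))
        · rw [h]
          exact hc X2 (Or.inr (Or.inr (Or.inr rfl)))
      have hall : ∀ x ∈ su4Pauli ι, a.1 * x.1 = x.1 * a.1 := by
        intro x hx
        have h3 := (Subgroup.mem_centralizer_iff.1 (hle hx)) a (Set.mem_singleton a)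
        have h4 := congrArg Units.val h3
        rwa [Units.val_mul, Units.val_mul] at h4
      obtain ⟨c, hc'⟩ := hirr.2 a.1 (by
        rintro s ⟨x, hx, rfl⟩
        exact hall x hx)
      apply hans
      rw [mem_scalars_iff]
      have hc0 : c ≠ 0 := by
        rintro rfl
        rw [zero_smul] at hc'
        have hu := a.isUnit
        rw [hc'] at hu
        exact not_isUnit_zero hu
      exact ⟨Units.mk0 c hc0, hc'⟩
    obtain ⟨g, hg, hag⟩ := hex
    have hgR : g ∈ su4Pauli ι := by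
      rcases hg with rfl | rfl | rfl | rfl <;> assumption
    have hgg : g.1 * g.1 = 1 := by
      rcases hg with rfl | rfl | rfl | rfl
      · exact su4q3min_AA
      · exact su4q3min_BB
      · exact su4q3min_CC
      · exact su4q3min_DD
    have hg0 : zm * g ∈ L' :=
      su4q3min_step ι hιι h2 (su4Pauli ι) hAC z zm hz hzm hzR hzmR L' hN a haL g hgR hgg hag
    have hWR : Z1 * Z2 ∈ su4Pauli ι := (su4Pauli ι).mul_mem hZ1R hZ2R
    have hWW : (Z1 * Z2).1 * (Z1 * Z2).1 = 1 := su4q3min_WW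
    have a1 : Z1.1 * X1.1 = -(X1.1 * Z1.1) := su4q3min_AC
    have a1' : X1.1 * Z1.1 = -(Z1.1 * X1.1) := su4q3min_CA
    have a2 : X1.1 * (Z1 * Z2).1 = -((Z1 * Z2).1 * X1.1) := su4q3min_CW
    have a2' : (Z1 * Z2).1 * X1.1 = -(X1.1 * (Z1 * Z2).1) := by rw [a2, neg_neg]
    have a3 : (Z1 * Z2).1 * X2.1 = -(X2.1 * (Z1 * Z2).1) := su4q3min_WD
    have a3' : X2.1 * (Z1 * Z2).1 = -((Z1 * Z2).1 * X2.1) := by rw [a3, neg_neg]
    have a4' : Z2.1 * X2.1 = -(X2.1 * Z2.1) := su4q3min_BD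
    have a4 : X2.1 * Z2.1 = -(Z2.1 * X2.1) := su4q3min_DB
    have ch := su4q3min_chain ι hιι h2 (su4Pauli ι) hAC z zm hz hzm hzR hzmR L' hN
    have hall5 : zm * Z1 ∈ L' ∧ zm * X1 ∈ L' ∧ zm * (Z1 * Z2) ∈ L' ∧ zm * X2 ∈ L' ∧
        zm * Z2 ∈ L' := by
      rcases hg with rfl | rfl | rfl | rfl
      · have k1 := ch Z1 X1 hg0 hX1R su4q3min_CC a1
        have k2 := ch X1 (Z1 * Z2) k1 hWR hWW a2
        have k3 := ch (Z1 * Z2) X2 k2 hX2R su4q3min_DD a3
        have k4 := ch X2 Z2 k3 hZ2R su4q3min_BB a4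
        exact ⟨hg0, k1, k2, k3, k4⟩
      · have k1 := ch Z2 X2 hg0 hX2R su4q3min_DD a4'
        have k2 := ch X2 (Z1 * Z2) k1 hWR hWW a3'
        have k3 := ch (Z1 * Z2) X1 k2 hX1R su4q3min_CC a2'
        have k4 := ch X1 Z1 k3 hZ1R su4q3min_AA a1'
        exact ⟨k4, k3, k2, k1, hg0⟩
      · have k1 := ch X1 Z1 hg0 hZ1R su4q3min_AA a1'
        have k2 := ch X1 (Z1 * Z2) hg0 hWR hWW a2
        have k3 := ch (Z1 * Z2) X2 k2 hX2R su4q3min_DD a3
        have k4 := ch X2 Z2 k3 hZ2R su4q3min_BB a4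
        exact ⟨k1, hg0, k2, k3, k4⟩
      · have k1 := ch X2 Z2 hg0 hZ2R su4q3min_BB a4
        have k2 := ch X2 (Z1 * Z2) hg0 hWR hWW a3'
        have k3 := ch (Z1 * Z2) X1 k2 hX1R su4q3min_CC a2'
        have k4 := ch X1 Z1 k3 hZ1R su4q3min_AA a1'
        exact ⟨k4, k3, k2, hg0, k1⟩
    obtain ⟨hZ1L, hX1L, hWL, hX2L, hZ2L⟩ := hall5
    have hcen : ∀ x : GL (Fin 4) F, zm * x = x * zm := by
      intro x
      apply Units.ext
      rw [Units.val_mul, Units.val_mul, hzm, smul_mul_assoc, one_mul, mul_smul_comm, mul_one]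
    have hzL : zm⁻¹ ∈ L' := by
      have h5 : (zm * Z1) * (zm * Z2) ∈ L' := L'.mul_mem hZ1L hZ2L
      have h6 : (zm * (Z1 * Z2)) * ((zm * Z1) * (zm * Z2))⁻¹ ∈ L' :=
        L'.mul_mem hWL (L'.inv_mem h5)
      have e1 : (zm * Z1) * (zm * Z2) = zm * zm * (Z1 * Z2) := by
        calc (zm * Z1) * (zm * Z2) = zm * (Z1 * zm) * Z2 := by group
          _ = zm * (zm * Z1) * Z2 := by rw [hcen Z1]
          _ = zm * zm * (Z1 * Z2) := by group
      have e : (zm * (Z1 * Z2)) * ((zm * Z1) * (zm * Z2))⁻¹ = zm⁻¹ := by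
        rw [e1]
        group
      rw [e] at h6
      exact h6
    have hmul : ∀ x : GL (Fin 4) F, zm * x ∈ L' → x ∈ L' := by
      intro x hx
      have h7 := L'.mul_mem hzL hx
      rw [inv_mul_cancel_left] at h7
      exact h7
    have hZ1L' := hmul Z1 hZ1L
    have hZ2L' := hmul Z2 hZ2L
    have hX1L' := hmul X1 hX1L
    have hX2L' := hmul X2 hX2L
    apply le_antisymm hL'R
    unfold su4Pauli
    rw [Subgroup.closure_le]
    intro x hx
    rcases hx with h | h | h | h | h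
    · have e : x = zm⁻¹ := Units.ext h
      rw [SetLike.mem_coe, e]
      exact hzL
    · have e : x = Z1 := Units.ext h
      rw [SetLike.mem_coe, e]
      exact hZ1L'
    · have e : x = Z2 := Units.ext h
      rw [SetLike.mem_coe, e]
      exact hZ2L'
    · have e : x = X1 := Units.ext h
      rw [SetLike.mem_coe, e]
      exact hX1L'
    · have e : x = X2 := Units.ext h
      rw [SetLike.mem_coe, e]
      exact hX2L'

end Cfsg.Agent.Lib.Helper28.SU4Q3MIN
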