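import Mathlib
import Cfsg.Agent.Lib.Helper22.TGDefs
import Cfsg.Agent.Lib.Helper83.CharBasic

/-!
# TGC piece ORB (job 1146, poster helper33): the number of `N`-conjugates of `θK`
-/

set_option autoImplicit false

namespace Cfsg.Agent.Lib.Helper28.TGC

open Cfsg Cfsg.Agent.Lib.Helper22.TG

/-- abstract orbit–stabilizer count -/
theorem h28_card_orb_aux {G : Type*} [Group G] {X : Type*} (N T : Subgroup G) (φ : G → X)
    (h : ∀ n ∈ N, ∀ n' ∈ N, φ n = φ n' ↔ n⁻¹ * n' ∈ T) :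
    Nat.card {f : X | ∃ n ∈ N, f = φ n} = T.relIndex N := by
  unfold Subgroup.relIndex Subgroup.index
  symm
  let F : N ⧸ T.subgroupOf N → {f : X | ∃ n ∈ N, f = φ n} :=
    Quotient.lift (fun n : N => (⟨φ n, n, n.2, rfl⟩ : {f : X | ∃ n ∈ N, f = φ n})) (by
      intro a b hab
      have h1 : a⁻¹ * b ∈ T.subgroupOf N := QuotientGroup.leftRel_apply.mp hab
      rw [Subgroup.mem_subgroupOf] at h1
      apply Subtype.ext
      exact (h a a.2 b b.2).mpr h1)
  apply Nat.card_congr (Equiv.ofBijective F ⟨?_, ?_⟩)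
  · intro a b
    induction a using QuotientGroup.induction_on with
    | H a =>
      induction b using QuotientGroup.induction_on with
      | H b =>
        intro hab
        apply QuotientGroup.eq.mpr
        rw [Subgroup.mem_subgroupOf]
        exact (h a a.2 b b.2).mp (congrArg Subtype.val hab)
  · rintro ⟨f, n, hn, rfl⟩
    exact ⟨QuotientGroup.mk ⟨n, hn⟩, rfl⟩

/-- a Sylow subgroup of prime order is generated by each of its nontrivial elements -/
theorem h28_sylow_eq_zpowers {G : Type*} [Group G] [Finite G] (p : ℕ) [Fact p.Prime]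
    (P : Sylow p G) (hP : Nat.card P = p) (z : G) (hz : z ∈ (P : Subgroup G)) (hz1 : z ≠ 1) :
    Subgroup.zpowers z = (P : Subgroup G) := by
  have hle : Subgroup.zpowers z ≤ (P : Subgroup G) := Subgroup.zpowers_le.mpr hz
  apply Subgroup.eq_of_le_of_card_ge hle
  rw [Nat.card_zpowers]
  have hdvd : orderOf z ∣ p := by
    have h1 : orderOf (⟨z, hz⟩ : (P : Subgroup G)) ∣ Nat.card (P : Subgroup G) :=
      orderOf_dvd_natCard _
    rw [Subgroup.orderOf_mk] at h1
    rwa [hP] at h1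
  rcases (Nat.dvd_prime (Fact.out : p.Prime)).mp hdvd with h | h
  · exact absurd (orderOf_eq_one_iff.mp h) hz1
  · rw [hP, h]

/-- `p`-part / `p'`-part decomposition of an element centralizing a Sylow subgroup of order `p` -/
theorem h28_decomp {G : Type*} [Group G] [Finite G] (p : ℕ) [Fact p.Prime]
    (P : Sylow p G) (c : G) (hc : ∀ x ∈ (P : Subgroup G), c * x = x * c) :
    ∃ x ∈ (P : Subgroup G), ∃ y : G, (∃ k : ℤ, y = c ^ k) ∧ ¬ p ∣ orderOf y ∧ c = x * y := by
  have hp : p.Prime := Fact.out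
  have ho : orderOf c ≠ 0 := (orderOf_pos c).ne'
  obtain ⟨a, m, hpm, hom⟩ := Nat.exists_eq_pow_mul_and_not_dvd ho p hp.ne_one
  have hcop : IsCoprime ((p ^ a : ℕ) : ℤ) (m : ℤ) := by
    rw [Nat.isCoprime_iff_coprime]
    exact Nat.Coprime.pow_left a ((Nat.Prime.coprime_iff_not_dvd hp).mpr hpm)
  obtain ⟨u, v, huv⟩ := hcop
  set x : G := c ^ (v * (m : ℤ)) with hx
  set y : G := c ^ (u * ((p ^ a : ℕ) : ℤ)) with hy
  have hxy : c = x * y := by
    rw [hx, hy, ← zpow_add, add_comm, huv, zpow_one]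
  have hxp : x ^ (p ^ a) = 1 := by
    rw [hx, ← zpow_natCast, ← zpow_mul]
    have e : v * (m : ℤ) * ((p ^ a : ℕ) : ℤ) = ((orderOf c : ℕ) : ℤ) * v := by
      rw [hom]; push_cast; ring
    rw [e, zpow_mul, zpow_natCast, pow_orderOf_eq_one, one_zpow]
  have hym : y ^ m = 1 := by
    rw [hy, ← zpow_natCast, ← zpow_mul]
    have e : u * ((p ^ a : ℕ) : ℤ) * (m : ℤ) = ((orderOf c : ℕ) : ℤ) * u := by
      rw [hom]; push_cast; ring
    rw [e, zpow_mul, zpow_natCast, pow_orderOf_eq_one, one_zpow]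
  have hyo : ¬ p ∣ orderOf y := fun h => hpm (h.trans (orderOf_dvd_of_pow_eq_one hym))
  -- `x ∈ P`
  have hxP : x ∈ (P : Subgroup G) := by
    have hxpg : IsPGroup p (Subgroup.zpowers x) := by
      apply IsPGroup.of_card (n := (Nat.factorization (orderOf x)) p)
      rw [Nat.card_zpowers]
      obtain ⟨k, -, hk⟩ := (Nat.dvd_prime_pow hp).mp (orderOf_dvd_of_pow_eq_one hxp)
      rw [hk, Nat.factorization_pow, Nat.Prime.factorization hp]
      simp
    have hnorm : Subgroup.zpowers x ≤ Subgroup.normalizer ((P : Subgroup G) : Set G) := by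
      rw [Subgroup.zpowers_le]
      have hcx : ∀ w ∈ (P : Subgroup G), x * w = w * x := by
        intro w hw
        have : Commute c w := hc w hw
        exact (this.zpow_left _)
      rw [Subgroup.mem_set_normalizer_iff]
      intro w
      constructor
      · intro hw
        have : x * w * x⁻¹ = w := by rw [hcx w hw, mul_inv_cancel_right]
        rw [this]; exact hw
      · intro hw
        have h2 := hcx _ hw
        have : w = x * w * x⁻¹ := by
          have h3 : x * (x * w * x⁻¹) = x * w := by rw [h2]; group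
          exact (mul_left_cancel h3).symm
        rw [this]; exact hw
    have hQ := IsPGroup.to_sup_of_normal_right' hxpg P.isPGroup' hnorm
    have hmax := P.is_maximal' hQ le_sup_right
    have : x ∈ Subgroup.zpowers x ⊔ (P : Subgroup G) :=
      (le_sup_left : Subgroup.zpowers x ≤ _) (Subgroup.mem_zpowers x)
    rwa [hmax] at this
  exact ⟨x, hxP, y, ⟨_, rfl⟩, hyo, hxy⟩

/-- elements in the kernel of an irreducible character do not change its values -/
theorem h28_irr_mul_of_ker {C : Type*} [Group C] [Finite C] (θ : IrrCharacter C)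
    (k : C) (hk : (θ : C → ℂ) k = (θ : C → ℂ) 1) (g : C) :
    (θ : C → ℂ) (k * g) = (θ : C → ℂ) g := by
  obtain ⟨n, ρ, -, hρ⟩ := θ.2
  rw [← hρ] at hk ⊢
  have h1 := Cfsg.Agent.Lib.Helper83.rho_eq_one_of_char_eq ρ k hk
  show LinearMap.trace ℂ _ (ρ (k * g)) = LinearMap.trace ℂ _ (ρ g)
  rw [map_mul, h1, one_mul]

variable {G : Type*} [Group G] [Fintype G] (p : ℕ) [Fact p.Prime]

/-- PIECE TGC-ORB : the number of `N`-conjugates of `θK`. -/
theorem card_orb (P : Sylow p G) (hP : Nat.card P = p)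
    (z : G) (hz : z ∈ (P : Subgroup G)) (hz1 : z ≠ 1)
    (θ : IrrCharacter (Subgroup.centralizer ((P : Subgroup G) : Set G)))
    (hθP : ∀ x : Subgroup.centralizer ((P : Subgroup G) : Set G), (x : G) ∈ (P : Subgroup G) →
      (θ : Subgroup.centralizer ((P : Subgroup G) : Set G) → ℂ) x =
        (θ : Subgroup.centralizer ((P : Subgroup G) : Set G) → ℂ) 1)
    (T : Subgroup G)
    (hT : ∀ g : G, g ∈ T ↔ (g ∈ Subgroup.normalizer ((P : Subgroup G) : Set G) ∧
      ∀ c c' : Subgroup.centralizer ((P : Subgroup G) : Set G), (c' : G) = g * c * g⁻¹ →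
        (θ : Subgroup.centralizer ((P : Subgroup G) : Set G) → ℂ) c' =
          (θ : Subgroup.centralizer ((P : Subgroup G) : Set G) → ℂ) c))
    (K : Subgroup G) (θK : IrrCharacter K)
    (hK : ∀ y : G, y ∈ K ↔ (y * z = z * y ∧ ¬ p ∣ orderOf y))
    (hres : ∀ (y : K) (c : Subgroup.centralizer ((P : Subgroup G) : Set G)), (c : G) = (y : G) →
      (θK : K → ℂ) y = (θ : Subgroup.centralizer ((P : Subgroup G) : Set G) → ℂ) c) :
    Nat.card (orb K (θK : K → ℂ)
      (Subgroup.normalizer ((Subgroup.zpowers z : Subgroup G) : Set G))) =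
        T.relIndex (Subgroup.normalizer ((P : Subgroup G) : Set G)) := by
  have hPz := h28_sylow_eq_zpowers p P hP z hz hz1
  rw [hPz]
  -- commuting with `z` is commuting with `P`
  have hcomm : ∀ y : G, y * z = z * y → ∀ x ∈ (P : Subgroup G), y * x = x * y := by
    intro y hy x hx
    rw [← hPz] at hx
    obtain ⟨k, rfl⟩ := Subgroup.mem_zpowers_iff.mp hx
    have : Commute y z := hy
    exact this.zpow_right k
  have hKC : ∀ y ∈ K, y ∈ Subgroup.centralizer ((P : Subgroup G) : Set G) := by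
    intro y hy
    rw [Subgroup.mem_centralizer_iff]
    intro x hx
    exact (hcomm y ((hK y).mp hy).1 x hx).symm
  have hPC : ∀ x ∈ (P : Subgroup G), x ∈ Subgroup.centralizer ((P : Subgroup G) : Set G) := by
    intro x hx
    rw [Subgroup.mem_centralizer_iff]
    intro w hw
    have hzx : x * z = z * x := by
      have hx' := hx
      rw [← hPz] at hx'
      obtain ⟨k, rfl⟩ := Subgroup.mem_zpowers_iff.mp hx'
      exact ((Commute.refl z).zpow_left k)
    exact (hcomm x hzx w hw).symm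
  -- `N` normalizes `K`
  have hNK : ∀ n ∈ Subgroup.normalizer ((P : Subgroup G) : Set G), ∀ y ∈ K, n * y * n⁻¹ ∈ K := by
    intro n hn y hy
    obtain ⟨hyz, hyo⟩ := (hK y).mp hy
    rw [hK]
    constructor
    · have hw : n⁻¹ * z * n ∈ (P : Subgroup G) :=
        (Subgroup.mem_set_normalizer_iff''.mp hn z).mp hz
      have h1 := hcomm y hyz _ hw
      calc n * y * n⁻¹ * z = n * (y * (n⁻¹ * z * n)) * n⁻¹ := by group
        _ = n * ((n⁻¹ * z * n) * y) * n⁻¹ := by rw [h1]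
        _ = z * (n * y * n⁻¹) := by group
    · have h2 : orderOf (n * y * n⁻¹) = orderOf y := by
        have h3 := MulEquiv.orderOf_eq (MulAut.conj n) y
        rwa [MulAut.conj_apply] at h3
      rw [h2]; exact hyo
  have hNK' : ∀ n ∈ Subgroup.normalizer ((P : Subgroup G) : Set G), ∀ y ∈ K, n⁻¹ * y * n ∈ K := by
    intro n hn y hy
    have h := hNK n⁻¹ (Subgroup.inv_mem _ hn) y hy
    rwa [inv_inv] at h
  -- the stabilizer criterion
  have hstab1 : ∀ g ∈ T, ∀ (y : K) (hy' : g * (y : G) * g⁻¹ ∈ K),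
      (θK : K → ℂ) ⟨g * (y : G) * g⁻¹, hy'⟩ = (θK : K → ℂ) y := by
    intro g hg y hy'
    have h1 := ((hT g).mp hg).2 ⟨(y : G), hKC _ y.2⟩ ⟨g * (y : G) * g⁻¹, hKC _ hy'⟩ rfl
    rw [hres ⟨g * (y : G) * g⁻¹, hy'⟩ ⟨g * (y : G) * g⁻¹, hKC _ hy'⟩ rfl,
      hres y ⟨(y : G), hKC _ y.2⟩ rfl]
    exact h1
  have hstab2 : ∀ g ∈ Subgroup.normalizer ((P : Subgroup G) : Set G), (∀ (y : K) (hy' : g * (y : G) * g⁻¹ ∈ K),
      (θK : K → ℂ) ⟨g * (y : G) * g⁻¹, hy'⟩ = (θK : K → ℂ) y) → g ∈ T := by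
    intro g hg hinv
    rw [hT]
    refine ⟨hg, ?_⟩
    intro c c' hcc'
    have hcP : ∀ x ∈ (P : Subgroup G), (c : G) * x = x * (c : G) := by
      intro x hx
      exact ((Subgroup.mem_centralizer_iff.mp c.2) x hx).symm
    obtain ⟨x, hx, y, ⟨k, hyk⟩, hyo, hxy⟩ := h28_decomp p P (c : G) hcP
    have hyz : y * z = z * y := by
      rw [hyk]
      have : Commute (c : G) z := hcP z hz
      exact this.zpow_left k
    have hyK : y ∈ K := (hK y).mpr ⟨hyz, hyo⟩
    have hy'K : g * y * g⁻¹ ∈ K := hNK g hg y hyK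
    have hx'P : g * x * g⁻¹ ∈ (P : Subgroup G) :=
      (Subgroup.mem_set_normalizer_iff.mp hg x).mp hx
    have e1 : c = (⟨x, hPC x hx⟩ : Subgroup.centralizer ((P : Subgroup G) : Set G)) * ⟨y, hKC y hyK⟩ := Subtype.ext hxy
    have e2 : c' = (⟨g * x * g⁻¹, hPC _ hx'P⟩ : Subgroup.centralizer ((P : Subgroup G) : Set G)) * ⟨g * y * g⁻¹, hKC _ hy'K⟩ := by
      apply Subtype.ext
      rw [hcc', hxy]
      show g * (x * y) * g⁻¹ = g * x * g⁻¹ * (g * y * g⁻¹)
      group
    rw [e1, e2, h28_irr_mul_of_ker θ ⟨x, hPC x hx⟩ (hθP ⟨x, hPC x hx⟩ hx),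
      h28_irr_mul_of_ker θ ⟨g * x * g⁻¹, hPC _ hx'P⟩ (hθP ⟨g * x * g⁻¹, hPC _ hx'P⟩ hx'P)]
    rw [← hres ⟨g * y * g⁻¹, hy'K⟩ ⟨g * y * g⁻¹, hKC _ hy'K⟩ rfl,
      ← hres ⟨y, hyK⟩ ⟨y, hKC y hyK⟩ rfl]
    exact hinv ⟨y, hyK⟩ hy'K
  -- the fibres of `n ↦ cj K θK n` on `N` are the cosets of `T`
  have key : ∀ n ∈ Subgroup.normalizer ((P : Subgroup G) : Set G), ∀ n' ∈ Subgroup.normalizer ((P : Subgroup G) : Set G),
      cj K (θK : K → ℂ) n = cj K (θK : K → ℂ) n' ↔ n⁻¹ * n' ∈ T := by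
    intro n hn n' hn'
    have hgN : n⁻¹ * n' ∈ Subgroup.normalizer ((P : Subgroup G) : Set G) :=
      Subgroup.mul_mem _ (Subgroup.inv_mem _ hn) hn'
    constructor
    · intro heq
      apply hstab2 _ hgN
      intro y hy'
      have hy1 : n' * (y : G) * n'⁻¹ ∈ K := hNK n' hn' y y.2
      have h1 := congrFun heq ⟨n' * (y : G) * n'⁻¹, hy1⟩
      rw [cj_apply K _ n _ (hNK' n hn _ hy1), cj_apply K _ n' _ (hNK' n' hn' _ hy1)] at h1
      have e1 : (⟨n⁻¹ * ((⟨n' * (y : G) * n'⁻¹, hy1⟩ : K) : G) * n, hNK' n hn _ hy1⟩ : K) =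
          ⟨n⁻¹ * n' * (y : G) * (n⁻¹ * n')⁻¹, hy'⟩ := by
        apply Subtype.ext
        show n⁻¹ * (n' * (y : G) * n'⁻¹) * n = n⁻¹ * n' * (y : G) * (n⁻¹ * n')⁻¹
        group
      have e2 : (⟨n'⁻¹ * ((⟨n' * (y : G) * n'⁻¹, hy1⟩ : K) : G) * n',
          hNK' n' hn' _ hy1⟩ : K) = y := by
        apply Subtype.ext
        show n'⁻¹ * (n' * (y : G) * n'⁻¹) * n' = (y : G)
        group
      rw [e1, e2] at h1
      exact h1
    · intro hgT
      funext y
      have hy0 : n'⁻¹ * (y : G) * n' ∈ K := hNK' n' hn' y y.2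
      have hy1 : n⁻¹ * (y : G) * n ∈ K := hNK' n hn y y.2
      rw [cj_apply K _ n y hy1, cj_apply K _ n' y hy0]
      have hconj : n⁻¹ * n' * ((⟨n'⁻¹ * (y : G) * n', hy0⟩ : K) : G) * (n⁻¹ * n')⁻¹ ∈ K := by
        have e : n⁻¹ * n' * (n'⁻¹ * (y : G) * n') * (n⁻¹ * n')⁻¹ = n⁻¹ * (y : G) * n := by
          group
        show n⁻¹ * n' * (n'⁻¹ * (y : G) * n') * (n⁻¹ * n')⁻¹ ∈ K
        rw [e]; exact hy1
      have h1 := hstab1 _ hgT ⟨n'⁻¹ * (y : G) * n', hy0⟩ hconj
      rw [← h1]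
      refine congrArg _ (Subtype.ext ?_)
      show n⁻¹ * (y : G) * n = n⁻¹ * n' * (n'⁻¹ * (y : G) * n') * (n⁻¹ * n')⁻¹
      group
  exact h28_card_orb_aux (Subgroup.normalizer ((P : Subgroup G) : Set G)) T (cj K (θK : K → ℂ)) key

end Cfsg.Agent.Lib.Helper28.TGC
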