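import Cfsg.Agent.Lib.Helper4.TPDefs
import Cfsg.Agent.S4034

/-!
# Project TP (S4033, helper4), piece RS
-/

set_option autoImplicit false

namespace Cfsg.Agent.Lib.Helper4.TP

universe u

theorem rs : RSStmt.{u} := by
  intro G _ _ p m t r hp hH ht htp htm hr hrp hrm B hBn hBr
  haveI : Fact t.Prime := ⟨ht⟩
  haveI : Fact r.Prime := ⟨hr⟩
  haveI := hBn
  -- step 1: `B` centralizes every noncentral `p`-regular element
  have h1 : ∀ w : G, NC p w → B ≤ Cen w := by
    intro w hw
    rw [← Subgroup.relIndex_eq_one]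
    have hd1 : (Cen w).relIndex B ∣ m := by
      have h2 := Cfsg.Agent.S4034.relIndex_dvd_index_normal (Cen w) B
      rw [hH.2.2 w hw] at h2
      exact h2
    have hd2 : (Cen w).relIndex B ∣ Nat.card B := Subgroup.relIndex_dvd_card _ _
    obtain ⟨k, hk⟩ := IsPGroup.iff_card.1 hBr
    rw [hk] at hd2
    obtain ⟨j, -, hj⟩ := (Nat.dvd_prime_pow hr).1 hd2
    rcases Nat.eq_zero_or_pos j with h0 | hpos
    · rw [hj, h0, pow_zero]
    · exfalso
      apply hrm
      rw [hj] at hd1
      exact (dvd_pow_self r hpos.ne').trans hd1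
  intro b hb
  by_contra hbc
  have hbreg : PReg p b := by
    obtain ⟨k, hk⟩ := (IsPGroup.iff_orderOf.1 hBr) ⟨b, hb⟩
    rw [Subgroup.orderOf_mk] at hk
    unfold PReg
    rw [hk]
    exact Nat.Coprime.pow_left k ((Nat.coprime_primes hr hp).2 hrp)
  have hidx := hH.2.2 b ⟨hbreg, hbc⟩
  -- a Sylow `t`-subgroup lies in the centralizer of `b`
  obtain ⟨T⟩ : Nonempty (Sylow t G) := inferInstance
  have hT : (T : Subgroup G) ≤ Cen b := by
    intro x hx
    have hxreg : PReg p x := by
      obtain ⟨k, hk⟩ := (IsPGroup.iff_orderOf.1 T.isPGroup') ⟨x, hx⟩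
      rw [Subgroup.orderOf_mk] at hk
      unfold PReg
      rw [hk]
      exact Nat.Coprime.pow_left k ((Nat.coprime_primes ht hp).2 htp)
    rw [Subgroup.mem_centralizer_iff]
    intro h hh
    rw [Set.mem_singleton_iff] at hh
    subst hh
    by_cases hxc : x ∈ Subgroup.center G
    · exact (Subgroup.mem_center_iff.1 hxc) h
    · have h2 := h1 x ⟨hxreg, hxc⟩ hb
      rw [Subgroup.mem_centralizer_iff] at h2
      exact (h2 x rfl).symm
  have hdvd : (Cen b).index ∣ (T : Subgroup G).index := Subgroup.index_dvd_of_le hT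
  rw [hidx] at hdvd
  exact T.not_dvd_index (htm.trans hdvd)

end Cfsg.Agent.Lib.Helper4.TP
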