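import Cfsg.Agent.Lib.Helper4.TPDefs

/-!
# Project TP (S4033, helper4), piece Y2
-/

set_option autoImplicit false

namespace Cfsg.Agent.Lib.Helper4.TP

universe u

/-- a subgroup contained in a centralizer of index `m` forces `m` to divide its index -/
theorem y2_helper28_dvd {G : Type u} [Group G] [Finite G] (t m : ℕ) (ht : t.Prime)
    (htm : t ∣ m) (T : Sylow t G) (x : G) (hx : (Cen x).index = m)
    (hT : (T : Subgroup G) ≤ Cen x) : False := by
  haveI : Fact t.Prime := ⟨ht⟩
  have h1 : (Cen x).index ∣ (T : Subgroup G).index := Subgroup.index_dvd_of_le hT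
  rw [hx] at h1
  exact T.not_dvd_index (htm.trans h1)

theorem y2 : Y2Stmt.{u} := by
  intro G _ _ p m t hp hH ht htp htm T
  haveI : Fact t.Prime := ⟨ht⟩
  have hTp : IsPGroup t ↥(T : Subgroup G) := T.isPGroup'
  -- (a) the centre of `T` is central in `G`
  have ha : ∀ z : ↥(T : Subgroup G), z ∈ Subgroup.center ↥(T : Subgroup G) →
      (z : G) ∈ Subgroup.center G := by
    intro z hz
    by_contra hzc
    have hreg : PReg p (z : G) := by
      obtain ⟨k, hk⟩ := (IsPGroup.iff_orderOf.1 hTp) z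
      unfold PReg
      rw [Subgroup.orderOf_coe, hk]
      exact Nat.Coprime.pow_left k ((Nat.coprime_primes ht hp).2 htp)
    have hidx := hH.2.2 (z : G) ⟨hreg, hzc⟩
    apply y2_helper28_dvd t m ht htm T (z : G) hidx
    intro g hg
    rw [Subgroup.mem_centralizer_iff]
    intro h hh
    rw [Set.mem_singleton_iff] at hh
    subst hh
    have h1 := (Subgroup.mem_center_iff.1 hz) ⟨g, hg⟩
    have h2 := congrArg Subtype.val h1
    exact h2.symm
  -- (b) `T` is not central
  have hb : ¬ (T : Subgroup G) ≤ Subgroup.center G := by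
    intro hTc
    obtain ⟨x, hx⟩ := hH.2.1
    exact y2_helper28_dvd t m ht htm T x (hH.2.2 x hx)
      (hTc.trans (Subgroup.center_le_centralizer _))
  -- (c) `T` is not abelian
  have hc : Subgroup.center ↥(T : Subgroup G) ≠ ⊤ := by
    intro htop
    apply hb
    intro g hg
    exact ha ⟨g, hg⟩ (by rw [htop]; exact Subgroup.mem_top _)
  haveI : Nontrivial (↥(T : Subgroup G) ⧸ Subgroup.center ↥(T : Subgroup G)) :=
    QuotientGroup.nontrivial_iff.2 hc
  have hQ : IsPGroup t (↥(T : Subgroup G) ⧸ Subgroup.center ↥(T : Subgroup G)) :=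
    hTp.to_quotient _
  haveI := hQ.center_nontrivial
  have hZQ : IsPGroup t
      ↥(Subgroup.center (↥(T : Subgroup G) ⧸ Subgroup.center ↥(T : Subgroup G))) :=
    hQ.to_subgroup _
  have hdvd : t ∣ Nat.card
      ↥(Subgroup.center (↥(T : Subgroup G) ⧸ Subgroup.center ↥(T : Subgroup G))) := by
    rcases hZQ.card_eq_or_dvd with h | h
    · exact absurd h (Finite.one_lt_card_iff_nontrivial.2 inferInstance).ne'
    · exact h
  obtain ⟨c, hc⟩ := exists_prime_orderOf_dvd_card' t hdvd
  obtain ⟨y, hy⟩ := QuotientGroup.mk_surjective (c : ↥(T : Subgroup G) ⧸ Subgroup.center ↥(T : Subgroup G))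
  have hct : orderOf (c : ↥(T : Subgroup G) ⧸ Subgroup.center ↥(T : Subgroup G)) = t := by
    rw [Subgroup.orderOf_coe, hc]
  have hccen := c.2
  rw [Subgroup.mem_center_iff] at hccen
  -- properties of `y`
  have hy1 : y ∉ Subgroup.center ↥(T : Subgroup G) := by
    intro h
    have h1 : (c : ↥(T : Subgroup G) ⧸ Subgroup.center ↥(T : Subgroup G)) = 1 := by
      rw [← hy]
      exact (QuotientGroup.eq_one_iff y).2 h
    rw [h1, orderOf_one] at hct
    exact ht.one_lt.ne hct
  have hy2 : ∀ g : ↥(T : Subgroup G), g * y * g⁻¹ * y⁻¹ ∈ Subgroup.center ↥(T : Subgroup G) := by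
    intro g
    rw [← QuotientGroup.eq_one_iff]
    have h1 := hccen (QuotientGroup.mk g)
    rw [QuotientGroup.mk_mul, QuotientGroup.mk_mul, QuotientGroup.mk_mul, QuotientGroup.mk_inv,
      QuotientGroup.mk_inv, hy, h1]
    group
  have hy3 : y ^ t ∈ Subgroup.center ↥(T : Subgroup G) := by
    rw [← QuotientGroup.eq_one_iff, QuotientGroup.mk_pow, hy]
    have h1 := pow_orderOf_eq_one
      (c : ↥(T : Subgroup G) ⧸ Subgroup.center ↥(T : Subgroup G))
    rw [hct] at h1
    exact h1
  refine ⟨(y : G), y.2, ?_, ?_, ?_⟩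
  · intro hyc
    apply hy1
    rw [Subgroup.mem_center_iff]
    intro g
    apply Subtype.ext
    exact (Subgroup.mem_center_iff.1 hyc) (g : G)
  · intro g hg
    exact ha _ (hy2 ⟨g, hg⟩)
  · exact ha _ hy3

end Cfsg.Agent.Lib.Helper4.TP
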