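import Mathlib

set_option autoImplicit false
set_option linter.style.haveILetI false
set_option linter.unusedSimpArgs false
set_option linter.unusedVariables false

/-! Semilinearity of norm-compatible additive involutions (helper28): abstract algebra part for the
automorphisms of the Sylow 2-subgroups of `SU₃(q)`, `q` even. -/

namespace Cfsg.Agent.Lib.Helper28.U3A

variable {F : Type*} [Field F]

/-- An involutive ring endomorphism `σ` in characteristic 2 with surjective trace and norm,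
and an additive involution `τ₁` which is compatible with the norm through `τ₀`. -/
structure Dat (σ : F →+* F) (τ₁ τ₀ : F → F) : Prop where
  inv : ∀ x, σ (σ x) = x
  two : (2 : F) = 0
  tr : ∀ f, σ f = f → ∃ u, u + σ u = f
  nm : ∀ y, σ y = y → ∃ c, c * σ c = y
  add1 : ∀ a b, τ₁ (a + b) = τ₁ a + τ₁ b
  inv1 : ∀ a, τ₁ (τ₁ a) = a
  add0 : ∀ x y, σ x = x → σ y = y → τ₀ (x + y) = τ₀ x + τ₀ y
  hN : ∀ c, τ₁ c * σ (τ₁ c) = τ₀ (c * σ c)

namespace Dat

variable {σ : F →+* F} {τ₁ τ₀ : F → F}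

theorem t1_zero (h : Dat σ τ₁ τ₀) : τ₁ 0 = 0 := by
  have h1 := h.add1 0 0
  rw [add_zero] at h1
  linear_combination -h1

theorem t1_inj (h : Dat σ τ₁ τ₀) {a b : F} (hab : τ₁ a = τ₁ b) : a = b := by
  rw [← h.inv1 a, hab, h.inv1]

theorem t1_ne (h : Dat σ τ₁ τ₀) {a : F} (ha : a ≠ 0) : τ₁ a ≠ 0 :=
  fun h0 => ha (h.t1_inj (h0.trans h.t1_zero.symm))

theorem s_ne (h : Dat σ τ₁ τ₀) {a : F} (ha : a ≠ 0) : σ a ≠ 0 := by
  intro h0
  apply ha
  rw [← h.inv a, h0, map_zero]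

theorem norm_mem (h : Dat σ τ₁ τ₀) (c : F) : σ (c * σ c) = c * σ c := by
  rw [map_mul, h.inv]; ring

theorem t0_mem (h : Dat σ τ₁ τ₀) {y : F} (hy : σ y = y) : σ (τ₀ y) = τ₀ y := by
  obtain ⟨c, rfl⟩ := h.nm y hy
  rw [← h.hN]; exact h.norm_mem _

theorem t0_inv (h : Dat σ τ₁ τ₀) {y : F} (hy : σ y = y) : τ₀ (τ₀ y) = y := by
  obtain ⟨c, rfl⟩ := h.nm y hy
  rw [← h.hN, ← h.hN, h.inv1]

theorem t0_zero (h : Dat σ τ₁ τ₀) : τ₀ 0 = 0 := by
  have h1 := h.add0 0 0 (map_zero σ) (map_zero σ)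
  rw [add_zero] at h1
  linear_combination -h1

theorem t0_inj (h : Dat σ τ₁ τ₀) {a b : F} (ha : σ a = a) (hb : σ b = b) (hab : τ₀ a = τ₀ b) :
    a = b := by
  rw [← h.t0_inv ha, hab, h.t0_inv hb]

theorem d_ne (h : Dat σ τ₁ τ₀) : τ₀ 1 ≠ 0 := by
  intro h0
  exact one_ne_zero (h.t0_inj (map_one σ) (map_zero σ) (h0.trans h.t0_zero.symm))

theorem d_mem (h : Dat σ τ₁ τ₀) : σ (τ₀ 1) = τ₀ 1 := h.t0_mem (map_one σ)

/-- The polar form of the norm is respected. -/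
theorem polar (h : Dat σ τ₁ τ₀) (v w : F) :
    τ₁ v * σ (τ₁ w) + σ (τ₁ v) * τ₁ w = τ₀ (v * σ w + σ v * w) := by
  have h1 := h.hN (v + w)
  have hB : σ (v * σ w + σ v * w) = v * σ w + σ v * w := by
    simp only [map_add, map_mul, h.inv]; ring
  have e : (v + w) * σ (v + w) = (v * σ v + w * σ w) + (v * σ w + σ v * w) := by
    rw [map_add]; ring
  rw [e, h.add0 _ _ (by rw [map_add, h.norm_mem, h.norm_mem]) hB,
    h.add0 _ _ (h.norm_mem v) (h.norm_mem w), ← h.hN, ← h.hN, h.add1, map_add] at h1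
  linear_combination h1

theorem line (h : Dat σ τ₁ τ₀) {a b : F} (ha : a ≠ 0) (hab : a * σ b + σ a * b = 0) :
    σ (b / a) = b / a := by
  have hσa : σ a ≠ 0 := h.s_ne ha
  rw [map_div₀, div_eq_div_iff hσa ha]
  linear_combination hab - (σ a * b) * h.two

theorem polar_surj (h : Dat σ τ₁ τ₀) {w y : F} (hw : w ≠ 0) (hy : σ y = y) :
    ∃ u, w * σ u + σ w * u = y := by
  obtain ⟨u₀, hu₀⟩ := h.tr y hy
  have hσw : σ w ≠ 0 := h.s_ne hw
  refine ⟨u₀ / σ w, ?_⟩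
  rw [map_div₀, h.inv]
  field_simp
  linear_combination hu₀

theorem key (h : Dat σ τ₁ τ₀) {x w : F} (hx : σ x = x) (hw : w ≠ 0) :
    ∃ ρ, σ ρ = ρ ∧ τ₁ (x * w) = ρ * τ₁ w ∧ ∀ y, σ y = y → τ₀ (x * y) = ρ * τ₀ y := by
  have hne := h.t1_ne hw
  have hr : σ (τ₁ (x * w) / τ₁ w) = τ₁ (x * w) / τ₁ w := by
    apply h.line hne
    rw [h.polar]
    have e0 : w * σ (x * w) + σ w * (x * w) = 0 := by
      rw [map_mul, hx]; linear_combination (x * w * σ w) * h.two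
    rw [e0, h.t0_zero]
  have e2 : τ₁ (x * w) = τ₁ (x * w) / τ₁ w * τ₁ w := by field_simp
  refine ⟨τ₁ (x * w) / τ₁ w, hr, e2, ?_⟩
  intro y hy
  obtain ⟨u, hu⟩ := h.polar_surj hw hy
  have h1 := h.polar (x * w) u
  have h2 := h.polar w u
  have e1 : x * w * σ u + σ (x * w) * u = x * y := by rw [map_mul, hx, ← hu]; ring
  rw [e1] at h1
  rw [hu] at h2
  have e3 : σ (τ₁ (x * w)) = τ₁ (x * w) / τ₁ w * σ (τ₁ w) := by
    conv_lhs => rw [e2, map_mul, hr]
  rw [← h1, ← h2, e3]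
  generalize τ₁ (x * w) / τ₁ w = ρ at e2 ⊢
  rw [e2]
  ring

theorem semi (h : Dat σ τ₁ τ₀) {x : F} (hx : σ x = x) (w : F) :
    τ₁ (x * w) = τ₀ x / τ₀ 1 * τ₁ w := by
  by_cases hw : w = 0
  · rw [hw, mul_zero, h.t1_zero, mul_zero]
  · obtain ⟨ρ, -, h1, h2⟩ := h.key hx hw
    have h3 := h2 1 (map_one σ)
    rw [mul_one] at h3
    rw [h1, h3]
    have := h.d_ne
    field_simp

theorem t0_mul (h : Dat σ τ₁ τ₀) {x y : F} (hx : σ x = x) (hy : σ y = y) :
    τ₀ (x * y) = τ₀ x / τ₀ 1 * τ₀ y := by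
  obtain ⟨ρ, -, h1, h2⟩ := h.key hx (one_ne_zero (α := F))
  have h3 := h2 1 (map_one σ)
  rw [mul_one] at h3
  rw [h2 y hy, h3]
  have := h.d_ne
  field_simp

theorem th_mem (h : Dat σ τ₁ τ₀) {x : F} (hx : σ x = x) : σ (τ₀ x / τ₀ 1) = τ₀ x / τ₀ 1 := by
  rw [map_div₀, h.t0_mem hx, h.d_mem]

theorem exists_fixed (h : Dat σ τ₁ τ₀) : ∃ v, v ≠ 0 ∧ τ₁ v = v := by
  by_cases h1 : τ₁ 1 = 1
  · exact ⟨1, one_ne_zero, h1⟩
  · refine ⟨1 + τ₁ 1, ?_, ?_⟩
    · intro h0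
      apply h1
      linear_combination h0 - h.two
    · rw [h.add1, h.inv1, add_comm]

theorem exists_nonfixed (h : Dat σ τ₁ τ₀) : ∃ g, σ g ≠ g := by
  obtain ⟨u, hu⟩ := h.tr 1 (map_one σ)
  refine ⟨u, fun hc => ?_⟩
  rw [hc] at hu
  have : (1 : F) = 0 := by linear_combination -hu + u * h.two
  exact one_ne_zero this

theorem th_inv (h : Dat σ τ₁ τ₀) {x : F} (hx : σ x = x) :
    τ₀ (τ₀ x / τ₀ 1) / τ₀ 1 = x := by
  obtain ⟨v, hv0, hv⟩ := h.exists_fixed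
  have h1 := h.semi hx v
  have h2 := h.semi (h.th_mem hx) v
  rw [hv] at h1 h2
  have h3 := h.inv1 (x * v)
  rw [h1, h2] at h3
  exact mul_right_cancel₀ hv0 h3

/-- Either `τ₀` is trivial on the fixed field of `σ`, or there is a nontrivial involutive
automorphism `θ` of that fixed field and an element `w` outside it whose trace and norm are
fixed by `θ`. -/
theorem dich (h : Dat σ τ₁ τ₀) : (∀ y, σ y = y → τ₀ y = y) ∨
    ∃ (θ : F → F) (ε w : F), (∀ x, σ x = x → σ (θ x) = θ x) ∧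
      (∀ x y, σ x = x → σ y = y → θ (x + y) = θ x + θ y) ∧
      (∀ x y, σ x = x → σ y = y → θ (x * y) = θ x * θ y) ∧ θ 1 = 1 ∧
      (∀ x, σ x = x → θ (θ x) = x) ∧ σ ε = ε ∧ θ ε ≠ ε ∧ σ w ≠ w ∧
      θ (w + σ w) = w + σ w ∧ θ (w * σ w) = w * σ w := by
  have hd := h.d_ne
  by_cases hall : ∀ x, σ x = x → τ₀ x / τ₀ 1 = x
  · left
    have hd1 : τ₀ 1 = 1 := by
      have h1 := h.t0_inv (map_one σ)
      have h2 := hall _ h.d_mem
      rw [h1] at h2
      have h3 : τ₀ 1 * τ₀ 1 = 1 := by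
        field_simp at h2
        linear_combination -h2
      have h4 : (τ₀ 1 - 1) ^ 2 = 0 := by linear_combination h3 + (1 - τ₀ 1) * h.two
      have h5 := pow_eq_zero_iff (two_ne_zero) |>.mp h4
      linear_combination h5
    intro y hy
    have := hall y hy
    rw [hd1, div_one] at this
    exact this
  · right
    push Not at hall
    obtain ⟨ε, hεK, hε⟩ := hall
    obtain ⟨v, hv0, hv⟩ := h.exists_fixed
    obtain ⟨g, hg⟩ := h.exists_nonfixed
    have hσv : σ v ≠ 0 := h.s_ne hv0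
    -- a fixed vector outside the line of `v`
    have hex : ∃ w₁, τ₁ w₁ = w₁ ∧ σ (w₁ / v) ≠ w₁ / v := by
      by_contra hcon
      push Not at hcon
      have hA := hcon (g * v + τ₁ (g * v)) (by rw [h.add1, h.inv1, add_comm])
      have hB := hcon (ε * (g * v) + τ₁ (ε * (g * v))) (by rw [h.add1, h.inv1, add_comm])
      rw [h.semi hεK] at hB
      have hθε := h.th_mem hεK
      have hx : σ (τ₁ (g * v) / v) = τ₁ (g * v) / v := by
        have e : (τ₀ ε / τ₀ 1 - ε) * (τ₁ (g * v) / v) =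
            (ε * (g * v) + τ₀ ε / τ₀ 1 * τ₁ (g * v)) / v - ε * ((g * v + τ₁ (g * v)) / v) := by
          field_simp
          ring
        have e' : σ ((τ₀ ε / τ₀ 1 - ε) * (τ₁ (g * v) / v)) =
            (τ₀ ε / τ₀ 1 - ε) * (τ₁ (g * v) / v) := by
          rw [e, map_sub, map_mul, hB, hA, hεK]
        rw [map_mul, map_sub, hθε, hεK] at e'
        exact mul_left_cancel₀ (sub_ne_zero.mpr hε) e'
      have h1 := h.semi hx v
      rw [hv] at h1
      have h2 : τ₁ (g * v) / v * v = τ₁ (g * v) := by field_simp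
      rw [h2, h.inv1] at h1
      have h3 : g = τ₀ (τ₁ (g * v) / v) / τ₀ 1 := mul_right_cancel₀ hv0 h1
      apply hg
      rw [h3]
      exact h.th_mem hx
    obtain ⟨w₁, hw₁, hw₁K⟩ := hex
    have hNv : v * σ v ≠ 0 := mul_ne_zero hv0 hσv
    have hNvf : τ₀ (v * σ v) = v * σ v := by
      have := h.hN v
      rw [hv] at this
      exact this.symm
    have hw1e : w₁ = w₁ / v * v := by field_simp
    refine ⟨fun x => τ₀ x / τ₀ 1, ε, w₁ / v, fun x hx => h.th_mem hx, ?_, ?_, ?_, ?_, hεK, hε,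
      hw₁K, ?_, ?_⟩
    · intro x y hx hy
      show τ₀ (x + y) / τ₀ 1 = τ₀ x / τ₀ 1 + τ₀ y / τ₀ 1
      rw [h.add0 x y hx hy, add_div]
    · intro x y hx hy
      show τ₀ (x * y) / τ₀ 1 = τ₀ x / τ₀ 1 * (τ₀ y / τ₀ 1)
      rw [h.t0_mul hx hy, mul_div_assoc]
    · show τ₀ 1 / τ₀ 1 = 1
      exact div_self hd
    · intro x hx
      exact h.th_inv hx
    · -- the trace
      show τ₀ (w₁ / v + σ (w₁ / v)) / τ₀ 1 = w₁ / v + σ (w₁ / v)
      have hp := h.polar v w₁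
      rw [hv, hw₁] at hp
      have htK : σ (w₁ / v + σ (w₁ / v)) = w₁ / v + σ (w₁ / v) := by
        rw [map_add, h.inv, add_comm]
      have e : v * σ w₁ + σ v * w₁ = (w₁ / v + σ (w₁ / v)) * (v * σ v) := by
        rw [map_div₀]
        field_simp
        ring
      rw [e, h.t0_mul htK (h.norm_mem v), hNvf] at hp
      exact (mul_right_cancel₀ hNv hp).symm
    · -- the norm
      show τ₀ (w₁ / v * σ (w₁ / v)) / τ₀ 1 = w₁ / v * σ (w₁ / v)
      have hp := h.hN w₁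
      rw [hw₁] at hp
      have e : w₁ * σ w₁ = (w₁ / v * σ (w₁ / v)) * (v * σ v) := by
        rw [map_div₀]
        field_simp
      rw [e, h.t0_mul (h.norm_mem _) (h.norm_mem v), hNvf] at hp
      exact (mul_right_cancel₀ hNv hp).symm

end Dat

end Cfsg.Agent.Lib.Helper28.U3A
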