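import Mathlib
import Cfsg.Agent.Lib.Helper60.U3Base

set_option autoImplicit false
set_option linter.style.haveILetI false
set_option linter.unusedSimpArgs false
set_option linter.unusedVariables false

/-! A finite field of order `q²` (char 2): an involution of the subfield of order `q` does not fix
the trace and norm of an element outside that subfield (helper28). -/

namespace Cfsg.Agent.Lib.Helper28.U3A

open Cfsg.Agent.Lib.Helper60 Cfsg.Agent.Lib.Helper7

variable {F : Type*} [Field F] [Fintype F] {q : ℕ}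

theorem fin_contra (hF : Fintype.card F = q ^ 2) (h2 : (2 : F) = 0) (θ : F → F) (ε w : F)
    (hθK : ∀ x : F, x ^ q = x → (θ x) ^ q = θ x)
    (hadd : ∀ x y : F, x ^ q = x → y ^ q = y → θ (x + y) = θ x + θ y)
    (hmul : ∀ x y : F, x ^ q = x → y ^ q = y → θ (x * y) = θ x * θ y) (h1 : θ 1 = 1)
    (hinv : ∀ x : F, x ^ q = x → θ (θ x) = x) (hεK : ε ^ q = ε) (hε : θ ε ≠ ε)
    (hw : w ^ q ≠ w) (ht : θ (w + w ^ q) = w + w ^ q) (hn : θ (w * w ^ q) = w * w ^ q) :
    False := by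
  classical
  have hq0 : q ≠ 0 := herm_q_ne_zero hF
  have hneg : ∀ x : F, -x = x := fun x => by linear_combination (-x) * h2
  have hθ0 : θ 0 = 0 := by
    have h := hadd 0 0 (zero_pow hq0) (zero_pow hq0)
    rw [add_zero] at h
    linear_combination -h
  have hθinvK : ∀ x : F, x ^ q = x → θ x⁻¹ = (θ x)⁻¹ := by
    intro x hx
    by_cases hx0 : x = 0
    · rw [hx0, inv_zero, hθ0, inv_zero]
    · have hxi : (x⁻¹) ^ q = x⁻¹ := by rw [inv_pow, hx]
      have h := hmul x x⁻¹ hx hxi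
      rw [mul_inv_cancel₀ hx0, h1] at h
      exact eq_inv_of_mul_eq_one_right h.symm
  -- the fixed field of θ
  let K₀ : Subfield F :=
    { carrier := {x | x ^ q = x ∧ θ x = x}
      mul_mem' := fun {a b} ha hb => ⟨by rw [mul_pow, ha.1, hb.1], by
        rw [hmul a b ha.1 hb.1, ha.2, hb.2]⟩
      one_mem' := ⟨one_pow q, h1⟩
      add_mem' := fun {a b} ha hb => ⟨by rw [herm_add_pow hF, ha.1, hb.1], by
        rw [hadd a b ha.1 hb.1, ha.2, hb.2]⟩
      zero_mem' := ⟨zero_pow hq0, hθ0⟩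
      neg_mem' := fun {a} ha => by rw [hneg a]; exact ha
      inv_mem' := fun a ha => ⟨by rw [inv_pow, ha.1], by rw [hθinvK a ha.1, ha.2]⟩ }
  have hK₀ : ∀ x : F, x ∈ K₀ ↔ x ^ q = x ∧ θ x = x := fun x => Iff.rfl
  letI : Fintype ↥K₀ := Fintype.ofFinite ↥K₀
  have hsum : ε + θ ε ≠ 0 := by
    intro h0
    apply hε
    linear_combination h0 - ε * h2
  have hθεK := hθK ε hεK
  have hsumK : (ε + θ ε) ^ q = ε + θ ε := by rw [herm_add_pow hF, hεK, hθεK]
  have hsumθ : θ (ε + θ ε) = ε + θ ε := by rw [hadd _ _ hεK hθεK, hinv ε hεK, add_comm]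
  -- K = K₀ ⊕ K₀ ε
  have hβ : ∀ x : F, x ^ q = x → (x + θ x) / (ε + θ ε) ∈ K₀ := by
    intro x hx
    have hθx := hθK x hx
    have hxs : (x + θ x) ^ q = x + θ x := by rw [herm_add_pow hF, hx, hθx]
    have hxθ : θ (x + θ x) = x + θ x := by rw [hadd _ _ hx hθx, hinv x hx, add_comm]
    refine ⟨by rw [div_pow, hxs, hsumK], ?_⟩
    rw [div_eq_mul_inv, hmul _ _ hxs (by rw [inv_pow, hsumK]), hθinvK _ hsumK, hxθ, hsumθ]
  have hα : ∀ x : F, x ^ q = x → x + (x + θ x) / (ε + θ ε) * ε ∈ K₀ := by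
    intro x hx
    have hb := hβ x hx
    have hθx := hθK x hx
    have hbε : ((x + θ x) / (ε + θ ε) * ε) ^ q = (x + θ x) / (ε + θ ε) * ε := by
      rw [mul_pow, hb.1, hεK]
    refine ⟨by rw [herm_add_pow hF, hx, hbε], ?_⟩
    rw [hadd _ _ hx hbε, hmul _ _ hb.1 hεK, hb.2]
    have hβdef : (x + θ x) / (ε + θ ε) * (ε + θ ε) = x + θ x := div_mul_cancel₀ _ hsum
    generalize (x + θ x) / (ε + θ ε) = β at hβdef ⊢
    linear_combination -hβdef + (β * θ ε - x) * h2
  let e : ↥K₀ × ↥K₀ ≃ Fixq F q :=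
    { toFun := fun p => ⟨p.1.1 + p.2.1 * ε, by
        rw [herm_add_pow hF, mul_pow, p.1.2.1, p.2.2.1, hεK]⟩
      invFun := fun x => (⟨x.1 + (x.1 + θ x.1) / (ε + θ ε) * ε, hα x.1 x.2⟩,
        ⟨(x.1 + θ x.1) / (ε + θ ε), hβ x.1 x.2⟩)
      left_inv := fun p => by
        obtain ⟨⟨a, ha⟩, ⟨b, hb⟩⟩ := p
        have hbε : (b * ε) ^ q = b * ε := by rw [mul_pow, hb.1, hεK]
        have e1 : θ (a + b * ε) = a + b * θ ε := by
          rw [hadd _ _ ha.1 hbε, hmul _ _ hb.1 hεK, ha.2, hb.2]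
        have e2 : (a + b * ε + θ (a + b * ε)) / (ε + θ ε) = b := by
          rw [e1, div_eq_iff hsum]
          linear_combination a * h2
        refine Prod.ext (Subtype.ext ?_) (Subtype.ext ?_)
        · show a + b * ε + (a + b * ε + θ (a + b * ε)) / (ε + θ ε) * ε = a
          rw [e2]
          linear_combination (b * ε) * h2
        · exact e2
      right_inv := fun x => by
        apply Subtype.ext
        show x.1 + (x.1 + θ x.1) / (ε + θ ε) * ε + (x.1 + θ x.1) / (ε + θ ε) * ε = x.1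
        linear_combination ((x.1 + θ x.1) / (ε + θ ε) * ε) * h2 }
  have hcard : Fintype.card ↥K₀ * Fintype.card ↥K₀ = q := by
    have h := Nat.card_congr e
    rw [Nat.card_prod, card_Fixq hF h2, Nat.card_eq_fintype_card] at h
    exact h
  -- the relative Frobenius
  let ψ : F →ₐ[↥K₀] F := FiniteField.frobeniusAlgHom ↥K₀ F
  have hψ : ∀ x : F, ψ x = x ^ Fintype.card ↥K₀ := fun x => rfl
  have hψfix : ∀ x : F, x ∈ K₀ → ψ x = x := by
    intro x hx
    exact ψ.commutes ⟨x, hx⟩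
  have hψψ : ∀ x : F, ψ (ψ x) = x ^ q := by
    intro x
    rw [hψ, hψ, ← pow_mul, hcard]
  have htK : (w + w ^ q) ^ q = w + w ^ q := by
    rw [herm_add_pow hF, herm_pow_pow hF, add_comm]
  have hnK : (w * w ^ q) ^ q = w * w ^ q := by
    rw [mul_pow, herm_pow_pow hF, mul_comm]
  have hquad : w * w + (w + w ^ q) * w + w * w ^ q = 0 := by
    linear_combination (w * w + w * w ^ q) * h2
  have hquad' : ψ w * ψ w + (w + w ^ q) * ψ w + w * w ^ q = 0 := by
    have h := congrArg ψ hquad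
    rw [map_add, map_add, map_mul, map_mul, hψfix _ ((hK₀ _).mpr ⟨htK, ht⟩),
      hψfix _ ((hK₀ _).mpr ⟨hnK, hn⟩), map_zero] at h
    exact h
  have hprod : (ψ w - w) * (ψ w - w ^ q) = 0 := by
    linear_combination hquad' - hquad + (- ψ w * w - ψ w * w ^ q + w * w + w * w ^ q) * h2
  rcases mul_eq_zero.mp hprod with h0 | h0
  · have h3 : ψ w = w := sub_eq_zero.mp h0
    have h4 := hψψ w
    rw [h3, h3] at h4
    exact hw h4.symm
  · have h3 : ψ w = w ^ q := sub_eq_zero.mp h0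
    have h4 := hψψ w
    rw [h3, hψ, ← pow_mul, mul_comm, pow_mul, ← hψ, h3, herm_pow_pow hF] at h4
    exact hw h4.symm

end Cfsg.Agent.Lib.Helper28.U3A
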