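import Mathlib
import Cfsg.Agent.Lib.Helper60.U3Base
import Cfsg.Agent.Lib.Helper28.U3Alg
import Cfsg.Agent.Lib.Helper28.U3Fin

set_option autoImplicit false
set_option linter.style.haveILetI false
set_option linter.unusedSimpArgs false
set_option linter.unusedVariables false

/-! Automorphisms with inner square of the Sylow 2-subgroup model `U3` of `SU₃(q)`, `q` even,
fix the centre pointwise (helper28). -/

namespace Cfsg.Agent.Lib.Helper28.U3A

open Cfsg.Agent.Lib.Helper60 Cfsg.Agent.Lib.Helper7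

variable {F : Type*} [Field F] [Fintype F] {q : ℕ}

theorem exists_lift (hF : Fintype.card F = q ^ 2) (c : F) : ∃ a : ↥(U3 hF), a.1.c = c := by
  have hK : (c * c ^ q) ^ q = c * c ^ q := by rw [mul_pow, herm_pow_pow hF, mul_comm]
  obtain ⟨u, hu⟩ := trace_surj hF _ hK
  exact ⟨⟨⟨c, u⟩, hu⟩, rfl⟩

theorem comm_iff (hF : Fintype.card F = q ^ 2) (a b : ↥(U3 hF)) :
    a * b = b * a ↔ a.1.c * b.1.c ^ q = b.1.c * a.1.c ^ q := by
  constructor
  · intro h
    have h' : a.1.u + b.1.u + a.1.c * b.1.c ^ q = b.1.u + a.1.u + b.1.c * a.1.c ^ q :=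
      congrArg (fun x : ↥(U3 hF) => x.1.u) h
    linear_combination h'
  · intro h
    apply Subtype.ext
    apply Heis.ext
    · show a.1.c + b.1.c = b.1.c + a.1.c
      ring
    · show a.1.u + b.1.u + a.1.c * b.1.c ^ q = b.1.u + a.1.u + b.1.c * a.1.c ^ q
      linear_combination h

theorem central_of_c_zero (hF : Fintype.card F = q ^ 2) (a : ↥(U3 hF)) (ha : a.1.c = 0)
    (b : ↥(U3 hF)) : a * b = b * a := by
  rw [comm_iff, ha, zero_pow (herm_q_ne_zero hF)]
  ring

theorem c_zero_of_central (hF : Fintype.card F = q ^ 2) (h2 : (2 : F) = 0) (a : ↥(U3 hF))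
    (ha : ∀ b : ↥(U3 hF), a * b = b * a) : a.1.c = 0 := by
  obtain ⟨b1, hb1⟩ := exists_lift hF (1 : F)
  obtain ⟨l, hl⟩ := Cfsg.Agent.Lib.Helper18.exists_trace_one hF
  obtain ⟨bl, hbl⟩ := exists_lift hF l
  have h1 := (comm_iff hF a b1).mp (ha b1)
  have h3 := (comm_iff hF a bl).mp (ha bl)
  rw [hb1, one_pow, mul_one, one_mul] at h1
  rw [hbl, ← h1] at h3
  have h4 : a.1.c * (l ^ q - l) = 0 := by linear_combination h3
  rcases mul_eq_zero.mp h4 with h5 | h5
  · exact h5
  · exfalso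
    have h6 : l ^ q = l := sub_eq_zero.mp h5
    rw [h6] at hl
    have hbad : (1 : F) = 0 := by linear_combination -hl + l * h2
    exact one_ne_zero hbad

/-- An automorphism of `U3` whose square is inner fixes every element with `c = 0`
(that is, the centre) pointwise. -/
theorem aut_fix (hF : Fintype.card F = q ^ 2) (h2 : (2 : F) = 0) (τ : ↥(U3 hF) ≃* ↥(U3 hF))
    (s : ↥(U3 hF)) (hτ : ∀ a, τ (τ a) = s * a * s⁻¹) (z : ↥(U3 hF)) (hz : z.1.c = 0) :
    τ z = z := by
  classical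
  have hq0 := herm_q_ne_zero hF
  have hτc : ∀ a : ↥(U3 hF), a.1.c = 0 → (τ a).1.c = 0 := by
    intro a ha
    apply c_zero_of_central hF h2
    intro b
    have h1 := central_of_c_zero hF a ha (τ.symm b)
    have h3 := congrArg τ h1
    rw [map_mul, map_mul, MulEquiv.apply_symm_apply] at h3
    exact h3
  choose lift hlift using exists_lift hF
  have hP : ∀ a b : ↥(U3 hF), a.1.c = b.1.c → (τ a).1.c = (τ b).1.c := by
    intro a b hab
    have h1 : (a⁻¹ * b).1.c = 0 := by
      show -a.1.c + b.1.c = 0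
      rw [hab]; ring
    have h3 := hτc _ h1
    rw [map_mul, map_inv] at h3
    have h4 : -(τ a).1.c + (τ b).1.c = 0 := h3
    linear_combination -h4
  let τ₁ : F → F := fun c => (τ (lift c)).1.c
  have hτ₁ : ∀ a : ↥(U3 hF), (τ a).1.c = τ₁ a.1.c := fun a => hP a (lift a.1.c) (hlift _).symm
  have hzel : ∀ y : F, y ^ q = y → (⟨0, y⟩ : Heis F (frobQ hF)) ∈ U3 hF := by
    intro y hy
    show y + y ^ q = 0 * (0 : F) ^ q
    rw [hy]; linear_combination y * h2
  let τ₀ : F → F := fun y => if hy : y ^ q = y then (τ ⟨⟨0, y⟩, hzel y hy⟩).1.u else 0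
  have hτ₀u : ∀ (y : F) (hy : y ^ q = y), (τ ⟨⟨0, y⟩, hzel y hy⟩).1.u = τ₀ y := by
    intro y hy
    simp only [τ₀, dif_pos hy]
  have hτ₀c : ∀ (y : F) (hy : y ^ q = y), (τ ⟨⟨0, y⟩, hzel y hy⟩).1.c = 0 :=
    fun y hy => hτc _ rfl
  have hD : Dat (frobQ hF) τ₁ τ₀ := by
    refine ⟨frobQ_frobQ hF, h2, fun f hf => trace_surj hF f hf, ?_, ?_, ?_, ?_, ?_⟩
    · intro y hy
      by_cases hy0 : y = 0
      · exact ⟨0, by rw [hy0, zero_mul]⟩
      · obtain ⟨t, -, ht⟩ := herm_norm_surj hF y hy0 hy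
        exact ⟨t, by rw [← ht, pow_succ']; rfl⟩
    · intro a b
      have h1 := hτ₁ (lift a * lift b)
      rw [map_mul] at h1
      have h3 : (lift a * lift b).1.c = a + b := by
        show (lift a).1.c + (lift b).1.c = a + b
        rw [hlift, hlift]
      rw [h3] at h1
      exact h1.symm
    · intro a
      have h1 := hτ₁ (τ (lift a))
      rw [hτ] at h1
      have h3 : (s * lift a * s⁻¹).1.c = a := by
        show s.1.c + (lift a).1.c + -s.1.c = a
        rw [hlift]; ring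
      rw [h3] at h1
      exact h1.symm
    · intro x y hx hy
      change x ^ q = x at hx
      change y ^ q = y at hy
      have hxy : (x + y) ^ q = x + y := by rw [herm_add_pow hF, hx, hy]
      have e : (⟨⟨0, x + y⟩, hzel _ hxy⟩ : ↥(U3 hF)) =
          ⟨⟨0, x⟩, hzel x hx⟩ * ⟨⟨0, y⟩, hzel y hy⟩ := by
        apply Subtype.ext
        apply Heis.ext
        · show (0 : F) = 0 + 0
          ring
        · show x + y = x + y + 0 * (0 : F) ^ q
          ring
      rw [← hτ₀u _ hxy, e, map_mul, ← hτ₀u x hx, ← hτ₀u y hy]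
      show (τ ⟨⟨0, x⟩, hzel x hx⟩).1.u + (τ ⟨⟨0, y⟩, hzel y hy⟩).1.u +
        (τ ⟨⟨0, x⟩, hzel x hx⟩).1.c * (τ ⟨⟨0, y⟩, hzel y hy⟩).1.c ^ q = _
      rw [hτ₀c x hx]; ring
    · intro c
      have hK : (c * c ^ q) ^ q = c * c ^ q := by rw [mul_pow, herm_pow_pow hF, mul_comm]
      have e : (⟨⟨0, c * c ^ q⟩, hzel _ hK⟩ : ↥(U3 hF)) = lift c * lift c := by
        apply Subtype.ext
        apply Heis.ext
        · show (0 : F) = (lift c).1.c + (lift c).1.c
          rw [hlift]; linear_combination -c * h2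
        · show c * c ^ q = (lift c).1.u + (lift c).1.u + (lift c).1.c * (lift c).1.c ^ q
          rw [hlift]; linear_combination -(lift c).1.u * h2
      show τ₁ c * (τ₁ c) ^ q = τ₀ (c * c ^ q)
      rw [← hτ₀u _ hK, e, map_mul]
      show (τ (lift c)).1.c * (τ (lift c)).1.c ^ q =
        (τ (lift c)).1.u + (τ (lift c)).1.u + (τ (lift c)).1.c * (τ (lift c)).1.c ^ q
      linear_combination -(τ (lift c)).1.u * h2
  rcases hD.dich with hfix | ⟨θ, ε, w, hθK, hadd, hmul, h1, hinv, hεK, hε, hw, ht, hn⟩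
  · have hzK : z.1.u ^ q = z.1.u := by
      have hm : z.1.u + z.1.u ^ q = z.1.c * z.1.c ^ q := z.2
      rw [hz, zero_mul] at hm
      linear_combination hm - z.1.u * h2
    have ez : (⟨⟨0, z.1.u⟩, hzel _ hzK⟩ : ↥(U3 hF)) = z := by
      apply Subtype.ext
      apply Heis.ext
      · exact hz.symm
      · rfl
    have h4 : (τ ⟨⟨0, z.1.u⟩, hzel _ hzK⟩).1.u = z.1.u := by
      rw [hτ₀u _ hzK]; exact hfix _ hzK
    rw [ez] at h4
    apply Subtype.ext
    apply Heis.ext
    · rw [hτc z hz, hz]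
    · exact h4
  · exact (fin_contra hF h2 θ ε w hθK hadd hmul h1 hinv hεK hε hw ht hn).elim

end Cfsg.Agent.Lib.Helper28.U3A
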