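import Mathlib
import Cfsg.Prelude.Def_Solvable
import Cfsg.Prelude.Def_Transfer
import Cfsg.Agent.Lib.Helper60.U3Base
import Cfsg.Agent.Lib.Helper55.Basic
import Cfsg.Agent.Lib.Helper28.U3Cnt

set_option autoImplicit false
set_option linter.style.haveILetI false
set_option linter.unusedSimpArgs false
set_option linter.unusedVariables false

/-! The 2-core and the order of the automorphism group of the Sylow 2-subgroup model `U3` of
`SU₃(q)`, `q` even (helper28). -/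

namespace Cfsg.Agent.Lib.Helper28.U3G

open Cfsg.Agent.Lib.Helper60 Cfsg.Agent.Lib.Helper7 Cfsg.Agent.Lib.Helper28.U3A
  Cfsg.Agent.Lib.Helper28.U3S

variable {F : Type*} [Field F] [Fintype F] {q : ℕ}

theorem c1_pow (hF : Fintype.card F = q ^ 2) (h2 : (2 : F) = 0) (κ : MulAut ↥(U3 hF)) (lam : F)
    (hκ : ∀ c, c1 hF κ c = lam * c) (m : ℕ) (c : F) : c1 hF (κ ^ m) c = lam ^ m * c := by
  induction m generalizing c with
  | zero => rw [pow_zero, pow_zero, c1_one, one_mul]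
  | succ m ih =>
    rw [pow_succ, c1_mul hF h2, hκ, ih, pow_succ]
    ring

theorem scalar_one (hF : Fintype.card F = q ^ 2) (h2 : (2 : F) = 0) (hodd : ¬ 2 ∣ (q ^ 2 - 1))
    (κ : MulAut ↥(U3 hF)) (k : ℕ) (hk : κ ^ (2 ^ k) = 1) (lam : F)
    (hκ : ∀ c, c1 hF κ c = lam * c) : lam = 1 := by
  have h1 := c1_pow hF h2 κ lam hκ (2 ^ k) 1
  rw [hk, c1_one, mul_one] at h1
  have hlam0 : lam ≠ 0 := by
    intro h0
    rw [h0, zero_pow (by positivity)] at h1
    exact one_ne_zero h1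
  have h3 : lam ^ (q ^ 2 - 1) = 1 := by
    have := FiniteField.pow_card_sub_one_eq_one lam hlam0
    rwa [hF] at this
  have hd1 : orderOf lam ∣ 2 ^ k := orderOf_dvd_of_pow_eq_one h1.symm
  have hd2 : orderOf lam ∣ q ^ 2 - 1 := orderOf_dvd_of_pow_eq_one h3
  have hcop : Nat.Coprime (2 ^ k) (q ^ 2 - 1) :=
    Nat.Coprime.pow_left k ((Nat.Prime.coprime_iff_not_dvd Nat.prime_two).mpr hodd)
  have h4 := Nat.dvd_gcd hd1 hd2
  rw [hcop.gcd_eq_one] at h4
  exact orderOf_eq_one_iff.mp (Nat.dvd_one.mp h4)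

theorem pCore_eq_ker (hF : Fintype.card F = q ^ 2) (h2 : (2 : F) = 0)
    (hodd : ¬ 2 ∣ (q ^ 2 - 1)) :
    Cfsg.pCore 2 (MulAut ↥(U3 hF)) = (Phi hF h2).ker := by
  apply le_antisymm
  · intro τ hτ
    have hOn : (Cfsg.pCore 2 (MulAut ↥(U3 hF))).Normal := Cfsg.Agent.Lib.Helper55.pCore_normal
    have hOp : IsPGroup 2 ↥(Cfsg.pCore 2 (MulAut ↥(U3 hF))) :=
      Cfsg.Agent.Lib.Helper55.pCore_isPGroup
    have hpow : ∀ κ ∈ Cfsg.pCore 2 (MulAut ↥(U3 hF)), ∃ k : ℕ, κ ^ (2 ^ k) = 1 := by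
      intro κ hκ
      obtain ⟨k, hk⟩ := hOp ⟨κ, hκ⟩
      refine ⟨k, ?_⟩
      have := congrArg Subtype.val hk
      simpa using this
    obtain ⟨hμ, ρ, hρ⟩ := c1_form hF h2 τ
    have hρfix : ∀ ν : F, ν ≠ 0 → ρ ν = ν := by
      intro ν hν
      obtain ⟨m, hm⟩ : ∃ m : MulAut ↥(U3 hF), m = mkAut hF ν hν (RingHom.id F) := ⟨_, rfl⟩
      have hκmem : τ * (m * τ⁻¹ * m⁻¹) ∈ Cfsg.pCore 2 (MulAut ↥(U3 hF)) :=
        Subgroup.mul_mem _ hτ (hOn.conj_mem τ⁻¹ (Subgroup.inv_mem _ hτ) m)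
      obtain ⟨k, hk⟩ := hpow _ hκmem
      have hm1 : ∀ c, c1 hF m c = ν * c := fun c => by
        rw [hm, c1_mkAut]
        rfl
      have hm2 : ∀ c, c1 hF m⁻¹ c = ν⁻¹ * c := by
        intro c
        have := c1_inv_left hF h2 m (ν⁻¹ * c)
        rw [hm1, mul_inv_cancel_left₀ hν] at this
        exact this
      have hκ : ∀ c, c1 hF (τ * (m * τ⁻¹ * m⁻¹)) c = (ρ ν * ν⁻¹) * c := by
        intro c
        have h5 := c1_inv_right hF h2 τ (ν⁻¹ * c)
        rw [hρ] at h5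
        rw [c1_mul hF h2, c1_mul hF h2, c1_mul hF h2, hm2, hm1, hρ, map_mul]
        linear_combination (ρ ν) * h5
      have h6 := scalar_one hF h2 hodd _ k hk _ hκ
      field_simp at h6
      exact h6
    have hτc : ∀ c, c1 hF τ c = c1 hF τ 1 * c := by
      intro c
      rw [hρ c]
      by_cases hc : c = 0
      · rw [hc, map_zero]
      · rw [hρfix c hc]
    obtain ⟨k, hk⟩ := hpow τ hτ
    have h7 := scalar_one hF h2 hodd τ k hk _ hτc
    rw [mem_ker_iff]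
    intro c
    rw [hτc c, h7, one_mul]
  · apply Cfsg.Agent.Lib.Helper55.le_pCore (MonoidHom.normal_ker _)
    rintro ⟨τ, hτ⟩
    refine ⟨1, ?_⟩
    apply Subtype.ext
    show τ ^ 2 ^ 1 = 1
    rw [pow_one, pow_two]
    exact ker_sq hF h2 τ hτ

/-- The automorphism group of `U3` over the field with `4^n` elements: its 2-core is elementary
abelian of order `2^(2n²)` and its order is `2^(2n²) · 2n(q² - 1)`. -/
theorem main_U {n : ℕ} (hn : 1 ≤ n) (hF : Fintype.card F = (2 ^ n) ^ 2) :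
    Cfsg.IsElementaryAbelian 2 (Cfsg.pCore 2 (MulAut ↥(U3 hF))) ∧
      Nat.card ↥(Cfsg.pCore 2 (MulAut ↥(U3 hF))) = 2 ^ (2 * n ^ 2) ∧
      Nat.card (MulAut ↥(U3 hF)) = 2 ^ (2 * n ^ 2) * (2 * n * ((2 ^ n) ^ 2 - 1)) := by
  have h2 : (2 : F) = 0 := two_eq_zero_of_card (m := n * 2) (by rw [hF, ← pow_mul])
  haveI : CharP F 2 := CharTwo.of_one_ne_zero_of_two_eq_zero one_ne_zero h2
  letI : Algebra (ZMod 2) F := ZMod.algebra F 2
  have hfr : Module.finrank (ZMod 2) F = 2 * n := by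
    have h1 := Module.card_eq_pow_finrank (K := ZMod 2) (V := F)
    rw [ZMod.card, hF, ← pow_mul] at h1
    have := Nat.pow_right_injective (le_refl 2) h1
    omega
  obtain ⟨k, hk⟩ : ∃ k, 2 ^ n = 2 * k := ⟨2 ^ (n - 1), by
    rw [← pow_succ']; congr 1; omega⟩
  have hkpos : 0 < k := by
    rcases Nat.eq_zero_or_pos k with h0 | h0
    · rw [h0] at hk; simp at hk
    · exact h0
  have hodd : ¬ 2 ∣ ((2 ^ n) ^ 2 - 1) := by
    have : (2 ^ n) ^ 2 = 2 * (2 * k * k) := by rw [hk]; ring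
    rw [this]
    have : 0 < 2 * k * k := by positivity
    omega
  have hker := card_ker hF h2
  rw [hfr] at hker
  have hker' : Nat.card ↥(Phi hF h2).ker = 2 ^ (2 * n ^ 2) := by
    rw [hker, ← pow_mul]
    congr 1
    ring
  have hcore := pCore_eq_ker hF h2 hodd
  refine ⟨?_, ?_, ?_⟩
  · rw [hcore]
    refine ⟨⟨⟨fun a b => Subtype.ext (ker_comm hF h2 a.1 b.1 a.2 b.2)⟩⟩, fun a ha => ?_⟩
    rw [pow_two]
    exact ker_sq hF h2 a ha
  · rw [hcore]
    exact hker'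
  · rw [card_aut hF h2, hker', card_ringHom, hfr, Nat.card_units, Nat.card_eq_fintype_card, hF,
      mul_comm ((2 ^ n) ^ 2 - 1) (2 * n)]

theorem pCore_map_le {G H : Type*} [Group G] [Group H] (p : ℕ) (E : G ≃* H) :
    (Cfsg.pCore p G).map E.toMonoidHom ≤ Cfsg.pCore p H := by
  haveI : (Cfsg.pCore p G).Normal := Cfsg.Agent.Lib.Helper55.pCore_normal
  exact Cfsg.Agent.Lib.Helper55.le_pCore
    (Subgroup.Normal.map inferInstance E.toMonoidHom E.surjective)
    (Cfsg.Agent.Lib.Helper55.pCore_isPGroup.map E.toMonoidHom)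

theorem pCore_map_equiv {G H : Type*} [Group G] [Group H] (p : ℕ) (E : G ≃* H) :
    (Cfsg.pCore p G).map E.toMonoidHom = Cfsg.pCore p H := by
  apply le_antisymm (pCore_map_le p E)
  have h1 := Subgroup.map_mono (f := E.toMonoidHom) (pCore_map_le p E.symm)
  rw [Subgroup.map_map] at h1
  have h3 : E.toMonoidHom.comp E.symm.toMonoidHom = MonoidHom.id H := by
    ext x
    simp
  rw [h3, Subgroup.map_id] at h1
  exact h1

end Cfsg.Agent.Lib.Helper28.U3G
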