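import Mathlib
import Cfsg.Agent.Lib.Helper60.U3Base
import Cfsg.Agent.Lib.Helper28.U3Aut
import Cfsg.Agent.Lib.Helper28.U3Semi

set_option autoImplicit false
set_option linter.style.haveILetI false
set_option linter.unusedSimpArgs false
set_option linter.unusedVariables false

/-! The automorphism group of the Sylow 2-subgroup model `U3` of `SU₃(q)`, `q` even: the action
on the central quotient (helper28). -/

namespace Cfsg.Agent.Lib.Helper28.U3G

open Cfsg.Agent.Lib.Helper60 Cfsg.Agent.Lib.Helper7 Cfsg.Agent.Lib.Helper28.U3A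
  Cfsg.Agent.Lib.Helper28.U3S

variable {F : Type*} [Field F] [Fintype F] {q : ℕ}

/-- A chosen element of `U3` with given first coordinate. -/
noncomputable def lft (hF : Fintype.card F = q ^ 2) (c : F) : ↥(U3 hF) :=
  Classical.choose (exists_lift hF c)

theorem lft_c (hF : Fintype.card F = q ^ 2) (c : F) : (lft hF c).1.c = c :=
  Classical.choose_spec (exists_lift hF c)

theorem zel_mem (hF : Fintype.card F = q ^ 2) (h2 : (2 : F) = 0) (y : F) (hy : y ^ q = y) :
    (⟨0, y⟩ : Heis F (frobQ hF)) ∈ U3 hF := by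
  show y + y ^ q = 0 * (0 : F) ^ q
  rw [hy]; linear_combination y * h2

/-- The central element `(0, y)`. -/
def zel (hF : Fintype.card F = q ^ 2) (h2 : (2 : F) = 0) (y : F) (hy : y ^ q = y) : ↥(U3 hF) :=
  ⟨⟨0, y⟩, zel_mem hF h2 y hy⟩

theorem aut_c_zero (hF : Fintype.card F = q ^ 2) (h2 : (2 : F) = 0) (τ : MulAut ↥(U3 hF))
    (a : ↥(U3 hF)) (ha : a.1.c = 0) : (τ a).1.c = 0 := by
  apply c_zero_of_central hF h2
  intro b
  have h1 := central_of_c_zero hF a ha (τ.symm b)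
  have h3 := congrArg τ h1
  rw [map_mul, map_mul, MulEquiv.apply_symm_apply] at h3
  exact h3

theorem aut_c_congr (hF : Fintype.card F = q ^ 2) (h2 : (2 : F) = 0) (τ : MulAut ↥(U3 hF))
    (a b : ↥(U3 hF)) (hab : a.1.c = b.1.c) : (τ a).1.c = (τ b).1.c := by
  have h1 : (a⁻¹ * b).1.c = 0 := by
    show -a.1.c + b.1.c = 0
    rw [hab]; ring
  have h3 := aut_c_zero hF h2 τ _ h1
  rw [map_mul, map_inv] at h3
  have h4 : -(τ a).1.c + (τ b).1.c = 0 := h3
  linear_combination -h4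

/-- The map induced on the first coordinate. -/
noncomputable def c1 (hF : Fintype.card F = q ^ 2) (τ : MulAut ↥(U3 hF)) (c : F) : F :=
  (τ (lft hF c)).1.c

theorem c1_spec (hF : Fintype.card F = q ^ 2) (h2 : (2 : F) = 0) (τ : MulAut ↥(U3 hF))
    (a : ↥(U3 hF)) : (τ a).1.c = c1 hF τ a.1.c :=
  aut_c_congr hF h2 τ a (lft hF a.1.c) (lft_c hF _).symm

theorem c1_one (hF : Fintype.card F = q ^ 2) (c : F) : c1 hF 1 c = c := lft_c hF c

theorem c1_mul (hF : Fintype.card F = q ^ 2) (h2 : (2 : F) = 0) (τ τ' : MulAut ↥(U3 hF))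
    (c : F) : c1 hF (τ * τ') c = c1 hF τ (c1 hF τ' c) := by
  show (τ (τ' (lft hF c))).1.c = _
  rw [c1_spec hF h2 τ]
  rfl

theorem c1_add (hF : Fintype.card F = q ^ 2) (h2 : (2 : F) = 0) (τ : MulAut ↥(U3 hF))
    (a b : F) : c1 hF τ (a + b) = c1 hF τ a + c1 hF τ b := by
  have h1 := c1_spec hF h2 τ (lft hF a * lft hF b)
  rw [map_mul] at h1
  have h3 : (lft hF a * lft hF b).1.c = a + b := by
    show (lft hF a).1.c + (lft hF b).1.c = a + b
    rw [lft_c, lft_c]
  rw [h3] at h1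
  exact h1.symm

theorem c1_inv_left (hF : Fintype.card F = q ^ 2) (h2 : (2 : F) = 0) (τ : MulAut ↥(U3 hF))
    (c : F) : c1 hF τ⁻¹ (c1 hF τ c) = c := by
  rw [← c1_mul hF h2, inv_mul_cancel, c1_one]

theorem c1_inv_right (hF : Fintype.card F = q ^ 2) (h2 : (2 : F) = 0) (τ : MulAut ↥(U3 hF))
    (c : F) : c1 hF τ (c1 hF τ⁻¹ c) = c := by
  rw [← c1_mul hF h2, mul_inv_cancel, c1_one]

/-- The action on the first coordinate, as a homomorphism to permutations. -/
noncomputable def Phi (hF : Fintype.card F = q ^ 2) (h2 : (2 : F) = 0) :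
    MulAut ↥(U3 hF) →* Equiv.Perm F where
  toFun τ := ⟨c1 hF τ, c1 hF τ⁻¹, c1_inv_left hF h2 τ, c1_inv_right hF h2 τ⟩
  map_one' := Equiv.ext fun c => c1_one hF c
  map_mul' τ τ' := Equiv.ext fun c => c1_mul hF h2 τ τ' c

theorem Phi_apply (hF : Fintype.card F = q ^ 2) (h2 : (2 : F) = 0) (τ : MulAut ↥(U3 hF))
    (c : F) : Phi hF h2 τ c = c1 hF τ c := rfl

theorem mem_ker_iff (hF : Fintype.card F = q ^ 2) (h2 : (2 : F) = 0) (τ : MulAut ↥(U3 hF)) :
    τ ∈ (Phi hF h2).ker ↔ ∀ c, c1 hF τ c = c := by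
  rw [MonoidHom.mem_ker]
  constructor
  · intro h c
    have := congrArg (fun e : Equiv.Perm F => e c) h
    exact this
  · intro h
    exact Equiv.ext fun c => h c

/-- The map induced on the centre (second coordinate). -/
noncomputable def z0 (hF : Fintype.card F = q ^ 2) (h2 : (2 : F) = 0) (τ : MulAut ↥(U3 hF))
    (y : F) : F :=
  open Classical in if hy : y ^ q = y then (τ (zel hF h2 y hy)).1.u else 0

theorem z0_spec (hF : Fintype.card F = q ^ 2) (h2 : (2 : F) = 0) (τ : MulAut ↥(U3 hF))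
    (y : F) (hy : y ^ q = y) : (τ (zel hF h2 y hy)).1.u = z0 hF h2 τ y := by
  simp only [z0, dif_pos hy]

theorem zel_c (hF : Fintype.card F = q ^ 2) (h2 : (2 : F) = 0) (τ : MulAut ↥(U3 hF))
    (y : F) (hy : y ^ q = y) : (τ (zel hF h2 y hy)).1.c = 0 :=
  aut_c_zero hF h2 τ _ rfl

theorem sq_eq_zel (hF : Fintype.card F = q ^ 2) (h2 : (2 : F) = 0) (a : ↥(U3 hF))
    (hK : (a.1.c * a.1.c ^ q) ^ q = a.1.c * a.1.c ^ q) :
    a * a = zel hF h2 (a.1.c * a.1.c ^ q) hK := by
  apply Subtype.ext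
  apply Heis.ext
  · show a.1.c + a.1.c = 0
    linear_combination a.1.c * h2
  · show a.1.u + a.1.u + a.1.c * a.1.c ^ q = a.1.c * a.1.c ^ q
    linear_combination a.1.u * h2

theorem norm_fix (hF : Fintype.card F = q ^ 2) (c : F) : (c * c ^ q) ^ q = c * c ^ q := by
  rw [mul_pow, herm_pow_pow hF, mul_comm]

/-- The data of an automorphism satisfy the semilinearity hypotheses. -/
theorem dat2 (hF : Fintype.card F = q ^ 2) (h2 : (2 : F) = 0) (τ : MulAut ↥(U3 hF)) :
    Dat2 (frobQ hF) (c1 hF τ) (z0 hF h2 τ) := by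
  refine ⟨frobQ_frobQ hF, h2, fun f hf => trace_surj hF f hf, ?_, c1_add hF h2 τ, ?_, ?_, ?_, ?_⟩
  · intro y hy
    by_cases hy0 : y = 0
    · exact ⟨0, by rw [hy0, zero_mul]⟩
    · obtain ⟨t, -, ht⟩ := herm_norm_surj hF y hy0 hy
      exact ⟨t, by rw [← ht, pow_succ']; rfl⟩
  · intro a b hab
    have := congrArg (c1 hF τ⁻¹) hab
    rw [c1_inv_left hF h2, c1_inv_left hF h2] at this
    exact this
  · intro x y hx hy
    change x ^ q = x at hx
    change y ^ q = y at hy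
    have hxy : (x + y) ^ q = x + y := by rw [herm_add_pow hF, hx, hy]
    have e : zel hF h2 (x + y) hxy = zel hF h2 x hx * zel hF h2 y hy := by
      apply Subtype.ext
      apply Heis.ext
      · show (0 : F) = 0 + 0
        ring
      · show x + y = x + y + 0 * (0 : F) ^ q
        ring
    rw [← z0_spec hF h2 τ _ hxy, e, map_mul, ← z0_spec hF h2 τ x hx, ← z0_spec hF h2 τ y hy]
    show (τ (zel hF h2 x hx)).1.u + (τ (zel hF h2 y hy)).1.u +
      (τ (zel hF h2 x hx)).1.c * (τ (zel hF h2 y hy)).1.c ^ q = _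
    rw [zel_c hF h2 τ x hx]; ring
  · intro x y hx hy hxy
    change x ^ q = x at hx
    change y ^ q = y at hy
    rw [← z0_spec hF h2 τ x hx, ← z0_spec hF h2 τ y hy] at hxy
    have h1 : τ (zel hF h2 x hx) = τ (zel hF h2 y hy) := by
      apply Subtype.ext
      apply Heis.ext
      · rw [zel_c, zel_c]
      · exact hxy
    have h3 := τ.injective h1
    have h4 := congrArg (fun a : ↥(U3 hF) => a.1.u) h3
    exact h4
  · intro c
    have hK := norm_fix hF c
    have hK' : ((lft hF c).1.c * (lft hF c).1.c ^ q) ^ q =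
        (lft hF c).1.c * (lft hF c).1.c ^ q := norm_fix hF _
    have e := sq_eq_zel hF h2 (lft hF c) hK'
    have e' : zel hF h2 ((lft hF c).1.c * (lft hF c).1.c ^ q) hK' = zel hF h2 (c * c ^ q) hK := by
      apply Subtype.ext
      apply Heis.ext
      · rfl
      · show (lft hF c).1.c * (lft hF c).1.c ^ q = c * c ^ q
        rw [lft_c]
    rw [e'] at e
    show c1 hF τ c * (c1 hF τ c) ^ q = z0 hF h2 τ (c * c ^ q)
    rw [← z0_spec hF h2 τ _ hK, ← e, map_mul]
    show (τ (lft hF c)).1.c * (τ (lft hF c)).1.c ^ q =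
      (τ (lft hF c)).1.u + (τ (lft hF c)).1.u + (τ (lft hF c)).1.c * (τ (lft hF c)).1.c ^ q
    linear_combination -(τ (lft hF c)).1.u * h2

/-- The action of an automorphism on the first coordinate is a nonzero scalar times a ring
endomorphism. -/
theorem c1_form (hF : Fintype.card F = q ^ 2) (h2 : (2 : F) = 0) (τ : MulAut ↥(U3 hF)) :
    c1 hF τ 1 ≠ 0 ∧ ∃ ρ : F →+* F, ∀ c, c1 hF τ c = c1 hF τ 1 * ρ c := by
  have hD := dat2 hF h2 τ
  obtain ⟨ρ, -, hρ⟩ := hD.exists_ringHom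
  exact ⟨hD.mu_ne, ρ, hρ⟩

end Cfsg.Agent.Lib.Helper28.U3G
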